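import Groth.Agent.FlatMorAdm.Compactify
import Groth.Agent.Coherent.Chow
import Groth.Agent.WeilLib.Cycles
import Groth.Agent.MorProj.QuasiAff
import Groth.Agent.H8Lim.ApproxClosed
import Groth.Agent.H8Lim.DescentMore
import Groth.Agent.S0590
import Groth.Agent.S0591
import Groth.Agent.S9190

/-!
# Nagata compactification
-/

set_option autoImplicit false
set_option backward.isDefEq.respectTransparency.types false

universe u

open CategoryTheory Limits AlgebraicGeometry TopologicalSpace

namespace Groth.Agent.FlatMorAdm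

/-- `f` factors as a quasi-compact open immersion followed by a proper morphism. -/
def Compactifiable {X S : Scheme.{u}} (f : X ⟶ S) : Prop :=
  ∃ (Y : Scheme.{u}) (j : X ⟶ Y) (p : Y ⟶ S),
    IsOpenImmersion j ∧ QuasiCompact j ∧ IsProper p ∧ j ≫ p = f

theorem compactifiable_iso {X X' S : Scheme.{u}} (e : X' ⟶ X) [IsIso e] {f : X ⟶ S}
    (h : Compactifiable f) : Compactifiable (e ≫ f) := by
  obtain ⟨Y, j, p, hj, hjc, hp, hjp⟩ := h
  exact ⟨Y, e ≫ j, p, inferInstance, inferInstance, hp, by rw [Category.assoc, hjp]⟩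

/-- A quasi-compact immersion into a proper scheme gives a compactification. -/
theorem compactifiable_of_isImmersion {X P S : Scheme.{u}} {f : X ⟶ S} (i : X ⟶ P) [IsImmersion i]
    [QuasiCompact i] (p : P ⟶ S) [IsProper p] (h : i ≫ p = f) : Compactifiable f := by
  refine ⟨i.image, i.toImage, i.imageι ≫ p, inferInstance, ?_, inferInstance, by
    rw [Scheme.Hom.toImage_imageι_assoc, h]⟩
  haveI : QuasiCompact (i.toImage ≫ i.imageι) := by rw [Scheme.Hom.toImage_imageι]; infer_instance
  exact MorphismProperty.of_postcomp (W := @QuasiCompact.{u}) (W' := @QuasiSeparated.{u}) i.toImage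
    i.imageι inferInstance inferInstance

theorem compactifiable_of_immersion_model {W S T : Scheme.{u}} [CompactSpace S] [QuasiSeparatedSpace S]
    [CompactSpace W] [IsAffine T] (h : T ⟶ Spec (CommRingCat.of (ULift.{u} ℤ))) [LocallyOfFiniteType h]
    (i : W ⟶ pullback (terminal.from S) (terminal.from T)) [IsImmersion i] (π : W ⟶ S)
    (hiπ : i ≫ pullback.fst _ _ = π) : Compactifiable π := by
  obtain ⟨m, e, he, hew⟩ := Coherent.exists_immersion_projSpace (R := ULift.{u} ℤ) h
  let τ := specULiftZIsTerminal.from (⊤_ Scheme.{u})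
  haveI : IsIso τ :=
    ⟨terminal.from _, terminal.hom_ext _ _, specULiftZIsTerminal.hom_ext _ _⟩
  let ν := pullback.map (terminal.from T) (terminal.from S) (terminal.from T ≫ τ) (terminal.from S ≫ τ)
        (𝟙 _) (𝟙 _) τ (Category.id_comp _).symm (Category.id_comp _).symm
  haveI : IsIso ν := pullback.map_isIso _ _ _ _ _ _ _ _ _
  let ρ := pullback.map (terminal.from T ≫ τ) (terminal.from S ≫ τ)
        (CohB1.ProjSpace.toSpec m (ULift.{u} ℤ)) (specULiftZIsTerminal.from S) e (𝟙 S) (𝟙 _)
        (specULiftZIsTerminal.hom_ext _ _) (specULiftZIsTerminal.hom_ext _ _)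
  haveI : IsImmersion ρ :=
    MorphismProperty.pullbackMap (P := @IsImmersion) he (inferInstance : IsImmersion (𝟙 S))
      (specULiftZIsTerminal.hom_ext _ _) (specULiftZIsTerminal.hom_ext _ _)
  let μ : pullback (terminal.from S) (terminal.from T) ⟶ CohB1.ProjSpaceOver m S :=
    ((pullbackSymmetry _ _).hom ≫ ν) ≫ ρ
  haveI : IsImmersion μ := @IsImmersion.comp _ _ _ _ _ inferInstance ‹_›
  have hμ : μ ≫ CohB1.ProjSpaceOver.toBase m S = pullback.fst (terminal.from S) (terminal.from T) := by
    simp only [μ, ν, ρ, CohB1.ProjSpaceOver.toBase, pullback.map, Category.assoc, pullback.lift_snd,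
      pullback.lift_snd_assoc, Category.comp_id]
    erw [pullback.lift_snd]
    refine Eq.trans ?_ (pullbackSymmetry_hom_comp_snd (terminal.from S) (terminal.from T))
    exact congrArg ((pullbackSymmetry (terminal.from S) (terminal.from T)).hom ≫ ·) (pullback.lift_snd _ _ _)
  haveI : CompactSpace (CohB1.ProjSpaceOver m S) :=
    QuasiCompact.compactSpace_of_compactSpace (CohB1.ProjSpaceOver.toBase m S)
  haveI : QuasiSeparatedSpace (CohB1.ProjSpaceOver m S) :=
    quasiSeparatedSpace_of_quasiSeparated (CohB1.ProjSpaceOver.toBase m S)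
  haveI : IsImmersion (i ≫ μ) := @IsImmersion.comp _ _ _ _ _ ‹_› ‹_›
  haveI : QuasiCompact (i ≫ μ) := quasiCompact_of_compactSpace _
  exact compactifiable_of_isImmersion (i ≫ μ) (CohB1.ProjSpaceOver.toBase m S)
    (by rw [Category.assoc, hμ]; exact hiπ)

theorem compactifiable_of_isAffine {W S : Scheme.{u}} [CompactSpace S] [QuasiSeparatedSpace S]
    (π : W ⟶ S) [IsAffine W] [LocallyOfFiniteType π] : Compactifiable π := by
  obtain ⟨n, i, hi, hiπ⟩ := MorProj.exists_immersion_affineSpace π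
  haveI : LocallyOfFiniteType (Spec.map (CommRingCat.ofHom
      (algebraMap (ULift.{u} ℤ) (MvPolynomial (ULift.{u} (Fin n)) (ULift.{u} ℤ))))) :=
    (HasRingHomProperty.Spec_iff (P := @LocallyOfFiniteType)).2
      (RingHom.finiteType_algebraMap.2 inferInstance)
  exact @compactifiable_of_immersion_model _ _ _ _ _ _ _ (Spec.map (CommRingCat.ofHom
      (algebraMap (ULift.{u} ℤ) (MvPolynomial (ULift.{u} (Fin n)) (ULift.{u} ℤ))))) ‹_› i hi π hiπ

theorem exists_dense_affine {X : Scheme.{u}} [NoetherianSpace X] (x : X) :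
    ∃ A : X.Opens, IsAffineOpen A ∧ x ∈ A ∧ Dense (A : Set X) := by
  obtain ⟨A, ⟨hA, hx⟩, hmax⟩ := (wellFounded_gt (α := X.Opens)).has_min
    {A : X.Opens | IsAffineOpen A ∧ x ∈ A} (by
      obtain ⟨A, hA, hxA, -⟩ := exists_isAffineOpen_mem_and_subset (x := x) (U := ⊤) trivial
      exact ⟨A, hA, hxA⟩)
  refine ⟨A, hA, hx, dense_iff_inter_open.2 fun G hG ⟨y, hy⟩ => ?_⟩
  by_contra hne
  obtain ⟨B, hB, hyB, hBG⟩ := exists_isAffineOpen_mem_and_subset (x := y) (U := ⟨G, hG⟩) hy
  have hd : Disjoint A B := by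
    rw [disjoint_iff]
    refine Opens.ext (Set.eq_empty_iff_forall_notMem.2 fun z hz => hne ⟨z, hBG hz.2, hz.1⟩)
  refine hmax (A ⊔ B) ⟨hA.sup_of_disjoint hB (by simpa using hd), Or.inl hx⟩ ?_
  refine lt_of_le_of_ne le_sup_left fun h => hne ⟨y, hy, ?_⟩
  rw [h]
  exact Or.inr hyB

/-- Nagata compactification over a Noetherian base. -/
theorem compactifiable_of_isNoetherian {X S : Scheme.{u}} [IsNoetherian S] (g : X ⟶ S) [IsSeparated g]
    [LocallyOfFiniteType g] [QuasiCompact g] : Compactifiable g := by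
  classical
  haveI : CompactSpace X := QuasiCompact.compactSpace_of_compactSpace g
  haveI : IsLocallyNoetherian X := LocallyOfFiniteType.isLocallyNoetherian g
  haveI : IsNoetherian X := {}
  choose A hA hxA hAd using exists_dense_affine (X := X)
  have hcpt : ∀ U : X.Opens, CompactSpace (U : Scheme.{u}) := fun U =>
    isCompact_iff_compactSpace.1 (NoetherianSpace.isCompact _)
  have key : ∀ s : Finset X, Compactifiable ((s.sup A).ι ≫ g) := by
    intro s
    induction s using Finset.induction with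
    | empty =>
      haveI : IsAffine ((∅ : Finset X).sup A : X.Opens) := by
        rw [Finset.sup_empty]; exact isAffineOpen_bot X
      exact compactifiable_of_isAffine _
    | insert a t hat ih =>
      rw [Finset.sup_insert]
      rcases t.eq_empty_or_nonempty with rfl | ⟨b, hb⟩
      · rw [Finset.sup_empty, sup_bot_eq]
        haveI : IsAffine (A a : Scheme.{u}) := hA a
        exact compactifiable_of_isAffine _
      set U := A a ⊔ t.sup A with hU
      haveI := hcpt U
      haveI : QuasiCompact (U.ι ≫ g) := quasiCompact_of_compactSpace _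
      have hU₁ : Compactifiable ((U.ι ⁻¹ᵁ A a).ι ≫ U.ι ≫ g) := by
        haveI : IsAffine (A a : Scheme.{u}) := hA a
        let e := IsOpenImmersion.isoOfRangeEq ((U.ι ⁻¹ᵁ A a).ι ≫ U.ι) (A a).ι (by
          rw [Scheme.Hom.comp_base, TopCat.coe_comp, Set.range_comp, Scheme.Opens.range_ι,
            Scheme.Opens.range_ι]
          ext x
          exact ⟨fun ⟨y, hy, e⟩ => e ▸ hy, fun hx => ⟨⟨x, Or.inl hx⟩, hx, rfl⟩⟩)
        rw [← Category.assoc, show (U.ι ⁻¹ᵁ A a).ι ≫ U.ι = e.hom ≫ (A a).ι from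
          (IsOpenImmersion.isoOfRangeEq_hom_fac _ _ _).symm, Category.assoc]
        exact compactifiable_iso e.hom (compactifiable_of_isAffine _)
      have hU₂ : Compactifiable ((U.ι ⁻¹ᵁ t.sup A).ι ≫ U.ι ≫ g) := by
        let e := IsOpenImmersion.isoOfRangeEq ((U.ι ⁻¹ᵁ t.sup A).ι ≫ U.ι) (t.sup A).ι (by
          rw [Scheme.Hom.comp_base, TopCat.coe_comp, Set.range_comp, Scheme.Opens.range_ι,
            Scheme.Opens.range_ι]
          ext x
          exact ⟨fun ⟨y, hy, e⟩ => e ▸ hy, fun hx => ⟨⟨x, Or.inr hx⟩, hx, rfl⟩⟩)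
        rw [← Category.assoc, show (U.ι ⁻¹ᵁ t.sup A).ι ≫ U.ι = e.hom ≫ (t.sup A).ι from
          (IsOpenImmersion.isoOfRangeEq_hom_fac _ _ _).symm, Category.assoc]
        exact compactifiable_iso e.hom ih
      have hcov : U.ι ⁻¹ᵁ A a ⊔ U.ι ⁻¹ᵁ t.sup A = ⊤ := by
        refine top_le_iff.1 fun x _ => ?_
        rcases x.2 with h | h
        exacts [Or.inl h, Or.inr h]
      have hd : Dense ((U.ι ⁻¹ᵁ A a ⊓ U.ι ⁻¹ᵁ t.sup A : Scheme.Opens _) : Set U) := by
        refine Dense.inter_of_isOpen_left ?_ ?_ (U.ι ⁻¹ᵁ A a).2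
        · exact (hAd a).preimage U.ι.isOpenEmbedding.isOpenMap
        · exact ((hAd b).mono (Finset.le_sup (f := A) hb)).preimage U.ι.isOpenEmbedding.isOpenMap
      obtain ⟨Y₁, j₁, p₁, hj₁, -, hp₁, e₁⟩ := hU₁
      obtain ⟨Y₂, j₂, p₂, hj₂, -, hp₂, e₂⟩ := hU₂
      exact exists_compactification_of_two (U.ι ≫ g) _ _ hcov hd j₁ p₁ e₁ j₂ p₂ e₂
  obtain ⟨s, hs⟩ := isCompact_univ.elim_finite_subcover (fun x : X => (A x : Set X))
    (fun x => (A x).2) (fun x _ => Set.mem_iUnion.2 ⟨x, hxA x⟩)
  have htop : s.sup A = ⊤ := top_le_iff.1 fun x hx => by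
    obtain ⟨y, hy, hxy⟩ := Set.mem_iUnion₂.1 (hs (Set.mem_univ x))
    exact (Finset.le_sup (f := A) hy) hxy
  have h := key s
  rw [htop] at h
  have e := compactifiable_iso X.topIso.inv h
  rwa [← Category.assoc, show X.topIso.inv ≫ (⊤ : X.Opens).ι = 𝟙 X from X.topIso.inv_hom_id,
    Category.id_comp] at e

/-- Nagata compactification. -/
theorem compactifiable {X S : Scheme.{u}} [CompactSpace S] [QuasiSeparatedSpace S] (f : X ⟶ S)
    [IsSeparated f] [QuasiCompact f] [LocallyOfFiniteType f] : Compactifiable f := by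
  haveI : CompactSpace X := QuasiCompact.compactSpace_of_compactSpace f
  haveI : QuasiSeparatedSpace X := quasiSeparatedSpace_of_quasiSeparated f
  obtain ⟨X', f', k, hlfp, hqc, hqs, hs, hk, hXc, hXq, hkf⟩ :=
    H8Lim.exists_isClosedImmersion_finitePresentation f
  haveI : IsSeparated f' := hs ‹_›
  obtain ⟨I, _, _, _, D, c, hc, haff, hD, ⟨e⟩⟩ := S0590.result S
  haveI := hD
  haveI : ∀ i, CompactSpace (D.obj i) := fun i => (hD i).1
  haveI : ∀ i, IsLocallyNoetherian (D.obj i) := fun i => by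
    haveI := (hD i).2
    haveI : IsNoetherianRing (ULift.{u} ℤ) := isNoetherianRing_of_ringEquiv ℤ ULift.ringEquiv.symm
    exact LocallyOfFiniteType.isLocallyNoetherian (IsTerminal.from specULiftZIsTerminal (D.obj i))
  haveI : ∀ i, QuasiSeparatedSpace (D.obj i) := fun i => inferInstance
  haveI : ∀ i, AlgebraicGeometry.IsNoetherian (D.obj i) := fun i => {}
  haveI : CompactSpace c.pt := e.hom.homeomorph.symm.compactSpace
  haveI : QuasiCompact (f' ≫ e.inv) := inferInstance
  obtain ⟨i, Xi, fi, q, hfp, hqc', hqs', sq⟩ := S0591.result D c hc X' (f' ≫ e.inv)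
  haveI : CompactSpace Xi := QuasiCompact.compactSpace_of_compactSpace fi
  haveI : QuasiSeparatedSpace Xi := quasiSeparatedSpace_of_quasiSeparated fi
  obtain ⟨j, φ, Xj, Yj, fj, gj, pY, pX, hYj, hXj, hsj⟩ := S9190.result D c hc i fi (𝟙 _)
    (f' ≫ e.inv) (𝟙 c.pt) (c.π.app i) q (IsPullback.of_horiz_isIso_mono ⟨by simp⟩).flip sq
  haveI : IsIso gj := hYj.flip.isIso_fst_of_isIso
  -- restate over the stage
  let fj' : Xj ⟶ D.obj j := fj ≫ gj
  have sqj : IsPullback pX fj' fi (D.map φ) := by
    have := hXj.paste_vert hYj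
    rwa [Category.comp_id] at this
  haveI : IsSeparated fj' := inferInstance
  haveI : LocallyOfFiniteType fj' := MorphismProperty.of_isPullback (P := @LocallyOfFiniteType) sqj inferInstance
  haveI : QuasiCompact fj' := MorphismProperty.of_isPullback (P := @QuasiCompact) sqj inferInstance
  obtain ⟨Y, o, p, ho, hoc, hp, hop⟩ := compactifiable_of_isNoetherian fj'
  -- the projection to the stage
  let qj : X' ⟶ Xj := sqj.lift q (f' ≫ e.inv ≫ c.π.app j) (by
    rw [Category.assoc, Category.assoc, sq.w, Category.assoc, c.w φ])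
  have sq' : IsPullback qj (f' ≫ e.inv) fj' (c.π.app j) := by
    refine IsPullback.of_right ?_ (by rw [sqj.lift_snd, Category.assoc]) sqj
    rw [sqj.lift_fst, c.w φ]
    exact sq
  -- base change the compactification
  let o' : X' ⟶ pullback p (c.π.app j) := pullback.lift (qj ≫ o) (f' ≫ e.inv) (by
    rw [Category.assoc, hop, sq'.w])
  have ho' : IsPullback qj o' o (pullback.fst p (c.π.app j)) := by
    refine IsPullback.of_bot ?_ (pullback.lift_fst _ _ _).symm (IsPullback.of_hasPullback p (c.π.app j))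
    rw [pullback.lift_snd, hop]
    exact sq'
  haveI : IsOpenImmersion o' := MorphismProperty.of_isPullback (P := @IsOpenImmersion) ho' ho
  haveI : QuasiCompact o' := MorphismProperty.of_isPullback (P := @QuasiCompact) ho' hoc
  refine compactifiable_of_isImmersion (k ≫ o') (pullback.snd p (c.π.app j) ≫ e.hom) ?_
  simp only [o', Category.assoc, pullback.lift_snd_assoc, e.inv_hom_id, Category.comp_id, hkf]

end Groth.Agent.FlatMorAdm
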