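import Groth.Agent.FlatMorAdm.ExtendLocFree
import Groth.Agent.FlatMorAdm.Nagata

/-!
# Applications of the extension of finite locally free modules and of Nagata compactification
-/

set_option autoImplicit false
set_option backward.isDefEq.respectTransparency.types false

universe v u

open CategoryTheory Limits AlgebraicGeometry TopologicalSpace

namespace Groth.Agent.FlatMorAdm

theorem isFinLocFree_of_iso {X : Scheme.{u}} {M N : X.Modules} (e : M ≅ N)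
    (h : FlatMod.IsFinLocFree M) : FlatMod.IsFinLocFree N := fun x => by
  obtain ⟨U, n, hx, ⟨φ⟩⟩ := h x
  exact ⟨U, n, hx, ⟨((Scheme.Modules.restrictFunctor U.ι).mapIso e).symm ≪≫ φ⟩⟩

theorem isFinLocFree_pullback {X Y : Scheme.{u}} (f : Y ⟶ X) {M : X.Modules}
    (h : FlatMod.IsFinLocFree M) : FlatMod.IsFinLocFree ((Scheme.Modules.pullback f).obj M) := fun y => by
  obtain ⟨U, n, hx, ⟨e⟩⟩ := h (f y)
  refine ⟨f ⁻¹ᵁ U, n, hx, ⟨?_⟩⟩
  exact (Scheme.Modules.restrictFunctorIsoPullback (f ⁻¹ᵁ U).ι).app _ ≪≫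
    ((Scheme.Modules.pullbackComp (f ⁻¹ᵁ U).ι f) ≪≫
      Scheme.Modules.pullbackCongr (morphismRestrict_ι f U).symm ≪≫
      (Scheme.Modules.pullbackComp (f ∣_ U) U.ι).symm).app M ≪≫
    (Scheme.Modules.pullback (f ∣_ U)).mapIso
      (((Scheme.Modules.restrictFunctorIsoPullback U.ι).app M).symm ≪≫ e) ≪≫
    PreservesCoproduct.iso (Scheme.Modules.pullback (f ∣_ U)) (fun _ : Fin n => Coh.structureModule _) ≪≫
    Sigma.mapIso fun _ => PicLoc.pullbackStructureIso (f ∣_ U)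

/-- Finitely many finite locally free modules on an open extend after one admissible blow-up. -/
theorem exists_blowUp_extend_family {X : Scheme.{u}} [IsNoetherian X] (U : X.Opens)
    {ι : Type v} [Finite ι] (E : ι → (U : Scheme.{u}).Modules) (hE : ∀ i, FlatMod.IsFinLocFree (E i)) :
    ∃ (I : X.IdealSheafData) (X' : Scheme.{u}) (b : X' ⟶ X), BlowUp.IsBlowUp b I ∧
      BlowUp.IsAdmissibleFor U I ∧ ModPairLib.IsDenseOpen (b ⁻¹ᵁ U) ∧
      ∀ i, ∃ E' : X'.Modules, FlatMod.IsFinLocFree E' ∧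
        Nonempty ((Scheme.Modules.pullback (b ⁻¹ᵁ U).ι).obj E' ≅ (Scheme.Modules.pullback (b ∣_ U)).obj (E i)) := by
  classical
  haveI := Fintype.ofFinite ι
  suffices key : ∀ s : Finset ι, ∃ (I : X.IdealSheafData) (X' : Scheme.{u}) (b : X' ⟶ X), BlowUp.IsBlowUp b I ∧
      BlowUp.IsAdmissibleFor U I ∧ ModPairLib.IsDenseOpen (b ⁻¹ᵁ U) ∧
      ∀ i ∈ s, ∃ E' : X'.Modules, FlatMod.IsFinLocFree E' ∧
        Nonempty ((Scheme.Modules.pullback (b ⁻¹ᵁ U).ι).obj E' ≅ (Scheme.Modules.pullback (b ∣_ U)).obj (E i)) by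
    obtain ⟨I, X', b, h1, h2, h3, h4⟩ := key Finset.univ
    exact ⟨I, X', b, h1, h2, h3, fun i => h4 i (Finset.mem_univ i)⟩
  intro s
  induction s using Finset.induction with
  | empty =>
    obtain ⟨Z, hZ, hZs⟩ := BlowUpLib.exists_finiteType_support_eq ((U : Set X)ᶜ) U.2.isClosed_compl
      (NoetherianSpace.isCompact _)
    obtain ⟨X', b, hb⟩ := BlowUpLib.exists_isBlowUp (I := Z)
    refine ⟨Z, X', b, hb, ⟨hZ, by rw [hZs]; exact disjoint_compl_left⟩,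
      (ModPairLib.isDenseOpen_interior hb.1).mono fun y hy => ?_, fun i hi => absurd hi (Finset.notMem_empty i)⟩
    have : y ∉ ((Z.comap b).support : Set X') := hy
    rw [Scheme.IdealSheafData.support_comap] at this
    by_contra h
    exact this (show b y ∈ (Z.support : Set X) by rw [hZs]; exact h)
  | insert a t _ ih =>
    obtain ⟨I, X₁, b₁, hb₁, hI, hd₁, h₁⟩ := ih
    haveI : IsProper b₁ := BlowUpLib.isProper_of_isBlowUp hb₁ hI.1
    haveI : CompactSpace X₁ := QuasiCompact.compactSpace_of_compactSpace b₁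
    haveI : IsLocallyNoetherian X₁ := LocallyOfFiniteType.isLocallyNoetherian b₁
    haveI : IsNoetherian X₁ := {}
    obtain ⟨J, X₂, b₂, hb₂, hJ, hd₂, F, hF, ⟨eF⟩⟩ :=
      exists_blowUp_extend_finLocFree (b₁ ⁻¹ᵁ U) _ (isFinLocFree_pullback (b₁ ∣_ U) (hE a))
    obtain ⟨K, hK, hKa⟩ := exists_isBlowUp_comp U hI hb₁ hJ hb₂
    refine ⟨K, X₂, b₂ ≫ b₁, hK, hKa, hd₂, fun i hi => ?_⟩
    have hfac : (Scheme.Modules.pullback ((b₂ ≫ b₁) ∣_ U)) ≅
        Scheme.Modules.pullback (b₁ ∣_ U) ⋙ Scheme.Modules.pullback (b₂ ∣_ (b₁ ⁻¹ᵁ U)) :=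
      Scheme.Modules.pullbackCongr (morphismRestrict_comp b₂ b₁ U) ≪≫
        (Scheme.Modules.pullbackComp (b₂ ∣_ (b₁ ⁻¹ᵁ U)) (b₁ ∣_ U)).symm
    rcases Finset.mem_insert.1 hi with rfl | hi
    · exact ⟨F, hF, ⟨eF ≪≫ (hfac.app _).symm⟩⟩
    · obtain ⟨E', hE', ⟨e'⟩⟩ := h₁ i hi
      refine ⟨(Scheme.Modules.pullback b₂).obj E', isFinLocFree_pullback b₂ hE', ⟨?_⟩⟩
      exact ((Scheme.Modules.pullbackComp (b₂ ⁻¹ᵁ (b₁ ⁻¹ᵁ U)).ι b₂) ≪≫
          Scheme.Modules.pullbackCongr (morphismRestrict_ι b₂ (b₁ ⁻¹ᵁ U)).symm ≪≫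
          (Scheme.Modules.pullbackComp (b₂ ∣_ (b₁ ⁻¹ᵁ U)) (b₁ ⁻¹ᵁ U).ι).symm).app E' ≪≫
        (Scheme.Modules.pullback (b₂ ∣_ (b₁ ⁻¹ᵁ U))).mapIso e' ≪≫ (hfac.app _).symm

/-- An open subscheme lifts schematically densely into an admissible blow-up extending the modules. -/
theorem exists_lift_extend_family {X Y : Scheme.{u}} [IsNoetherian Y] (j : X ⟶ Y) [IsOpenImmersion j]
    {ι : Type v} [Finite ι] (E : ι → X.Modules) (hE : ∀ i, FlatMod.IsFinLocFree (E i)) :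
    ∃ (I : Y.IdealSheafData) (Y' : Scheme.{u}) (b : Y' ⟶ Y) (k : X ⟶ Y'),
      BlowUp.IsBlowUp b I ∧ BlowUp.IsAdmissibleFor j.opensRange I ∧ IsProper b ∧ IsOpenImmersion k ∧
      QuasiCompact k ∧ IsSchemeTheoreticallyDominant k ∧ k ≫ b = j ∧
      ∀ i, ∃ E' : Y'.Modules, FlatMod.IsFinLocFree E' ∧
        Nonempty ((Scheme.Modules.pullback k).obj E' ≅ E i) := by
  let φ := j.isoOpensRange
  obtain ⟨I, Y', b, hb, hI, hd, h⟩ := exists_blowUp_extend_family j.opensRange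
    (fun i => (Scheme.Modules.pullback φ.inv).obj (E i)) (fun i => isFinLocFree_pullback _ (hE i))
  haveI : IsProper b := BlowUpLib.isProper_of_isBlowUp hb hI.1
  haveI : CompactSpace Y' := QuasiCompact.compactSpace_of_compactSpace b
  haveI : IsLocallyNoetherian Y' := LocallyOfFiniteType.isLocallyNoetherian b
  haveI : IsNoetherian Y' := {}
  haveI := ProjLib.isIso_morphismRestrict hb _ hI.2
  haveI := hd.isSTD
  haveI : QuasiCompact (b ⁻¹ᵁ j.opensRange).ι := by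
    haveI : CompactSpace ((b ⁻¹ᵁ j.opensRange : Y'.Opens) : Scheme.{u}) :=
      isCompact_iff_compactSpace.1 (NoetherianSpace.isCompact _)
    exact quasiCompact_of_compactSpace _
  let c : X ⟶ ((b ⁻¹ᵁ j.opensRange : Y'.Opens) : Scheme.{u}) := φ.hom ≫ inv (b ∣_ j.opensRange)
  refine ⟨I, Y', b, c ≫ (b ⁻¹ᵁ j.opensRange).ι, hb, hI, inferInstance, inferInstance, inferInstance,
    inferInstance, ?_, fun i => ?_⟩
  · simp only [c, φ, Category.assoc]
    rw [← morphismRestrict_ι, IsIso.inv_hom_id_assoc, Scheme.Hom.isoOpensRange_hom_ι]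
  · obtain ⟨E', hE', ⟨e⟩⟩ := h i
    have hc : (c ≫ (b ∣_ j.opensRange)) ≫ φ.inv = 𝟙 X := by simp [c]
    refine ⟨E', hE', ⟨?_⟩⟩
    exact ((Scheme.Modules.pullbackComp c (b ⁻¹ᵁ j.opensRange).ι).app E').symm ≪≫
      (Scheme.Modules.pullback c).mapIso e ≪≫
      (Scheme.Modules.pullbackComp c (b ∣_ j.opensRange)).app _ ≪≫
      ((Scheme.Modules.pullbackComp (c ≫ (b ∣_ j.opensRange)) φ.inv) ≪≫
        Scheme.Modules.pullbackCongr hc ≪≫ Scheme.Modules.pullbackId X).app (E i)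

/-- Two compactifiable charts have a common proper target quasi-dominating both. -/
theorem exists_join {S U X₁ X₂ : Scheme.{u}} [CompactSpace S] [QuasiSeparatedSpace S]
    (g₁ : X₁ ⟶ S) (g₂ : X₂ ⟶ S) [IsSeparated g₁] [QuasiCompact g₁] [LocallyOfFiniteType g₁]
    [IsSeparated g₂] [QuasiCompact g₂] [LocallyOfFiniteType g₂]
    (j₁ : U ⟶ X₁) (j₂ : U ⟶ X₂) [IsOpenImmersion j₁] [IsOpenImmersion j₂] [CompactSpace U]
    (h : j₁ ≫ g₁ = j₂ ≫ g₂) :
    ∃ (X : Scheme.{u}) (q : X ⟶ S) (_ : IsProper q) (j : U ⟶ X) (_ : IsOpenImmersion j)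
      (_ : j.ker = ⊥) (_ : j ≫ q = j₁ ≫ g₁),
      (∃ (W : X.Opens) (l : U ⟶ (W : Scheme.{u})) (p : (W : Scheme.{u}) ⟶ X₁),
        W.ι ≫ q = p ≫ g₁ ∧ l ≫ W.ι = j ∧ l ≫ p = j₁ ∧ IsProper p) ∧
      (∃ (W : X.Opens) (l : U ⟶ (W : Scheme.{u})) (p : (W : Scheme.{u}) ⟶ X₂),
        W.ι ≫ q = p ≫ g₂ ∧ l ≫ W.ι = j ∧ l ≫ p = j₂ ∧ IsProper p) := by
  obtain ⟨Y₁, o₁, p₁, ho₁, -, hp₁, hop₁⟩ := compactifiable g₁
  obtain ⟨Y₂, o₂, p₂, ho₂, -, hp₂, hop₂⟩ := compactifiable g₂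
  haveI : CompactSpace Y₁ := QuasiCompact.compactSpace_of_compactSpace p₁
  haveI : QuasiSeparatedSpace Y₁ := quasiSeparatedSpace_of_quasiSeparated p₁
  haveI : QuasiSeparatedSpace (pullback p₁ p₂ : Scheme.{u}) :=
    quasiSeparatedSpace_of_quasiSeparated (pullback.fst p₁ p₂)
  let σ : U ⟶ pullback p₁ p₂ := pullback.lift (j₁ ≫ o₁) (j₂ ≫ o₂) (by
    rw [Category.assoc, Category.assoc, hop₁, hop₂, h])
  haveI : QuasiCompact σ := quasiCompact_of_compactSpace σ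
  haveI : IsImmersion (σ ≫ pullback.fst p₁ p₂) := by rw [pullback.lift_fst]; infer_instance
  haveI : IsImmersion σ := IsImmersion.of_comp σ (pullback.fst p₁ p₂)
  set q := σ.imageι ≫ pullback.fst p₁ p₂ ≫ p₁ with hq
  haveI : IsProper q := inferInstance
  have side : ∀ {Xi Yi : Scheme.{u}} (gi : Xi ⟶ S) (oi : Xi ⟶ Yi) (_ : IsOpenImmersion oi) (pi : Yi ⟶ S)
      (_ : oi ≫ pi = gi) (π : σ.image ⟶ Yi) (_ : IsProper π) (_ : π ≫ pi = q) (ji : U ⟶ Xi)
      (_ : σ.toImage ≫ π = ji ≫ oi),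
      ∃ (W : σ.image.Opens) (l : U ⟶ (W : Scheme.{u})) (p : (W : Scheme.{u}) ⟶ Xi),
        W.ι ≫ q = p ≫ gi ∧ l ≫ W.ι = σ.toImage ∧ l ≫ p = ji ∧ IsProper p := by
    intro Xi Yi gi oi _ pi hop π _ hπ ji hji
    let p : ((π ⁻¹ᵁ oi.opensRange : σ.image.Opens) : Scheme.{u}) ⟶ Xi :=
      (π ∣_ oi.opensRange) ≫ oi.isoOpensRange.inv
    haveI : IsProper (π ∣_ oi.opensRange) := MorphismProperty.of_isPullback (P := @IsProper.{u})
      (isPullback_morphismRestrict π oi.opensRange).flip inferInstance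
    have hpo : p ≫ oi = (π ⁻¹ᵁ oi.opensRange).ι ≫ π := by
      simp only [p, Category.assoc, Scheme.Hom.isoOpensRange_inv_comp, morphismRestrict_ι]
    let l := IsOpenImmersion.lift (π ⁻¹ᵁ oi.opensRange).ι σ.toImage (by
      rw [Scheme.Opens.range_ι]
      rintro _ ⟨x, rfl⟩
      show π (σ.toImage x) ∈ oi.opensRange
      rw [← Scheme.Hom.comp_apply, hji]
      exact ⟨ji x, rfl⟩)
    have hl : l ≫ (π ⁻¹ᵁ oi.opensRange).ι = σ.toImage := IsOpenImmersion.lift_fac _ _ _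
    refine ⟨_, l, p, ?_, hl, ?_, inferInstance⟩
    · rw [← hop, reassoc_of% hpo, hπ]
    · rw [← cancel_mono oi, Category.assoc, hpo, reassoc_of% hl, hji]
  refine ⟨σ.image, q, inferInstance, σ.toImage, inferInstance, ModPairLib.ker_toImage σ, ?_, ?_, ?_⟩
  · rw [hq, Scheme.Hom.toImage_imageι_assoc, pullback.lift_fst_assoc, Category.assoc, hop₁]
  · exact side g₁ o₁ ho₁ p₁ hop₁ (σ.imageι ≫ pullback.fst p₁ p₂) inferInstance
      (Category.assoc _ _ _) j₁ (by rw [Scheme.Hom.toImage_imageι_assoc, pullback.lift_fst])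
  · exact side g₂ o₂ ho₂ p₂ hop₂ (σ.imageι ≫ pullback.snd p₁ p₂) inferInstance
      (by rw [hq, pullback.condition, Category.assoc]) j₂ (by rw [Scheme.Hom.toImage_imageι_assoc, pullback.lift_snd])

theorem isClosed_range_graph {S X W Xi : Scheme.{u}} (q : X ⟶ S) [IsSeparated q] (gi : Xi ⟶ S)
    (ι : W ⟶ X) (p : W ⟶ Xi) [IsProper p] (h : ι ≫ q = p ≫ gi) :
    IsClosed (Set.range (fun x => pullback.lift ι p h x)) := by
  haveI : IsProper (pullback.lift ι p h ≫ pullback.snd q gi) := by rw [pullback.lift_snd]; infer_instance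
  haveI : IsProper (pullback.lift ι p h) := IsProper.of_comp _ (pullback.snd q gi)
  exact (pullback.lift ι p h).isClosedMap.isClosed_range

end Groth.Agent.FlatMorAdm
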