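import Groth.Agent.FlatMorAdm.Eps

/-!
# One affine piece of the strict transform of a birational morphism

`p : Z ⟶ X` with a section `σ` over a quasi-compact open `U`, and `Zj` an affine open of `Z` over an
affine open `P` of `X`.  After pulling back along a morphism making a suitable `U`-admissible ideal
invertible, the closure of the section is, over the preimage of `Zj`, an open piece of the base.
-/

set_option autoImplicit false
set_option backward.isDefEq.respectTransparency.types false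

universe u

open CategoryTheory Limits AlgebraicGeometry TopologicalSpace
open Groth.Agent.ModPairLib (res res_res)

namespace Groth.Agent.FlatMorAdm

open BlowUpLib

/-- `D` is schematically dense in every open contained in `W`. -/
def DenseIn {X : Scheme.{u}} (W D : X.Opens) : Prop :=
  ∀ (V : X.Opens), V ≤ W → ∀ s : Γ(X, V), res (inf_le_left : V ⊓ D ≤ V) s = 0 → s = 0

theorem DenseIn.anti {X : Scheme.{u}} {W W' D : X.Opens} (h : DenseIn W D) (hle : W' ≤ W) :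
    DenseIn W' D := fun V hV => h V (hV.trans hle)

theorem DenseIn.inf {X : Scheme.{u}} {W D D' : X.Opens} (h : DenseIn W D) (h' : DenseIn W D') :
    DenseIn W (D ⊓ D') := fun V hV s hs => h V hV s (h' (V ⊓ D) (inf_le_left.trans hV) _ (by
  rw [res_res]
  have e : V ⊓ D ⊓ D' ≤ V ⊓ (D ⊓ D') := (inf_assoc V D D').le
  rw [← res_res (inf_le_left : V ⊓ (D ⊓ D') ≤ V) e, hs, map_zero]))

theorem denseIn_basicOpen {X : Scheme.{u}} (W : X.affineOpens) {a : Γ(X, W.1)}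
    (ha : a ∈ nonZeroDivisors Γ(X, W.1)) : DenseIn W.1 (X.basicOpen a) := by
  intro V hV s hs
  refine X.IsSheaf.section_ext fun x hx => ?_
  obtain ⟨T, hxT, hT⟩ := exists_affine_mem_le hx
  refine ⟨T.1, hT, hxT, ?_⟩
  rw [map_zero]
  show res hT s = 0
  have hTW : T.1 ≤ W.1 := hT.trans hV
  have hle : X.basicOpen (res hTW a) ≤ V ⊓ X.basicOpen a := by
    rw [Scheme.basicOpen_res]
    exact inf_le_inf_right _ hT
  have h0 : res (X.basicOpen_le (res hTW a)) (res hT s) = 0 := by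
    rw [res_res, ← res_res (inf_le_left : V ⊓ X.basicOpen a ≤ V) hle, hs, map_zero]
  have := T.2.isLocalization_basicOpen (res hTW a)
  obtain ⟨⟨_, n, rfl⟩, hn⟩ := (IsLocalization.map_eq_zero_iff
    (Submonoid.powers (res hTW a)) Γ(X, X.basicOpen (res hTW a)) (res hT s)).mp h0
  exact (pow_mem (ModPairLib.res_mem_nonZeroDivisors hTW ha) n).1 _ hn

/-- A finite type ideal through which the pull backs of finitely many ideals become invertible. -/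
theorem exists_prod {X : Scheme.{u}} {ι : Type*} (s : Finset ι) (G : ι → X.IdealSheafData)
    (hG : ∀ i ∈ s, BlowUp.IsFiniteTypeIdeal (G i)) :
    ∃ K : X.IdealSheafData, BlowUp.IsFiniteTypeIdeal K ∧
      (∀ x ∈ (K.support : Set X), ∃ i ∈ s, x ∈ ((G i).support : Set X)) ∧
      ∀ (X' : Scheme.{u}) (c : X' ⟶ X), BlowUp.IsEffCartierIdeal (K.comap c) →
        ∀ i ∈ s, BlowUp.IsEffCartierIdeal ((G i).comap c) := by
  classical
  induction s using Finset.induction with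
  | empty =>
    refine ⟨⊤, fun W => ?_, fun x hx => ?_, fun _ _ _ i hi => absurd hi (Finset.notMem_empty i)⟩
    · rw [Scheme.IdealSheafData.ideal_top, Pi.top_apply]
      exact ⟨{1}, by simp⟩
    · rw [Scheme.IdealSheafData.support_top] at hx
      exact hx.elim
  | @insert a s _ ih =>
    obtain ⟨K, hK, hKs, hKc⟩ := ih fun i hi => hG i (Finset.mem_insert_of_mem hi)
    refine ⟨G a * K, fun W => ?_, fun x hx => ?_, fun X' c hc i hi => ?_⟩
    · rw [Scheme.IdealSheafData.ideal_mul, Pi.mul_apply]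
      exact (hG a (Finset.mem_insert_self _ _) W).mul (hK W)
    · rw [Scheme.IdealSheafData.support_mul] at hx
      rcases hx with h | h
      · exact ⟨a, Finset.mem_insert_self _ _, h⟩
      · obtain ⟨i, hi, hx⟩ := hKs x h
        exact ⟨i, Finset.mem_insert_of_mem hi, hx⟩
    · rw [ModPairLib.comap_mul] at hc
      rcases Finset.mem_insert.1 hi with rfl | hi
      · exact SDiv28.isEffCartier_left_of_mul hc
      · exact hKc X' c (SDiv28.isEffCartier_right_of_mul hc) i hi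

/-- From invertibility on an open to a generating element. -/
theorem exists_gen_of_local {X X' : Scheme.{u}} (c : X' ⟶ X) (G : X.IdealSheafData)
    (P : X.affineOpens) (O : X'.Opens) (x : X') (hxO : x ∈ O) (hxP : c x ∈ P.1)
    (hO : BlowUp.IsEffCartierIdeal (G.comap (O.ι ≫ c)))
    (s : Set Γ(X, P.1)) (hs : Ideal.span s = G.ideal P) :
    ∃ (V : X'.affineOpens) (e : V.1 ≤ c ⁻¹ᵁ P.1), x ∈ V.1 ∧ ∃ a ∈ s,
      (G.comap c).ideal V = Ideal.span {(c.appLE P.1 V.1 e).hom a} ∧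
      (c.appLE P.1 V.1 e).hom a ∈ nonZeroDivisors Γ(X', V.1) := by
  obtain ⟨a, ha, hloc⟩ := exists_mem_locus (O.ι ≫ c) hO P
    (show (⟨x, hxO⟩ : O) ∈ (O.ι ≫ c) ⁻¹ᵁ P.1 from hxP) s hs
  obtain ⟨V₀, hxV₀, e₀, hgen⟩ := mem_locus.1 hloc
  let V : X'.affineOpens := ⟨O.ι ''ᵁ V₀.1, V₀.2.image_of_isOpenImmersion O.ι⟩
  have hV : V₀.1 ≤ O.ι ⁻¹ᵁ V.1 := (O.ι.preimage_image_eq V₀.1).ge
  have e : V.1 ≤ c ⁻¹ᵁ P.1 := by
    rintro _ ⟨v, hv, rfl⟩
    exact e₀ hv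
  have hbij : Function.Bijective (O.ι.appLE V.1 V₀.1 hV).hom := by
    rw [Scheme.Opens.ι_appLE]
    exact ConcreteCategory.bijective_of_isIso (X'.presheaf.map (eqToHom (rfl :
      O.ι ''ᵁ V₀.1 = V.1)).op)
  have hcomp : ∀ b, (O.ι.appLE V.1 V₀.1 hV).hom ((c.appLE P.1 V.1 e).hom b) =
      ((O.ι ≫ c).appLE P.1 V₀.1 e₀).hom b := fun b => by
    show (c.appLE P.1 V.1 e ≫ O.ι.appLE V.1 V₀.1 hV).hom b = _
    rw [Scheme.Hom.appLE_comp_appLE]
  refine ⟨V, e, ⟨⟨x, hxO⟩, hxV₀, rfl⟩, a, ha, ?_, ?_⟩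
  · rw [Scheme.IdealSheafData.comap_comp, ProjLib.comap_ideal_eq _ O.ι V V₀ hV, ← hcomp,
      show Ideal.span {(O.ι.appLE V.1 V₀.1 hV).hom ((c.appLE P.1 V.1 e).hom a)} =
        (Ideal.span {(c.appLE P.1 V.1 e).hom a}).map (O.ι.appLE V.1 V₀.1 hV).hom by
        rw [Ideal.map_span, Set.image_singleton]] at hgen
    have := congrArg (Ideal.comap (O.ι.appLE V.1 V₀.1 hV).hom) hgen
    rwa [Ideal.comap_map_of_bijective _ hbij, Ideal.comap_map_of_bijective _ hbij] at this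
  · have hnz := mem_nonZeroDivisors_of_eff hO hgen
    rw [← hcomp] at hnz
    refine mem_nonZeroDivisors_iff_right.2 fun y hy => hbij.1 ?_
    rw [map_zero]
    refine (mem_nonZeroDivisors_iff_right.1 hnz) _ ?_
    rw [← map_mul, hy, map_zero]

/-- Sections on a quasi-compact open `Q` of `U` extend after multiplication by a power of `a`, when
`D(a) ⊆ Q`. -/
theorem exists_extend {X : Scheme.{u}} (U : X.Opens) (Q : (U : Scheme.{u}).Opens)
    (hQ : IsCompact (Q : Set (U : Scheme.{u}))) (P : X.affineOpens) (e : Q ≤ U.ι ⁻¹ᵁ P.1)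
    (a : Γ(X, P.1)) (ha : X.basicOpen a ≤ U.ι ''ᵁ Q) (f : Γ(U, Q)) :
    ∃ (N : ℕ) (j : Γ(X, P.1)),
      (U.ι.appLE P.1 Q e).hom j = f * (U.ι.appLE P.1 Q e).hom a ^ N := by
  set α := (U.ι.appLE P.1 Q e).hom a with hα
  have hbo : (U : Scheme.{u}).basicOpen α = U.ι ⁻¹ᵁ X.basicOpen a := by
    rw [hα, Scheme.basicOpen_appLE]
    refine inf_eq_right.2 fun y hy => ?_
    obtain ⟨q, hq, hqy⟩ := ha hy
    rwa [U.ι.injective hqy] at hq
  have hU : X.basicOpen a ≤ U.ι.opensRange := ha.trans (U.ι.image_le_opensRange Q)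
  have hiso : IsIso (U.ι.app (X.basicOpen a)) := U.ι.isIso_app _ hU
  let D := (U : Scheme.{u}).basicOpen α
  have hD : D ≤ Q := Scheme.basicOpen_le _ _
  obtain ⟨x, hx⟩ := (ConcreteCategory.bijective_of_isIso
    (U.ι.app (X.basicOpen a) ≫ (U : Scheme.{u}).presheaf.map (eqToHom hbo).op)).2 (res hD f)
  obtain ⟨n, j₀, hj₀⟩ := exists_eq_pow_mul_of_isAffineOpen X P.1 P.2 a x
  replace hj₀ : res (X.basicOpen_le a) j₀ = res (X.basicOpen_le a) a ^ n * x := hj₀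
  have key : ∀ s : Γ(X, P.1), res hD ((U.ι.appLE P.1 Q e).hom s) =
      (U.ι.app (X.basicOpen a) ≫ (U : Scheme.{u}).presheaf.map (eqToHom hbo).op).hom
        (res (X.basicOpen_le a) s) := by
    intro s
    show (U.ι.appLE P.1 Q e ≫ (U : Scheme.{u}).presheaf.map (homOfLE hD).op).hom s =
      (X.presheaf.map (homOfLE (X.basicOpen_le a)).op ≫
        U.ι.app (X.basicOpen a) ≫ (U : Scheme.{u}).presheaf.map (eqToHom hbo).op).hom s
    rw [Scheme.Hom.app_eq_appLE, Scheme.Hom.appLE_map, Scheme.Hom.appLE_map,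
      Scheme.Hom.map_appLE]
  have hz : res hD ((U.ι.appLE P.1 Q e).hom j₀ - f * α ^ n) = 0 := by
    rw [map_sub, map_mul, map_pow, key, hj₀, map_mul, map_pow, hx,
      show res hD α = (U.ι.app (X.basicOpen a) ≫ (U : Scheme.{u}).presheaf.map (eqToHom hbo).op).hom
        (res (X.basicOpen_le a) a) from key a]
    ring
  obtain ⟨m, hm⟩ := exists_pow_mul_eq_zero_of_res_basicOpen_eq_zero_of_isCompact
    (U : Scheme.{u}) hQ _ α hz
  refine ⟨m + n, a ^ m * j₀, ?_⟩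
  rw [map_mul, map_pow, ← hα]
  linear_combination hm

variable {X Z : Scheme.{u}}

theorem piece_isAffineOpen {p : Z ⟶ X} {X' P' : Scheme.{u}} {c : X' ⟶ X} {p₁ : P' ⟶ Z}
    {p₂ : P' ⟶ X'} (H : IsPullback p₁ p₂ p c) {P : X.Opens} {V : X'.Opens} {Zj : Z.Opens}
    (hP : IsAffineOpen P) (hV : IsAffineOpen V) (hZ : IsAffineOpen Zj)
    (eP : Zj ≤ p ⁻¹ᵁ P) (eV : V ≤ c ⁻¹ᵁ P) : IsAffineOpen (p₁ ⁻¹ᵁ Zj ⊓ p₂ ⁻¹ᵁ V) :=
  haveI : IsAffine _ := hP
  haveI : IsAffine _ := hV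
  haveI : IsAffine _ := hZ
  .of_isIso (Scheme.Hom.isPullback_resLE H eV eP rfl).isoPullback.hom

theorem piece_generated {p : Z ⟶ X} {X' P' : Scheme.{u}} {c : X' ⟶ X} {p₁ : P' ⟶ Z}
    {p₂ : P' ⟶ X'} (H : IsPullback p₁ p₂ p c) {P : X.Opens} {V : X'.Opens} {Zj : Z.Opens}
    (hP : IsAffineOpen P) (hV : IsAffineOpen V) (hZ : IsAffineOpen Zj)
    (eP : Zj ≤ p ⁻¹ᵁ P) (eV : V ≤ c ⁻¹ᵁ P) (S : Subring Γ(P', p₁ ⁻¹ᵁ Zj ⊓ p₂ ⁻¹ᵁ V))
    (h₁ : ∀ t, (p₁.appLE Zj (p₁ ⁻¹ᵁ Zj ⊓ p₂ ⁻¹ᵁ V) inf_le_left).hom t ∈ S)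
    (h₂ : ∀ r, (p₂.appLE V (p₁ ⁻¹ᵁ Zj ⊓ p₂ ⁻¹ᵁ V) inf_le_right).hom r ∈ S) (b) : b ∈ S := by
  have hpo := (isIso_pushoutSection_iff H eV eP rfl).1
    (isIso_pushoutSection_of_isAffineOpen H eV eP rfl hP hV hZ)
  let i : CommRingCat.of S ⟶ Γ(P', p₁ ⁻¹ᵁ Zj ⊓ p₂ ⁻¹ᵁ V) := CommRingCat.ofHom S.subtype
  let u₁ : Γ(Z, Zj) ⟶ CommRingCat.of S := CommRingCat.ofHom (RingHom.codRestrict _ S h₁)
  let u₂ : Γ(X', V) ⟶ CommRingCat.of S := CommRingCat.ofHom (RingHom.codRestrict _ S h₂)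
  haveI : Mono i := ConcreteCategory.mono_of_injective _ Subtype.val_injective
  have hu₁ : u₁ ≫ i = p₁.appLE Zj (p₁ ⁻¹ᵁ Zj ⊓ p₂ ⁻¹ᵁ V) inf_le_left := rfl
  have hu₂ : u₂ ≫ i = p₂.appLE V (p₁ ⁻¹ᵁ Zj ⊓ p₂ ⁻¹ᵁ V) inf_le_right := rfl
  have hw : p.appLE P Zj eP ≫ u₁ = c.appLE P V eV ≫ u₂ := by
    rw [← cancel_mono i, Category.assoc, Category.assoc, hu₁, hu₂]
    exact hpo.w
  have hid : hpo.desc u₁ u₂ hw ≫ i = 𝟙 _ := by
    apply hpo.hom_ext
    · rw [IsPushout.inl_desc_assoc, hu₁, Category.comp_id]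
    · rw [IsPushout.inr_desc_assoc, hu₂, Category.comp_id]
  have h := ConcreteCategory.congr_hom hid b
  rw [CommRingCat.comp_apply, CommRingCat.id_apply] at h
  rw [← h]
  exact Subtype.prop _

theorem exists_piece [CompactSpace X] [QuasiSeparatedSpace X] (p : Z ⟶ X) [LocallyOfFiniteType p]
    (U : X.Opens) (hU : IsCompact (U : Set X)) (σ : (U : Scheme.{u}) ⟶ Z) [QuasiCompact σ]
    (hσ : σ ≫ p = U.ι)
    (hclU : ∀ z ∈ closure (Set.range fun y => σ y), p z ∈ U → ∃ u, σ u = z)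
    (P : X.affineOpens) (Zj : Z.affineOpens) (eP : Zj.1 ≤ p ⁻¹ᵁ P.1) :
    ∃ K : X.IdealSheafData, BlowUp.IsFiniteTypeIdeal K ∧ Disjoint (K.support : Set X) (U : Set X) ∧
      ∀ (X' P' : Scheme.{u}) (c : X' ⟶ X) (p₁ : P' ⟶ Z) (p₂ : P' ⟶ X'), IsPullback p₁ p₂ p c →
      ∀ (σ' : ((c ⁻¹ᵁ U : X'.Opens) : Scheme.{u}) ⟶ P') [QuasiCompact σ'],
        σ' ≫ p₁ = (c ∣_ U) ≫ σ → σ' ≫ p₂ = (c ⁻¹ᵁ U).ι →
        ∀ γ : σ'.image, p₁ (σ'.imageι γ) ∈ Zj.1 →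
          (∃ O : X'.Opens, p₂ (σ'.imageι γ) ∈ O ∧ BlowUp.IsEffCartierIdeal (K.comap (O.ι ≫ c))) →
          ∃ (W : X'.Opens) (O : σ'.image.Opens) (e : O ≤ (σ'.imageι ≫ p₂) ⁻¹ᵁ W), γ ∈ O ∧
            IsIso ((σ'.imageι ≫ p₂).resLE W O e) ∧
            DenseIn W ((c ⁻¹ᵁ U).ι ''ᵁ (σ'.toImage ⁻¹ᵁ O)) := by
  classical
  set Q : (U : Scheme.{u}).Opens := σ ⁻¹ᵁ Zj.1 with hQdef
  have hQ : IsCompact (Q : Set (U : Scheme.{u})) :=
    QuasiCompact.isCompact_preimage (f := σ) _ Zj.1.isOpen Zj.2.isCompact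
  have hpσ : ∀ u : (U : Scheme.{u}), p (σ u) = u.1 := fun u => by
    rw [← Scheme.Hom.comp_apply, hσ]
    rfl
  have eQ : Q ≤ U.ι ⁻¹ᵁ P.1 := fun u hu => by
    show U.ι u ∈ P.1
    rw [show U.ι u = p (σ u) from (hpσ u).symm]
    exact eP hu
  -- the complement of `Q`
  obtain ⟨I, hI, hIs⟩ := exists_finiteType_support_eq (U.ι ''ᵁ Q : Set X)ᶜ
    (U.ι ''ᵁ Q).isOpen.isClosed_compl
    (by rw [compl_compl]; exact hQ.image U.ι.continuous)
  obtain ⟨s, hs⟩ := hI P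
  replace hs : Ideal.span (s : Set Γ(X, P.1)) = I.ideal P := hs
  have hsQ : ∀ a ∈ s, X.basicOpen a ≤ U.ι ''ᵁ Q := by
    intro a ha x hx
    by_contra hn
    have hxI : x ∈ (I.support : Set X) := hIs.ge hn
    exact (mem_prm (X.basicOpen_le a hx)).1
      ((mem_support_iff_le_prm I P (X.basicOpen_le a hx)).1 hxI
        (hs.le (Ideal.subset_span ha))) hx
  -- generators of the coordinate ring of `Zj`
  algebraize [(p.appLE P.1 Zj.1 eP).hom]
  have hft : Algebra.FiniteType Γ(X, P.1) Γ(Z, Zj.1) := p.finiteType_appLE P.2 Zj.2 eP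
  obtain ⟨T₀, hT₀⟩ := hft.out
  let T : Finset Γ(Z, Zj.1) := insert 1 T₀
  -- extensions
  let ι' := (U.ι.appLE P.1 Q eQ).hom
  let F : Γ(Z, Zj.1) → Γ(U, Q) := fun t => (σ.appLE Zj.1 Q le_rfl).hom t
  have hex : ∀ (t : Γ(Z, Zj.1)) (a : Γ(X, P.1)), a ∈ s →
      ∃ (N : ℕ) (j : Γ(X, P.1)), ι' j = F t * ι' a ^ N := fun t a ha =>
    exists_extend U Q hQ P eQ a (hsQ a ha) (F t)
  choose! N₀ j₀ hj₀ using hex
  let N : ℕ := (T ×ˢ s).sup (fun x => N₀ x.1 x.2) + 1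
  let j : Γ(Z, Zj.1) → Γ(X, P.1) → Γ(X, P.1) := fun t a => j₀ t a * a ^ (N - N₀ t a)
  have hj : ∀ t ∈ T, ∀ a ∈ s, ι' (j t a) = F t * ι' a ^ N := by
    intro t ht a ha
    have hle : N₀ t a ≤ N :=
      (Finset.le_sup (f := fun x => N₀ x.1 x.2) (Finset.mk_mem_product ht ha)).trans (Nat.le_succ _)
    simp only [j, map_mul, map_pow]
    rw [hj₀ t a ha, mul_assoc, ← pow_add, Nat.add_sub_cancel' hle]
  -- the ideals
  let gens : Γ(Z, Zj.1) → Finset Γ(X, P.1) := fun t => s.image (· ^ N) ∪ s.image (j t)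
  obtain ⟨k, hk⟩ : ∃ k, I.ideal P ^ (k + 1) ≤ Ideal.span ↑(s.image fun a => a ^ N) := by
    obtain ⟨k, hk⟩ := Ideal.exists_pow_le_of_le_radical_of_fg
      (J := Ideal.span ↑(s.image fun a => a ^ N)) (I := I.ideal P) (by
        rw [← hs, Ideal.span_le]
        exact fun a ha => ⟨N, Ideal.subset_span (Finset.mem_image_of_mem _ ha)⟩) (hI P)
    exact ⟨k, (Ideal.pow_le_pow_right (Nat.le_succ k)).trans hk⟩
  have hGex : ∀ t, ∃ G : X.IdealSheafData, BlowUp.IsFiniteTypeIdeal G ∧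
      (G.support : Set X) ⊆ (I.support : Set X) ∧ G.ideal P = Ideal.span (gens t : Set Γ(X, P.1)) := by
    intro t
    obtain ⟨G, hG, hGP⟩ := FlatMorStrata.exists_fg_extend P
      (Ideal.span (gens t : Set Γ(X, P.1))) ⟨gens t, rfl⟩
    refine ⟨G ⊔ I ^ (k + 1), fun W => ?_, ?_, ?_⟩
    · rw [Scheme.IdealSheafData.ideal_sup, Pi.sup_apply]
      exact Submodule.FG.sup (hG W) (isFiniteType_pow hI _ W)
    · intro x hx
      rw [Scheme.IdealSheafData.support_sup] at hx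
      have := hx.2
      rwa [Scheme.IdealSheafData.support_pow_succ] at this
    · rw [Scheme.IdealSheafData.ideal_sup, Pi.sup_apply, hGP,
        Scheme.IdealSheafData.ideal_pow, Pi.pow_apply]
      exact sup_eq_left.2 (hk.trans (Ideal.span_mono (by simp [gens])))
  choose G hGft hGs hGP using hGex
  obtain ⟨K₀, hK₀, hK₀s, hK₀c⟩ := exists_prod T G fun t _ => hGft t
  have hK₀Q : ∀ x ∈ (K₀.support : Set X), x ∉ U.ι ''ᵁ Q := by
    intro x hx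
    obtain ⟨t, -, hxt⟩ := hK₀s x hx
    exact hIs.le (hGs t hxt)
  haveI : CompactSpace (Zj.1 : Scheme.{u}) := isCompact_iff_compactSpace.1 Zj.2.isCompact
  obtain ⟨K, hKft, hKs, hK⟩ := exists_eps (Zj.1.ι ≫ p) (σ ∣_ Zj.1) U hU K₀ hK₀
    (fun y => by
      intro hy
      refine hK₀Q _ hy ?_
      refine ⟨Q.ι y, y.2, ?_⟩
      show U.ι (Q.ι y) = p (Zj.1.ι ((σ ∣_ Zj.1) y))
      simp only [← Scheme.Hom.comp_apply]
      rw [morphismRestrict_ι, Category.assoc, hσ])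
    (fun z hz hzK hzU => by
      have hz' : Zj.1.ι z ∈ closure (Set.range fun y => σ y) := by
        refine closure_mono ?_ (image_closure_subset_closure_image Zj.1.ι.continuous ⟨z, hz, rfl⟩)
        rintro _ ⟨_, ⟨y, rfl⟩, rfl⟩
        refine ⟨Q.ι y, ?_⟩
        show σ (Q.ι y) = Zj.1.ι ((σ ∣_ Zj.1) y)
        simp only [← Scheme.Hom.comp_apply, morphismRestrict_ι]
        rfl
      obtain ⟨u, hu⟩ := hclU _ hz' hzU
      refine hK₀Q _ hzK ⟨u, show σ u ∈ Zj.1 from hu ▸ z.2, ?_⟩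
      show U.ι u = p (Zj.1.ι z)
      rw [← hu, hpσ]
      rfl)
  refine ⟨K, hKft, Set.disjoint_left.2 fun x hx hxU => (hKs hx).2 hxU, ?_⟩
  intro X' P' c p₁ p₂ H σ' _ h₁ h₂ γ hγ hloc
  set ζ := σ'.imageι γ with hζdef
  have hζ : ζ ∈ closure (Set.range fun y => σ' y) := by
    have h : ζ ∈ Set.range σ'.imageι := ⟨γ, rfl⟩
    rw [Scheme.IdealSheafData.range_subschemeι, Scheme.Hom.support_ker] at h
    exact h
  set x' := p₂ ζ with hx'def
  have hcx : c x' = p (p₁ ζ) := by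
    rw [show c x' = (p₂ ≫ c) ζ from rfl, ← H.w, Scheme.Hom.comp_apply]
  have hxP : c x' ∈ P.1 := hcx ▸ eP hγ
  -- `K₀` is invertible near `x'`
  obtain ⟨O₁, hxO₁, hO₁⟩ : ∃ O : X'.Opens, x' ∈ O ∧
      BlowUp.IsEffCartierIdeal (K₀.comap (O.ι ≫ c)) := by
    obtain ⟨O₀, hO₀, hc⟩ := hloc
    refine eps_local hK c (p₁ ∣_ Zj.1) ((p₁ ⁻¹ᵁ Zj.1).ι ≫ p₂) ?_
      ⟨ζ, hγ⟩ ?_ O₀ hO₀ hc
    · rw [morphismRestrict_ι_assoc, H.w, Category.assoc]
    · refine closure_subtype.2 (mem_closure_iff.2 fun M hM hζM => ?_)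
      obtain ⟨_, ⟨hwM, hwZ⟩, y, rfl⟩ := mem_closure_iff.1 hζ (M ∩ (p₁ ⁻¹ᵁ Zj.1 : Set P'))
        (hM.inter (p₁ ⁻¹ᵁ Zj.1).isOpen) ⟨hζM, hγ⟩
      refine ⟨σ' y, hwM, ⟨σ' y, hwZ⟩, ?_, rfl⟩
      have hpy : σ ((c ∣_ U) y) = p₁ (σ' y) := by
        rw [← Scheme.Hom.comp_apply, ← h₁, Scheme.Hom.comp_apply]
      refine ⟨⟨(c ∣_ U) y, show σ ((c ∣_ U) y) ∈ Zj.1 from hpy ▸ hwZ⟩, Zj.1.ι.injective ?_⟩
      show Zj.1.ι ((σ ∣_ Zj.1) _) = Zj.1.ι ((p₁ ∣_ Zj.1) _)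
      simp only [← Scheme.Hom.comp_apply, morphismRestrict_ι]
      exact hpy
  have hGt : ∀ t ∈ T, BlowUp.IsEffCartierIdeal ((G t).comap (O₁.ι ≫ c)) :=
    hK₀c _ _ hO₁
  -- the part of `U` over an affine `V`
  have hsup : ∀ t, ∀ x : X', c x ∈ U.ι ''ᵁ Q → x ∉ (((G t).comap c).support : Set X') := by
    intro t x hx hxs
    rw [Scheme.IdealSheafData.support_comap] at hxs
    exact (hIs.le (hGs t hxs)) hx
  -- key relations
  have hrel : ∀ (V : X'.affineOpens) (eV : V.1 ≤ c ⁻¹ᵁ P.1) (t : Γ(Z, Zj.1)), t ∈ T →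
      ∀ a ∈ s, ∀ (D : ((c ⁻¹ᵁ U : X'.Opens) : Scheme.{u}).Opens) (eD : D = σ' ⁻¹ᵁ (p₁ ⁻¹ᵁ Zj.1 ⊓ p₂ ⁻¹ᵁ V.1))
        (eD' : D ≤ (c ⁻¹ᵁ U).ι ⁻¹ᵁ V.1),
        ((c ⁻¹ᵁ U).ι.appLE V.1 D eD').hom ((c.appLE P.1 V.1 eV).hom (j t a)) =
          (σ'.appLE (p₁ ⁻¹ᵁ Zj.1 ⊓ p₂ ⁻¹ᵁ V.1) D eD.le).hom
              ((p₁.appLE Zj.1 _ inf_le_left).hom t) *
            ((c ⁻¹ᵁ U).ι.appLE V.1 D eD').hom ((c.appLE P.1 V.1 eV).hom a) ^ N := by
    intro V eV t ht a ha D eD eD'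
    have eDQ : D ≤ (c ∣_ U) ⁻¹ᵁ Q := by
      intro y hy
      have h := (eD.le hy).1
      change σ ((c ∣_ U) y) ∈ Zj.1
      rw [← Scheme.Hom.comp_apply, ← h₁, Scheme.Hom.comp_apply]
      exact h
    have hb : ∀ b, ((c ∣_ U).appLE Q D eDQ).hom (ι' b) =
        ((c ⁻¹ᵁ U).ι.appLE V.1 D eD').hom ((c.appLE P.1 V.1 eV).hom b) := fun b => by
      show (U.ι.appLE P.1 Q eQ ≫ (c ∣_ U).appLE Q D eDQ).hom b =
        (c.appLE P.1 V.1 eV ≫ (c ⁻¹ᵁ U).ι.appLE V.1 D eD').hom b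
      rw [Scheme.Hom.appLE_comp_appLE, Scheme.Hom.appLE_comp_appLE]
      simp only [morphismRestrict_ι]
    have hF : ((c ∣_ U).appLE Q D eDQ).hom (F t) =
        (σ'.appLE (p₁ ⁻¹ᵁ Zj.1 ⊓ p₂ ⁻¹ᵁ V.1) D eD.le).hom
          ((p₁.appLE Zj.1 _ inf_le_left).hom t) := by
      show (σ.appLE Zj.1 Q le_rfl ≫ (c ∣_ U).appLE Q D eDQ).hom t =
        (p₁.appLE Zj.1 _ inf_le_left ≫ σ'.appLE _ D eD.le).hom t
      rw [Scheme.Hom.appLE_comp_appLE, Scheme.Hom.appLE_comp_appLE]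
      simp only [h₁]
    rw [← hb, hj t ht a ha, map_mul, map_pow, hb, hF]
  have hDmem : ∀ (V : X'.Opens) (y : ((c ⁻¹ᵁ U : X'.Opens) : Scheme.{u})),
      y ∈ σ' ⁻¹ᵁ (p₁ ⁻¹ᵁ Zj.1 ⊓ p₂ ⁻¹ᵁ V) → c y.1 ∈ U.ι ''ᵁ Q ∧ y.1 ∈ V := by
    rintro V y ⟨hy1, hy2⟩
    constructor
    · refine ⟨(c ∣_ U) y, ?_, ?_⟩
      · show σ ((c ∣_ U) y) ∈ Zj.1
        rw [← Scheme.Hom.comp_apply, ← h₁, Scheme.Hom.comp_apply]
        exact hy1
      · show U.ι ((c ∣_ U) y) = c ((c ⁻¹ᵁ U).ι y)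
        simp only [← Scheme.Hom.comp_apply, morphismRestrict_ι]
    · have h : (σ' ≫ p₂) y ∈ V := hy2
      rw [h₂] at h
      exact h
  -- a generator of the inverse image of `G t` is a unit over `Q`
  have hunit : ∀ (V : X'.affineOpens) (t) (α : Γ(X', V.1)),
      ((G t).comap c).ideal V = Ideal.span {α} →
      ∀ (D : ((c ⁻¹ᵁ U : X'.Opens) : Scheme.{u}).Opens) (_ : D = σ' ⁻¹ᵁ (p₁ ⁻¹ᵁ Zj.1 ⊓ p₂ ⁻¹ᵁ V.1))
        (eD' : D ≤ (c ⁻¹ᵁ U).ι ⁻¹ᵁ V.1),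
        IsUnit (((c ⁻¹ᵁ U).ι.appLE V.1 D eD').hom α) := by
    intro V t α hα D eD eD'
    refine RingedSpace.isUnit_of_isUnit_germ ((c ⁻¹ᵁ U : X'.Opens) : Scheme.{u}).toRingedSpace D _ fun y hy => ?_
    obtain ⟨h1, hyV⟩ := hDmem V.1 y (eD.le hy)
    have hb : (c ⁻¹ᵁ U).ι y ∈ X'.basicOpen α := by
      rw [← ModPairLib.inf_interior hα]
      exact ⟨hyV, hsup t _ h1⟩
    have hy' : y ∈ ((c ⁻¹ᵁ U : X'.Opens) : Scheme.{u}).basicOpen (((c ⁻¹ᵁ U).ι.appLE V.1 D eD').hom α) := by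
      rw [Scheme.basicOpen_appLE]
      exact ⟨hy, hb⟩
    exact (Scheme.mem_basicOpen _ _ y hy).1 hy'
  -- near `x'`, each `t` gives a section
  have ht : ∀ t ∈ T, ∃ (V : X'.affineOpens) (eV : V.1 ≤ c ⁻¹ᵁ P.1) (a : Γ(X, P.1)),
      x' ∈ V.1 ∧ a ∈ s ∧
      ((G t).comap c).ideal V = Ideal.span {(c.appLE P.1 V.1 eV).hom (a ^ N)} ∧
      (c.appLE P.1 V.1 eV).hom (a ^ N) ∈ nonZeroDivisors Γ(X', V.1) := by
    intro t htT
    obtain ⟨V, eV, hxV, b, hb, hbG, hbn⟩ := exists_gen_of_local c (G t) P O₁ x' hxO₁ hxP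
      (hGt t htT) (gens t : Set Γ(X, P.1)) (hGP t).symm
    rcases Finset.mem_union.1 hb with hb' | hb'
    · obtain ⟨a, ha, rfl⟩ := Finset.mem_image.1 hb'
      exact ⟨V, eV, a, hxV, ha, hbG, hbn⟩
    obtain ⟨a, ha, rfl⟩ := Finset.mem_image.1 hb'
    let φ := (c.appLE P.1 V.1 eV).hom
    obtain ⟨d, hd⟩ : ∃ d, d * φ (j t a) = φ (a ^ N) :=
      Ideal.mem_span_singleton'.1 (hbG.le (ProjLib.map_ideal_le_comap_ideal _ c P V eV
        (Ideal.mem_map_of_mem _ ((hGP t).ge (Ideal.subset_span (Finset.mem_union_left _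
          (Finset.mem_image_of_mem _ ha)))))))
    set OV := p₁ ⁻¹ᵁ Zj.1 ⊓ p₂ ⁻¹ᵁ V.1 with hOV
    have hζOV : ζ ∈ OV := ⟨hγ, hxV⟩
    have hOVa : IsAffineOpen OV := piece_isAffineOpen H P.2 V.2 Zj.2 eP eV
    let t' := (p₁.appLE Zj.1 OV inf_le_left).hom t
    let d' := (p₂.appLE V.1 OV inf_le_right).hom d
    have hker : t' * d' - 1 ∈ σ'.ker.ideal ⟨OV, hOVa⟩ := by
      rw [Scheme.Hom.ker_apply, RingHom.mem_ker]
      let D := σ' ⁻¹ᵁ OV
      have eD' : D ≤ (c ⁻¹ᵁ U).ι ⁻¹ᵁ V.1 := fun y hy => (hDmem V.1 y hy).2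
      have hrel' := hrel V eV t htT a ha D rfl eD'
      rw [Scheme.Hom.app_eq_appLE]
      set τ := (σ'.appLE OV D le_rfl).hom
      set r := ((c ⁻¹ᵁ U).ι.appLE V.1 D eD').hom
      have hd2 : r (φ a) ^ N = r d * r (φ (j t a)) := by
        rw [← map_pow r, ← map_pow φ, ← hd, map_mul]
      have hdτ : τ d' = r d := by
        show (p₂.appLE V.1 OV inf_le_right ≫ σ'.appLE OV D le_rfl).hom d = _
        rw [Scheme.Hom.appLE_comp_appLE]
        simp only [h₂, r]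
      have hu := hunit V t _ hbG D rfl eD'
      change r (φ (j t a)) = τ t' * r (φ a) ^ N at hrel'
      rw [hd2] at hrel'
      rw [map_sub, map_mul, map_one, hdτ]
      refine (IsUnit.mul_left_eq_zero hu).1 ?_
      linear_combination -hrel'
    have hζd : d ∉ prm x' hxV := by
      intro hd0
      have h1 : d' ∈ prm ζ hζOV := (appLE_mem_prm p₂ inf_le_right hζOV).2 hd0
      have h2 : t' * d' - 1 ∈ prm ζ hζOV := by
        refine (mem_support_iff_le_prm σ'.ker ⟨OV, hOVa⟩ hζOV).1 ?_ hker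
        rw [Scheme.Hom.support_ker]
        exact hζ
      have h3 := (prm ζ hζOV).sub_mem ((prm ζ hζOV).mul_mem_left t' h1) h2
      rw [sub_sub_cancel] at h3
      exact (inferInstance : (prm ζ hζOV).IsPrime).ne_top ((Ideal.eq_top_iff_one _).2 h3)
    have hxd : x' ∈ X'.basicOpen d := by
      by_contra h
      exact hζd ((mem_prm hxV).2 h)
    let V' : X'.affineOpens := X'.affineBasicOpen d
    have hle : V'.1 ≤ V.1 := X'.basicOpen_le _
    have hres : ∀ b, res hle (φ b) = (c.appLE P.1 V'.1 (hle.trans eV)).hom b := fun b =>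
      ConcreteCategory.congr_hom (c.appLE_map eV (homOfLE hle).op) b
    have hspan : ((G t).comap c).ideal V' = Ideal.span {(c.appLE P.1 V'.1 (hle.trans eV)).hom (a ^ N)} := by
      rw [ModPairLib.ideal_restrict _ hle hbG, ← hres, ← hd, map_mul (res hle) d]
      exact (Ideal.span_singleton_mul_left_unit
        (RingedSpace.isUnit_res_basicOpen X'.toRingedSpace _) _).symm
    refine ⟨V', hle.trans eV, a, hxd, ha, hspan, ?_⟩
    rw [← hres, ← hd, map_mul (res hle) d]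
    exact mul_mem (RingedSpace.isUnit_res_basicOpen X'.toRingedSpace _).mem_nonZeroDivisors
      (ModPairLib.res_mem_nonZeroDivisors hle hbn)
  haveI : Nonempty X'.affineOpens := ⟨⟨⊥, isAffineOpen_bot X'⟩⟩
  choose! Vt eVt at' hxVt hat hspan hnzd using ht
  obtain ⟨W, hxW, hWle⟩ := exists_affine_mem_le
    (show x' ∈ (T.inf fun t => (Vt t).1) from by
      rw [← SetLike.mem_coe, Opens.coe_finset_inf, Finset.inf_set_eq_iInter]
      exact Set.mem_iInter₂.2 fun t ht => hxVt t ht)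
  have hWt : ∀ t ∈ T, W.1 ≤ (Vt t).1 := fun t ht => hWle.trans (Finset.inf_le ht)
  have hone : (1 : Γ(Z, Zj.1)) ∈ T := Finset.mem_insert_self _ _
  have eW : W.1 ≤ c ⁻¹ᵁ P.1 := (hWt 1 hone).trans (eVt 1 hone)
  have hspanW : ∀ t ∈ T, ((G t).comap c).ideal W =
        Ideal.span {(c.appLE P.1 W.1 eW).hom (at' t ^ N)} ∧
      (c.appLE P.1 W.1 eW).hom (at' t ^ N) ∈ nonZeroDivisors Γ(X', W.1) := by
    intro t ht
    have hres : res (hWt t ht) ((c.appLE P.1 (Vt t).1 (eVt t ht)).hom (at' t ^ N)) =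
        (c.appLE P.1 W.1 eW).hom (at' t ^ N) :=
      ConcreteCategory.congr_hom (c.appLE_map (eVt t ht) (homOfLE (hWt t ht)).op) _
    exact ⟨by rw [ModPairLib.ideal_restrict _ (hWt t ht) (hspan t ht), hres],
      hres ▸ ModPairLib.res_mem_nonZeroDivisors (hWt t ht) (hnzd t ht)⟩
  set OW := p₁ ⁻¹ᵁ Zj.1 ⊓ p₂ ⁻¹ᵁ W.1 with hOW
  have hOWa : IsAffineOpen OW := piece_isAffineOpen H P.2 W.2 Zj.2 eP eW
  let O : σ'.image.Opens := σ'.imageι ⁻¹ᵁ OW
  let π := σ'.imageι ≫ p₂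
  have eπ : O ≤ π ⁻¹ᵁ W.1 := fun y hy => hy.2
  set D := σ'.toImage ⁻¹ᵁ O with hDdef
  have hDe : D = σ' ⁻¹ᵁ OW := by
    rw [hDdef, ← Scheme.Hom.comp_preimage, Scheme.Hom.toImage_imageι]
  have eD' : D ≤ (c ⁻¹ᵁ U).ι ⁻¹ᵁ W.1 := fun y hy => (hDmem W.1 y (hDe.le hy)).2
  have hD : W.1 ⊓ X'.basicOpen ((c.appLE P.1 W.1 eW).hom (at' 1 ^ N)) ≤ (c ⁻¹ᵁ U).ι ''ᵁ D := by
    rintro x ⟨hxW', hxa⟩
    have hca : c x ∈ X.basicOpen (at' 1) := by
      rw [SetLike.mem_coe, Scheme.basicOpen_appLE] at hxa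
      have h := hxa.2
      rwa [X.basicOpen_pow _ (show 0 < N by simp [N])] at h
    obtain ⟨u, hu, hux⟩ := hsQ (at' 1) (hat 1 hone) hca
    have hxU : x ∈ c ⁻¹ᵁ U := by
      show c x ∈ U
      rw [← hux]
      exact u.2
    have hcu : (c ∣_ U) ⟨x, hxU⟩ = u := by
      apply U.ι.injective
      refine Eq.trans ?_ hux.symm
      show ((c ∣_ U) ≫ U.ι) ⟨x, hxU⟩ = c x
      rw [morphismRestrict_ι]
      rfl
    refine ⟨⟨x, hxU⟩, hDe.ge ⟨?_, ?_⟩, rfl⟩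
    · show p₁ (σ' ⟨x, hxU⟩) ∈ Zj.1
      rw [← Scheme.Hom.comp_apply, h₁, Scheme.Hom.comp_apply, hcu]
      exact hu
    · show p₂ (σ' ⟨x, hxU⟩) ∈ W.1
      rw [← Scheme.Hom.comp_apply, h₂]
      exact hxW'
  refine ⟨W.1, O, eπ, ⟨hγ, hxW⟩, ?_, ?_⟩
  swap
  · -- density
    refine fun V hV s' hs' => denseIn_basicOpen W (hspanW 1 hone).2 V hV s' ?_
    have hle : V ⊓ X'.basicOpen ((c.appLE P.1 W.1 eW).hom (at' 1 ^ N)) ≤ V ⊓ (c ⁻¹ᵁ U).ι ''ᵁ D :=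
      fun x hx => ⟨hx.1, hD ⟨hV hx.1, hx.2⟩⟩
    rw [← res_res (inf_le_left : V ⊓ (c ⁻¹ᵁ U).ι ''ᵁ D ≤ V) hle, hs', map_zero]
  -- `π` is an isomorphism over `O`
  let θ := (σ'.toImage.appLE O D le_rfl).hom
  have hθ : Function.Injective θ := by
    have h := σ'.toImage_app_injective (U := ⟨OW, hOWa⟩)
    rw [Scheme.Hom.app_eq_appLE] at h
    exact h
  let r := ((c ⁻¹ᵁ U).ι.appLE W.1 D eD').hom
  have hr : Function.Injective r := by
    refine (injective_iff_map_eq_zero r).2 fun b hb =>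
      denseIn_basicOpen W (hspanW 1 hone).2 W.1 le_rfl b ?_
    have hW' : (c ⁻¹ᵁ U).ι ''ᵁ D ≤ W.1 := by
      rintro _ ⟨y, hy, rfl⟩
      exact eD' hy
    have hb' : res hW' b = 0 := by
      simp only [r, Scheme.Opens.ι_appLE] at hb
      exact hb
    rw [← res_res hW' hD, hb', map_zero]
  have hfac : ∀ b, θ ((π.appLE W.1 O eπ).hom b) = r b := fun b => by
    show (π.appLE W.1 O eπ ≫ σ'.toImage.appLE O D le_rfl).hom b = _
    rw [Scheme.Hom.appLE_comp_appLE]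
    simp only [π, Scheme.Hom.toImage_imageι_assoc, h₂, r]
  -- every function on `OW` agrees on `D` with a function on `W`
  let τ := (σ'.appLE OW D hDe.le).hom
  have hrange : ∀ b, τ b ∈ r.range := by
    have hone' : (1 : Γ(Z, Zj.1)) ∈ T := hone
    refine piece_generated H P.2 W.2 Zj.2 eP eW (r.range.comap τ) ?_ fun b => ?_
    · intro t
      have ht : t ∈ Algebra.adjoin Γ(X, P.1) (T₀ : Set Γ(Z, Zj.1)) := hT₀.ge trivial
      induction ht using Algebra.adjoin_induction with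
      | mem t ht =>
        have htT : t ∈ T := Finset.mem_insert_of_mem ht
        obtain ⟨hG, -⟩ := hspanW t htT
        set φ := (c.appLE P.1 W.1 eW).hom
        obtain ⟨g, hg⟩ : ∃ g, g * φ (at' t ^ N) = φ (j t (at' t)) :=
          Ideal.mem_span_singleton'.1 (hG.le (ProjLib.map_ideal_le_comap_ideal _ c P W eW
            (Ideal.mem_map_of_mem _ ((hGP t).ge (Ideal.subset_span (Finset.mem_union_right _
              (Finset.mem_image_of_mem _ (hat t htT))))))))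
        refine ⟨g, ?_⟩
        have hrel' := hrel W eW t htT (at' t) (hat t htT) D hDe eD'
        refine (hunit W t _ hG D hDe eD').mul_right_cancel ?_
        change r g * r (φ (at' t ^ N)) = τ ((p₁.appLE Zj.1 OW inf_le_left).hom t) * r (φ (at' t ^ N))
        rw [← map_mul, hg, map_pow φ, map_pow r]
        exact hrel'
      | algebraMap b =>
        refine ⟨(c.appLE P.1 W.1 eW).hom b, ?_⟩
        show (c.appLE P.1 W.1 eW ≫ (c ⁻¹ᵁ U).ι.appLE W.1 D eD').hom b =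
          (p.appLE P.1 Zj.1 eP ≫ p₁.appLE Zj.1 OW inf_le_left ≫ σ'.appLE OW D hDe.le).hom b
        simp only [Scheme.Hom.appLE_comp_appLE]
        congr 3
        rw [Category.assoc, H.w, ← Category.assoc, h₂]
      | add x y _ _ hx hy =>
        rw [map_add]
        exact add_mem hx hy
      | mul x y _ _ hx hy =>
        rw [map_mul]
        exact mul_mem hx hy
    · refine ⟨b, ?_⟩
      show _ = (p₂.appLE W.1 OW inf_le_right ≫ σ'.appLE OW D hDe.le).hom b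
      rw [Scheme.Hom.appLE_comp_appLE]
      simp only [h₂, r]
  have hbij : Function.Bijective (π.appLE W.1 O eπ).hom := by
    refine ⟨fun a b h => hr ?_, fun y => ?_⟩
    · rw [← hfac, ← hfac, h]
    · obtain ⟨b, rfl⟩ := σ'.ker.subschemeι_app_surjective ⟨OW, hOWa⟩ y
      obtain ⟨b', hb'⟩ := hrange b
      refine ⟨b', hθ ?_⟩
      rw [hfac, hb']
      show (σ'.appLE OW D hDe.le).hom b = (σ'.imageι.app OW ≫ σ'.toImage.appLE O D le_rfl).hom b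
      rw [Scheme.Hom.app_eq_appLE, Scheme.Hom.appLE_comp_appLE]
      simp only [Scheme.Hom.toImage_imageι]
  haveI : IsAffine (W.1 : Scheme.{u}) := W.2
  haveI : IsAffine (O : Scheme.{u}) := hOWa.preimage σ'.imageι
  have h : IsIso (π.resLE W.1 O eπ).appTop := by
    refine ((MorphismProperty.isomorphisms CommRingCat).arrow_mk_iso_iff
      (arrowResLEAppIso π W.1 O eπ)).2 ?_
    exact (ConcreteCategory.isIso_iff_bijective _).2 hbij
  exact (HasAffineProperty.iff_of_isAffine (P := MorphismProperty.isomorphisms Scheme.{u})).2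
    ⟨inferInstance, h⟩

end Groth.Agent.FlatMorAdm
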