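import Groth.Agent.FlatMorAdm.Descend
import Groth.Agent.FlatMorAdm.Piece
import Groth.Agent.FlatMor12.FittSheaf
import Groth.Agent.BlowUpLib.Separate
import Groth.Agent.Coherent.SubFTApps
import Groth.Agent.Coherent.QcohOps
import Groth.Agent.Coherent.CohBC.LocalModules
import Groth.Agent.Coherent.CohOps
import Groth.Agent.MeroLib.Torsion
import Groth.Agent.FittLib.Local

/-!
# Extending finite locally free modules after an admissible blow-up

On a Noetherian scheme `X` a finite locally free module on an open `U` extends to a finite locally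
free module on a `U`-admissible blow-up: blow up the Fitting ideals of a coherent extension, together
with ideals separating the loci of constant rank, and take the image in the push forward from `U`.
-/

set_option autoImplicit false
set_option backward.isDefEq.respectTransparency.types false

universe u

open CategoryTheory Limits AlgebraicGeometry TopologicalSpace
open Groth.Agent.Coherent

namespace Groth.Agent.FlatMorAdm

variable {X : Scheme.{u}}

theorem isFiniteTypeIdeal_of_noetherian [IsLocallyNoetherian X] (I : X.IdealSheafData) :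
    BlowUp.IsFiniteTypeIdeal I := fun W => by
  haveI : IsNoetherianRing Γ(X, W.1) := IsLocallyNoetherian.component_noetherian W
  exact IsNoetherian.noetherian _

theorem res_eq_zero_of_comap_eq_bot (I : X.IdealSheafData) (V : X.Opens) (h : I.comap V.ι = ⊥)
    (W : X.affineOpens) {t : Γ(X, W.1)} (ht : t ∈ I.ideal W) :
    ModPairLib.res (inf_le_left : W.1 ⊓ V ≤ W.1) t = 0 := by
  have hle : I ≤ V.ι.ker := by
    rw [← Scheme.IdealSheafData.map_bot, Scheme.IdealSheafData.le_map_iff_comap_le, h]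
  have h' := Scheme.Hom.ideal_ker_le _ _ (hle W ht)
  rw [RingHom.mem_ker, Scheme.Opens.ι_app] at h'
  have hle' : W.1 ⊓ V ≤ V.ι ''ᵁ V.ι ⁻¹ᵁ W.1 := fun x hx => ⟨⟨x, hx.2⟩, hx.1, rfl⟩
  refine (ModPairLib.res_res (V.ι.image_preimage_le W.1) hle' t).symm.trans ?_
  exact (congrArg _ h').trans (map_zero _)

theorem comap_opens_of_le (I : X.IdealSheafData) {V V' : X.Opens} (hle : V' ≤ V) {J : (V : Scheme.{u}).IdealSheafData}
    (h : I.comap V.ι = J) : I.comap V'.ι = J.comap (X.homOfLE hle) := by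
  rw [← h, ← Scheme.IdealSheafData.comap_comp, Scheme.homOfLE_ι]

theorem ker_ι_comap (V : X.Opens) : V.ι.ker.comap V.ι = ⊥ :=
  le_bot_iff.1 (by
    rw [← Scheme.IdealSheafData.le_map_iff_comap_le, Scheme.IdealSheafData.map_bot])

theorem disjoint_support_ker_ι (V V' : X.Opens) [QuasiCompact V.ι] (h : Disjoint (V : Set X) V') :
    Disjoint (V.ι.ker.support : Set X) V' := by
  rw [Scheme.Hom.support_ker, Scheme.Opens.range_ι]
  exact h.closure_left V'.2

theorem sheafIdeal_congr {M N : X.Modules} [Coh.IsQCoh M] [Coh.IsQCoh N] (hM : CohB1.IsFT M)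
    (hN : CohB1.IsFT N) (e : M ≅ N) (r : ℕ) : Fitt.sheafIdeal M r = Fitt.sheafIdeal N r := by
  refine Scheme.IdealSheafData.ext (funext fun W => ?_)
  rw [FlatMor12.FittSheaf.ideal_eq M hM, FlatMor12.FittSheaf.ideal_eq N hN]
  haveI := FlatMor12.FittSheaf.finite_affine M hM W
  refine FittLib.ideal_congr
    { toFun := e.hom.app W.1
      invFun := e.inv.app W.1
      left_inv := fun x => congr($(e.hom_inv_id).app W.1 x)
      right_inv := fun x => congr($(e.inv_hom_id).app W.1 x)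
      map_add' := map_add _
      map_smul' := fun c x => Scheme.Modules.Hom.app_smul e.hom c x } r

theorem comap_ι_sheafIdeal (N : X.Modules) [Coh.IsQCoh N] (hN : CohB1.IsFT N) (V : X.Opens) (r : ℕ) :
    (Fitt.sheafIdeal N r).comap V.ι = Fitt.sheafIdeal (N.restrict V.ι) r := by
  have hq : Coh.IsQCoh ((Scheme.Modules.pullback V.ι).obj N) := EGA43.InjFibre.isQCoh_pullback _ N
  have hT := isFT_pullback_qcoh V.ι (F := N) inferInstance hN
  rw [FlatMor12.FittSheaf.comap_eq N V.ι hN r]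
  have : Coh.IsQCoh (N.restrict V.ι) := inferInstance
  refine sheafIdeal_congr hT ?_ ((Scheme.Modules.restrictFunctorIsoPullback V.ι).app N).symm r
  exact isFT_of_epi ((Scheme.Modules.restrictFunctorIsoPullback V.ι).app N).inv hT

/-- The locus in `U` where `N` is free of rank `r`. -/
def rankOpen (N : X.Modules) (U : X.Opens) (r : ℕ) : X.Opens :=
  ⨆ (V : X.Opens) (_ : V ≤ U ∧ Nonempty (N.restrict V.ι ≅ FlatMod.freeMod (↑V) r)), V

theorem rankOpen_le (N : X.Modules) (U : X.Opens) (r : ℕ) : rankOpen N U r ≤ U :=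
  iSup₂_le fun _ h => h.1

theorem isFinLocFreeOfRank_rankOpen (N : X.Modules) (U : X.Opens) (r : ℕ) :
    FlatMod.IsFinLocFreeOfRank r (N.restrict (rankOpen N U r).ι) := fun y => by
  obtain ⟨V, hV, hy⟩ : ∃ V, (V ≤ U ∧ Nonempty (N.restrict V.ι ≅ FlatMod.freeMod (↑V) r)) ∧ y.1 ∈ V := by
    have := y.2
    simp only [rankOpen, Opens.mem_iSup] at this
    obtain ⟨V, hV, hy⟩ := this
    exact ⟨V, hV, hy⟩
  obtain ⟨e⟩ := hV.2
  set R := rankOpen N U r
  refine ⟨R.ι ⁻¹ᵁ V, hy, ⟨?_⟩⟩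
  exact ((Scheme.Modules.restrictFunctorComp (R.ι ⁻¹ᵁ V).ι R.ι).symm ≪≫
      Scheme.Modules.restrictFunctorCongr (morphismRestrict_ι R.ι V).symm ≪≫
      Scheme.Modules.restrictFunctorComp (R.ι ∣_ V) V.ι).app N ≪≫
    (Scheme.Modules.restrictFunctor (R.ι ∣_ V)).mapIso e ≪≫ CohBC.freeModRestrictIso (R.ι ∣_ V) r

theorem comap_rankOpen (N : X.Modules) [Coh.IsQCoh N] (hN : CohB1.IsFT N) (U : X.Opens) (r k : ℕ) :
    (k < r → (Fitt.sheafIdeal N k).comap (rankOpen N U r).ι = ⊥) ∧
      (r ≤ k → (Fitt.sheafIdeal N k).comap (rankOpen N U r).ι = ⊤) := by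
  rw [comap_ι_sheafIdeal N hN]
  have hT : CohB1.IsFT (N.restrict (rankOpen N U r).ι) :=
    isFT_of_epi ((Scheme.Modules.restrictFunctorIsoPullback _).app N).inv
      (isFT_pullback_qcoh _ (F := N) inferInstance hN)
  obtain ⟨h₁, h₂⟩ := (FlatMor12.FittSheaf.isFinLocFreeOfRank_iff _ hT r).1
    (isFinLocFreeOfRank_rankOpen N U r)
  exact ⟨h₁ k, h₂ k⟩

theorem not_mem_support_of_comap_eq_top {I : X.IdealSheafData} {V : X.Opens} (h : I.comap V.ι = ⊤)
    {x : X} (hx : x ∈ V) : x ∉ (I.support : Set X) := fun hs => by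
  have : (⟨x, hx⟩ : (V : Scheme.{u})) ∈ ((I.comap V.ι).support : Set (V : Scheme.{u})) := by
    rw [Scheme.IdealSheafData.support_comap]; exact hs
  rw [h, Scheme.IdealSheafData.support_top] at this
  exact this

theorem mem_support_of_comap_eq_bot {I : X.IdealSheafData} {V : X.Opens} (h : I.comap V.ι = ⊥)
    {x : X} (hx : x ∈ V) : x ∈ (I.support : Set X) := by
  have : (⟨x, hx⟩ : (V : Scheme.{u})) ∈ ((I.comap V.ι).support : Set (V : Scheme.{u})) := by
    rw [h, Scheme.IdealSheafData.support_bot]; trivial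
  rwa [Scheme.IdealSheafData.support_comap] at this

theorem disjoint_rankOpen (N : X.Modules) [Coh.IsQCoh N] (hN : CohB1.IsFT N) (U : X.Opens) {r s : ℕ}
    (h : r < s) : Disjoint (rankOpen N U r : Set X) (rankOpen N U s) :=
  Set.disjoint_left.2 fun _ h₁ h₂ => not_mem_support_of_comap_eq_top
    ((comap_rankOpen N hN U r r).2 le_rfl) h₁ (mem_support_of_comap_eq_bot ((comap_rankOpen N hN U s r).1 h) h₂)

/-- Near every point, a rank is singled out once the separating ideals are invertible. -/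
theorem exists_nhd_gen_or_disjoint {D : X.Opens} (hD : ModPairLib.IsDenseOpen D)
    (A B : X.Opens) (hAB : D ≤ A ⊔ B) (hA : A ≤ D) (hB : B ≤ D) (T T' Q : X.IdealSheafData)
    (hTA : T.comap A.ι = ⊥) (hT'A : T'.comap A.ι = ⊤) (hTB : T.comap B.ι = ⊤) (hT'B : T'.comap B.ι = ⊥)
    (hP : BlowUp.IsEffCartierIdeal (T ⊔ T')) (hQ : BlowUp.IsEffCartierIdeal (Q ⊔ T)) (x : X) :
    (∃ W : X.Opens, x ∈ W ∧ W ⊓ A = ⊥) ∨
      ∃ (W : X.affineOpens) (a : Γ(X, W.1)), x ∈ W.1 ∧ W.1 ⊓ D ≤ A ∧ a ∈ nonZeroDivisors Γ(X, W.1) ∧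
        Q.ideal W = Ideal.span {a} := by
  obtain ⟨W, hxW, a, ha, haI⟩ := hP x
  rw [Scheme.IdealSheafData.ideal_sup, Pi.sup_apply] at haI
  obtain ⟨t, ht, t', ht', htt⟩ := Submodule.mem_sup.1 (haI.ge (Ideal.mem_span_singleton_self a))
  obtain ⟨α, hα⟩ := Ideal.mem_span_singleton'.1 (haI.le (Submodule.mem_sup_left ht))
  obtain ⟨α', hα'⟩ := Ideal.mem_span_singleton'.1 (haI.le (Submodule.mem_sup_right ht'))
  have h1 : α + α' = 1 := (mul_cancel_right_mem_nonZeroDivisors ha).1 (by rw [add_mul, hα, hα', htt, one_mul])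
  have hzero : ∀ s ∈ T.ideal W, ∀ s' ∈ T'.ideal W, s * s' = 0 := by
    intro s hs s' hs'
    refine hD W.1 _ (X.IsSheaf.section_ext fun y hy => ?_)
    have h0 : ∀ (C : X.Opens), y ∈ C → ModPairLib.res (inf_le_left : W.1 ⊓ C ≤ W.1) (s * s') = 0 →
        ∃ (O : X.Opens) (hO : O ≤ W.1 ⊓ D), y ∈ O ∧
          X.presheaf.map (homOfLE hO).op (ModPairLib.res (inf_le_left : W.1 ⊓ D ≤ W.1) (s * s')) =
            X.presheaf.map (homOfLE hO).op 0 := by
      intro C hyC hC
      refine ⟨W.1 ⊓ C ⊓ (W.1 ⊓ D), inf_le_right, ⟨⟨hy.1, hyC⟩, hy⟩, ?_⟩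
      rw [map_zero]
      refine (ModPairLib.res_res (inf_le_left : W.1 ⊓ D ≤ W.1) inf_le_right _).trans ?_
      refine (ModPairLib.res_res (inf_le_left : W.1 ⊓ C ≤ W.1) inf_le_left _).symm.trans ?_
      rw [hC, map_zero]
    rcases hAB hy.2 with hyA | hyB
    · exact h0 A hyA (by rw [map_mul, res_eq_zero_of_comap_eq_bot T A hTA W hs, zero_mul])
    · exact h0 B hyB (by rw [map_mul, res_eq_zero_of_comap_eq_bot T' B hT'B W hs', mul_zero])
  have hαα : α * α' = 0 := by
    refine (mul_cancel_right_mem_nonZeroDivisors (mul_mem ha ha)).1 ?_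
    rw [zero_mul, ← hzero t ht t' ht', ← hα, ← hα']
    ring
  -- one of `α`, `α'` is a unit near `x`
  let p := (W.2.primeIdealOf ⟨x, hxW⟩).asIdeal
  haveI : p.IsPrime := (W.2.primeIdealOf ⟨x, hxW⟩).isPrime
  have hsplit : α ∉ p ∨ α' ∉ p := by
    by_contra h
    simp only [not_or, not_not] at h
    exact ‹p.IsPrime›.ne_top ((Ideal.eq_top_iff_one p).2 (h1 ▸ add_mem h.1 h.2))
  have key : ∀ (R R' : X.IdealSheafData) (C C' : X.Opens) (u u' : Γ(X, W.1)) (w : Γ(X, W.1)),
      w ∉ p → w * a ∈ R.ideal W → (∀ s' ∈ R'.ideal W, (w * a) * s' = 0) → R'.comap C.ι = ⊤ →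
      ∃ (V : X.affineOpens) (hle : V.1 ≤ W.1), x ∈ V.1 ∧ R'.ideal V = ⊥ ∧ V.1 ⊓ C = ⊥ := by
    intro R R' C C' _ _ w hw hwR hwR' hC
    refine ⟨⟨X.basicOpen w, W.2.basicOpen w⟩, X.basicOpen_le w,
      (EGA43.InjFibre.mem_basicOpen_iff_notMem W.2 hxW w).2 hw, ?_, ?_⟩
    · rw [← R'.map_ideal (U := ⟨X.basicOpen w, W.2.basicOpen w⟩) (V := W) (X.basicOpen_le w), eq_bot_iff,
        Ideal.map_le_iff_le_comap]
      intro s' hs'
      rw [Ideal.mem_comap, Ideal.mem_bot]
      have hz := congrArg (ModPairLib.res (X.basicOpen_le w)) (hwR' s' hs')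
      rw [map_zero, map_mul, map_mul, mul_assoc] at hz
      have hu : IsUnit (ModPairLib.res (X.basicOpen_le w) w) :=
        RingedSpace.isUnit_res_basicOpen X.toRingedSpace w
      exact (mul_right_mem_nonZeroDivisors_eq_zero_iff (ModPairLib.res_mem_nonZeroDivisors
        (X.basicOpen_le w) ha)).1 ((mul_comm _ _).trans ((hu.mul_right_eq_zero).1 hz))
    · refine Opens.ext (Set.eq_empty_iff_forall_notMem.2 fun y hy => ?_)
      refine not_mem_support_of_comap_eq_top hC hy.2 ?_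
      rw [SetLike.mem_coe, Scheme.IdealSheafData.mem_support_iff_of_mem
        (U := ⟨X.basicOpen w, W.2.basicOpen w⟩) hy.1, Scheme.mem_zeroLocus_iff]
      intro s hs
      have : R'.ideal ⟨X.basicOpen w, W.2.basicOpen w⟩ = ⊥ := by
        rw [← R'.map_ideal (U := ⟨X.basicOpen w, W.2.basicOpen w⟩) (V := W) (X.basicOpen_le w), eq_bot_iff,
          Ideal.map_le_iff_le_comap]
        intro s' hs'
        rw [Ideal.mem_comap, Ideal.mem_bot]
        have hz := congrArg (ModPairLib.res (X.basicOpen_le w)) (hwR' s' hs')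
        rw [map_zero, map_mul, map_mul, mul_assoc] at hz
        have hu : IsUnit (ModPairLib.res (X.basicOpen_le w) w) :=
          RingedSpace.isUnit_res_basicOpen X.toRingedSpace w
        exact (mul_right_mem_nonZeroDivisors_eq_zero_iff (ModPairLib.res_mem_nonZeroDivisors
          (X.basicOpen_le w) ha)).1 ((mul_comm _ _).trans ((hu.mul_right_eq_zero).1 hz))
      rw [this] at hs
      rw [show s = 0 from hs]
      simp
  rcases hsplit with hu | hu
  · -- `T` is invertible here: no point of `A`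
    obtain ⟨V, hle, hxV, -, hV⟩ := key T T' A B t t' α hu (hα ▸ ht)
      (fun s' hs' => by rw [hα]; exact hzero t ht s' hs') hT'A
    exact Or.inl ⟨V.1, hxV, hV⟩
  · obtain ⟨V, hle, hxV, hTV, hV⟩ := key T' T B A t' t α' hu (hα' ▸ ht')
      (fun s hs => by rw [hα', mul_comm]; exact hzero s hs t' ht') hTB
    obtain ⟨W', hxW', b, hb, hbI⟩ := hQ x
    obtain ⟨V', hV', hxV', hV'le⟩ := exists_isAffineOpen_mem_and_subset (x := x) (U := V.1 ⊓ W'.1) ⟨hxV, hxW'⟩
    have hV'W : V' ≤ W'.1 := fun y hy => (hV'le hy).2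
    have hV'V : V' ≤ V.1 := fun y hy => (hV'le hy).1
    refine Or.inr ⟨⟨V', hV'⟩, ModPairLib.res hV'W b, hxV', fun y hy => ?_,
      ModPairLib.res_mem_nonZeroDivisors hV'W hb, ?_⟩
    · rcases hAB hy.2 with h | h
      · exact h
      · exact ((hV.le ⟨hV'V hy.1, h⟩ : y ∈ (⊥ : X.Opens))).elim
    · have hT0 : T.ideal ⟨V', hV'⟩ = ⊥ := by
        rw [← T.map_ideal (U := ⟨V', hV'⟩) (V := V) hV'V, hTV, Ideal.map_bot]
      have h := ((Q ⊔ T).map_ideal (U := ⟨V', hV'⟩) (V := W') hV'W).symm.trans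
        (congrArg (Ideal.map _) hbI)
      rw [Scheme.IdealSheafData.ideal_sup, Pi.sup_apply, hT0, sup_bot_eq, Ideal.map_span,
        Set.image_singleton] at h
      exact h

/-- A finite locally free module on an open of a Noetherian scheme extends, after an admissible
blow-up, to a finite locally free module. -/
theorem exists_blowUp_extend_finLocFree [IsNoetherian X] (U : X.Opens) (F : (U : Scheme.{u}).Modules)
    (hF : FlatMod.IsFinLocFree F) :
    ∃ (I : X.IdealSheafData) (X' : Scheme.{u}) (b : X' ⟶ X), BlowUp.IsBlowUp b I ∧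
      BlowUp.IsAdmissibleFor U I ∧ ModPairLib.IsDenseOpen (b ⁻¹ᵁ U) ∧
      ∃ E : X'.Modules, FlatMod.IsFinLocFree E ∧
        Nonempty ((Scheme.Modules.pullback (b ⁻¹ᵁ U).ι).obj E ≅ (Scheme.Modules.pullback (b ∣_ U)).obj F) := by
  classical
  haveI : Coh.IsQCoh F := by
    choose V n hV e using hF
    exact Coherent.isQCoh_of_openImmersion_cover F (fun x => (V x).ι)
      (fun x => ⟨x, by rw [Scheme.Opens.opensRange_ι]; exact hV x⟩) fun x => by
      have := Coherent.isQCoh_freeMod (X := (V x : Scheme.{u})) (I := ULift.{u} (Fin (n x)))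
      exact Coherent.isQCoh_of_iso ((e x).some ≪≫ (Props12.freeModIso _ (n x)).symm).symm
  have hFT : CohB1.IsFT F := by
    haveI : SheafOfModules.IsFinitePresentation (R := (U : Scheme.{u}).ringCatSheaf) F :=
      Props12.isFP_of_isFinLocFree F hF
    exact inferInstanceAs (SheafOfModules.IsFiniteType (R := (U : Scheme.{u}).ringCatSheaf) F)
  obtain ⟨N, hNq, hN, ⟨eN⟩⟩ := exists_finiteType_extension_module_qcqs U (NoetherianSpace.isCompact _) F hFT
  haveI := hNq
  -- the rank decomposition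
  have hcovU : ∀ x ∈ U, ∃ r, x ∈ rankOpen N U r := by
    intro x hx
    obtain ⟨V, n, hxV, ⟨e⟩⟩ := hF ⟨x, hx⟩
    refine ⟨n, ?_⟩
    simp only [rankOpen, Opens.mem_iSup]
    refine ⟨U.ι ''ᵁ V, ⟨U.ι_image_le V, ⟨?_⟩⟩, ⟨⟨x, hx⟩, hxV, rfl⟩⟩
    let θ := IsOpenImmersion.isoOfRangeEq (U.ι ''ᵁ V).ι (V.ι ≫ U.ι) (by
      rw [Scheme.Opens.range_ι, Scheme.Hom.comp_base, TopCat.coe_comp, Set.range_comp, Scheme.Opens.range_ι]
      rfl)
    exact ((Scheme.Modules.restrictFunctorCongr (IsOpenImmersion.isoOfRangeEq_hom_fac _ _ _).symm ≪≫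
        Scheme.Modules.restrictFunctorComp θ.hom (V.ι ≫ U.ι)).app N) ≪≫
      (Scheme.Modules.restrictFunctor θ.hom).mapIso
        ((Scheme.Modules.restrictFunctorComp V.ι U.ι).app N ≪≫
          (Scheme.Modules.restrictFunctor V.ι).mapIso eN ≪≫ e) ≪≫ CohBC.freeModRestrictIso θ.hom n
  obtain ⟨s, hs⟩ := (NoetherianSpace.isCompact (U : Set X)).elim_finite_subcover
    (fun r => (rankOpen N U r : Set X)) (fun r => (rankOpen N U r).2)
    (fun x hx => Set.mem_iUnion.2 (hcovU x hx))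
  let A : ℕ → X.Opens := fun r => rankOpen N U r
  let B : ℕ → X.Opens := fun r => (s.erase r).sup A
  have hABd : ∀ r, Disjoint (A r : Set X) (B r) := by
    intro r
    refine Set.disjoint_left.2 fun x hA hB => ?_
    simp only [B, Finset.sup_eq_iSup, SetLike.mem_coe, Opens.mem_iSup] at hB
    obtain ⟨k, hk, hxk⟩ := hB
    rcases lt_or_gt_of_ne (Finset.ne_of_mem_erase hk) with h | h
    · exact Set.disjoint_left.1 (disjoint_rankOpen N hN U h) hxk hA
    · exact Set.disjoint_left.1 (disjoint_rankOpen N hN U h) hA hxk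
  have hcov : ∀ x ∈ U, ∀ r, x ∈ A r ∨ x ∈ B r := by
    intro x hx r
    obtain ⟨k, hk, hxk⟩ := Set.mem_iUnion₂.1 (hs hx)
    by_cases h : k = r
    · exact Or.inl (h ▸ hxk)
    · refine Or.inr ?_
      simp only [B, Finset.sup_eq_iSup, Opens.mem_iSup]
      exact ⟨k, Finset.mem_erase.2 ⟨h, hk⟩, hxk⟩
  haveI : ∀ V : X.Opens, QuasiCompact V.ι := fun V => by
    haveI : CompactSpace (V : Scheme.{u}) := isCompact_iff_compactSpace.1 (NoetherianSpace.isCompact _)
    exact quasiCompact_of_compactSpace _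
  let T : ℕ → X.IdealSheafData := fun r => (A r).ι.ker
  let T' : ℕ → X.IdealSheafData := fun r => (B r).ι.ker
  obtain ⟨Z, hZ, hZs⟩ := BlowUpLib.exists_finiteType_support_eq ((U : Set X)ᶜ) U.2.isClosed_compl
    (NoetherianSpace.isCompact _)
  obtain ⟨K₁, -, hK₁s, hK₁⟩ := exists_prod s (fun r => T r ⊔ T' r) fun r _ => isFiniteTypeIdeal_of_noetherian _
  obtain ⟨K₂, -, hK₂s, hK₂⟩ := exists_prod s (fun r => Fitt.sheafIdeal N r ⊔ T r)
    fun r _ => isFiniteTypeIdeal_of_noetherian _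
  set J := Z * (K₁ * K₂) with hJ
  have hJU : BlowUp.IsAdmissibleFor U J := by
    refine ⟨isFiniteTypeIdeal_of_noetherian _, Set.disjoint_left.2 fun x hx hxU => ?_⟩
    rw [hJ, Scheme.IdealSheafData.support_mul, Scheme.IdealSheafData.support_mul] at hx
    rcases hx with h | h | h
    · rw [hZs] at h; exact h hxU
    · obtain ⟨r, -, hr⟩ := hK₁s x h
      rw [Scheme.IdealSheafData.support_sup] at hr
      rcases hcov x hxU r with h' | h'
      · exact Set.disjoint_left.1 (disjoint_support_ker_ι (B r) (A r) (hABd r).symm) hr.2 h'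
      · exact Set.disjoint_left.1 (disjoint_support_ker_ι (A r) (B r) (hABd r)) hr.1 h'
    · obtain ⟨r, -, hr⟩ := hK₂s x h
      rw [Scheme.IdealSheafData.support_sup] at hr
      rcases hcov x hxU r with h' | h'
      · exact not_mem_support_of_comap_eq_top ((comap_rankOpen N hN U r r).2 le_rfl) h' hr.1
      · exact Set.disjoint_left.1 (disjoint_support_ker_ι (A r) (B r) (hABd r)) hr.2 h'
  obtain ⟨X', b, hb⟩ := BlowUpLib.exists_isBlowUp (I := J)
  have hJc := hb.1
  rw [hJ, ModPairLib.comap_mul] at hJc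
  have hZc := SDiv28.isEffCartier_left_of_mul hJc
  have hKc := SDiv28.isEffCartier_right_of_mul hJc
  rw [ModPairLib.comap_mul] at hKc
  set D := b ⁻¹ᵁ U with hDdef
  have hDd : ModPairLib.IsDenseOpen D := by
    refine (ModPairLib.isDenseOpen_interior hZc).mono (fun y hy => ?_)
    have : y ∉ ((Z.comap b).support : Set X') := hy
    rw [Scheme.IdealSheafData.support_comap] at this
    by_contra h
    exact this (show b y ∈ (Z.support : Set X) by rw [hZs]; exact h)
  refine ⟨J, X', b, hb, hJU, hDd, ?_⟩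
  haveI : IsProper b := BlowUpLib.isProper_of_isBlowUp hb hJU.1
  haveI : CompactSpace X' := QuasiCompact.compactSpace_of_compactSpace b
  haveI : IsLocallyNoetherian X' := LocallyOfFiniteType.isLocallyNoetherian b
  haveI : AlgebraicGeometry.IsNoetherian X' := {}
  let N' := (Scheme.Modules.pullback b).obj N
  haveI hN'q : Coh.IsQCoh N' := EGA43.InjFibre.isQCoh_pullback b N
  have hN' : CohB1.IsFT N' := isFT_pullback_qcoh b (F := N) inferInstance hN
  haveI : QuasiCompact D.ι := by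
    haveI : CompactSpace (D : Scheme.{u}) := isCompact_iff_compactSpace.1 (NoetherianSpace.isCompact _)
    exact quasiCompact_of_compactSpace _
  let η := (Scheme.Modules.restrictAdjunction D.ι).unit.app N'
  haveI : Coh.IsQCoh ((Scheme.Modules.restrictFunctor D.ι ⋙ Scheme.Modules.pushforward D.ι).obj N') := by
    haveI : Coh.IsQCoh (N'.restrict D.ι) := inferInstance
    exact Coherent.isQCoh_push D.ι (N'.restrict D.ι)
  haveI : Coh.IsQCoh ((𝟭 X'.Modules).obj N') := hN'q
  let G := Abelian.image η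
  let π : N' ⟶ G := Abelian.factorThruImage η
  haveI hGq : Coh.IsQCoh G := isQCoh_image η
  have hG : CohB1.IsFT G := isFT_of_epi π hN'
  have hπη : ∀ (V : X'.Opens) (m : Γ(N', V)), π.app V m = 0 ↔
      resM N' (D.ι.image_preimage_le V) m = 0 := by
    intro V m
    have he : (Abelian.image.ι η).app V (π.app V m) = η.app V m :=
      congr($(Abelian.image.fac η).app V m)
    constructor
    · intro h
      show η.app V m = 0
      rw [← he, h, map_zero]
    · intro h
      refine app_injective_of_mono (Abelian.image.ι η) V ?_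
      rw [map_zero, he]
      exact h
  haveI : IsIso ((Scheme.Modules.restrictFunctor D.ι).map π) := by
    haveI : Mono ((Scheme.Modules.restrictFunctor D.ι).map π) := by
      refine MeroLib.mono_of_app_injective _ fun V => (injective_iff_map_eq_zero _).2 fun m hm => ?_
      have h := (hπη (D.ι ''ᵁ V) m).1 hm
      have hle : D.ι ''ᵁ V ≤ D.ι ''ᵁ D.ι ⁻¹ᵁ D.ι ''ᵁ V := by rw [D.ι.preimage_image_eq]
      have h' := congrArg (resM N' hle) h
      rw [map_zero, resM_resM, resM_refl] at h'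
      exact h'
    exact isIso_of_mono_of_epi _
  -- local structure
  have hloc : ∀ x : X', ∃ (W : X'.Opens) (r : ℕ), x ∈ W ∧
      Nonempty (G.restrict W.ι ≅ FlatMod.freeMod (↑W) r) := by
    intro x
    have hpull : ∀ (V : X.Opens) (I : X.IdealSheafData) (L : (V : Scheme.{u}).IdealSheafData),
        I.comap V.ι = L → (I.comap b).comap (b ⁻¹ᵁ V).ι = L.comap (b ∣_ V) := fun V I L h => by
      rw [← h, ← Scheme.IdealSheafData.comap_comp, ← Scheme.IdealSheafData.comap_comp, morphismRestrict_ι]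
    have htop : ∀ {Y Z : Scheme.{u}} (f : Y ⟶ Z), (⊤ : Z.IdealSheafData).comap f = ⊤ := fun f =>
      (Scheme.IdealSheafData.support_eq_bot_iff _).1 (by
        ext y
        simp [Scheme.IdealSheafData.support_comap])
    have hstep : ∀ r ∈ s, (∃ W : X'.Opens, x ∈ W ∧ W ⊓ b ⁻¹ᵁ A r = ⊥) ∨
        ∃ (W : X'.affineOpens) (a : Γ(X', W.1)), x ∈ W.1 ∧ W.1 ⊓ D ≤ b ⁻¹ᵁ A r ∧
          a ∈ nonZeroDivisors Γ(X', W.1) ∧ ((Fitt.sheafIdeal N r).comap b).ideal W = Ideal.span {a} := by
      intro r hr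
      refine exists_nhd_gen_or_disjoint hDd (b ⁻¹ᵁ A r) (b ⁻¹ᵁ B r) ?_ ?_ ?_ ((T r).comap b)
        ((T' r).comap b) _ ?_ ?_ ?_ ?_ ?_ ?_ x
      · intro y hy; exact hcov (b y) hy r
      · exact fun y hy => rankOpen_le N U r hy
      · intro y hy
        have : b y ∈ B r := hy
        simp only [B, Finset.sup_eq_iSup, Opens.mem_iSup] at this
        obtain ⟨k, -, hk⟩ := this
        exact rankOpen_le N U k hk
      · rw [hpull _ _ _ (ker_ι_comap (A r)), Scheme.IdealSheafData.comap_bot]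
      · rw [hpull _ _ ⊤ ((Scheme.IdealSheafData.support_eq_bot_iff _).1 (by
          ext y
          rw [Scheme.IdealSheafData.support_comap]
          exact iff_of_false (fun h => Set.disjoint_left.1 (disjoint_support_ker_ι (B r) (A r) (hABd r).symm) h y.2) id)), htop]
      · rw [hpull _ _ ⊤ ((Scheme.IdealSheafData.support_eq_bot_iff _).1 (by
          ext y
          rw [Scheme.IdealSheafData.support_comap]
          exact iff_of_false (fun h => Set.disjoint_left.1 (disjoint_support_ker_ι (A r) (B r) (hABd r)) h y.2) id)), htop]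
      · rw [hpull _ _ _ (ker_ι_comap (B r)), Scheme.IdealSheafData.comap_bot]
      · rw [← Scheme.IdealSheafData.comap_sup]
        exact hK₁ X' b (SDiv28.isEffCartier_left_of_mul hKc) r hr
      · rw [← Scheme.IdealSheafData.comap_sup]
        exact hK₂ X' b (SDiv28.isEffCartier_right_of_mul hKc) r hr
    obtain ⟨r, hr, W, a, hxW, hWA, ha, haI⟩ : ∃ r ∈ s, ∃ (W : X'.affineOpens) (a : Γ(X', W.1)),
        x ∈ W.1 ∧ W.1 ⊓ D ≤ b ⁻¹ᵁ A r ∧ a ∈ nonZeroDivisors Γ(X', W.1) ∧
          ((Fitt.sheafIdeal N r).comap b).ideal W = Ideal.span {a} := by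
      by_contra hne
      have hall : ∀ r ∈ s, ∃ W : X'.Opens, x ∈ W ∧ W ⊓ b ⁻¹ᵁ A r = ⊥ := fun r hr =>
        (hstep r hr).resolve_right fun h => hne ⟨r, hr, h⟩
      choose! O hxO hO using hall
      obtain ⟨y, hy, hyD⟩ := dense_iff_inter_open.1 (dense_of_isDenseOpen hDd) (⋂ r ∈ s, (O r : Set X'))
        (isOpen_biInter_finset fun r _ => (O r).2) ⟨x, Set.mem_iInter₂.2 hxO⟩
      obtain ⟨r, hr, hyr⟩ := Set.mem_iUnion₂.1 (hs hyD)
      exact (hO r hr).le ⟨Set.mem_iInter₂.1 hy r hr, hyr⟩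
    haveI := FlatMor12.FittSheaf.finite_affine N' hN' W
    haveI := FlatMor12.FittSheaf.finite_affine G hG W
    let q : Γ(N', W.1) →ₗ[Γ(X', W.1)] Γ(G, W.1) :=
      { toFun := π.app W.1
        map_add' := map_add _
        map_smul' := fun c m => Scheme.Modules.Hom.app_smul π c m }
    have hq : Function.Surjective q := FlatMor12.FittSheaf.surjective_app_of_epi' π W.2
    have haF : Fitt.ideal Γ(X', W.1) Γ(N', W.1) r = Ideal.span {a} := by
      rw [← FlatMor12.FittSheaf.ideal_eq N' hN' r W, ← FlatMor12.FittSheaf.comap_eq N b hN r, haI]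
    have hunit : IsUnit (ModPairLib.res (inf_le_left : W.1 ⊓ D ≤ W.1) a) := by
      refine RingedSpace.isUnit_of_isUnit_germ X'.toRingedSpace _ _ fun y hy => ?_
      have hns : y ∉ (((Fitt.sheafIdeal N r).comap b).support : Set X') := by
        rw [Scheme.IdealSheafData.support_comap]
        exact not_mem_support_of_comap_eq_top ((comap_rankOpen N hN U r r).2 le_rfl) (hWA hy)
      rw [SetLike.mem_coe, Scheme.IdealSheafData.mem_support_iff_of_mem (U := W) hy.1, haI,
        Scheme.zeroLocus_span, Scheme.mem_zeroLocus_iff] at hns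
      simp only [Set.mem_singleton_iff, forall_eq, not_not] at hns
      rw [show X'.presheaf.germ _ y hy (ModPairLib.res (inf_le_left : W.1 ⊓ D ≤ W.1) a) =
        X'.presheaf.germ W.1 y hy.1 a from TopCat.Presheaf.germ_res_apply _ _ _ _ _]
      exact (X'.mem_basicOpen a y hy.1).1 hns
    have hkill : ∀ m : Γ(N', W.1), a • m = 0 → m ∈ LinearMap.ker q := by
      intro m hm
      refine (hπη W.1 m).2 ?_
      have hle : D.ι ''ᵁ D.ι ⁻¹ᵁ W.1 ≤ W.1 ⊓ D := by
        rintro _ ⟨y, hy, rfl⟩; exact ⟨hy, y.2⟩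
      have hz := congrArg (resM N' (inf_le_left : W.1 ⊓ D ≤ W.1)) hm
      rw [map_zero, resM_smul] at hz
      rw [← resM_resM N' (inf_le_left : W.1 ⊓ D ≤ W.1) hle]
      rw [(hunit.smul_eq_zero).1 hz, map_zero]
    have htopG : Fitt.ideal Γ(X', W.1) Γ(G, W.1) r = ⊤ := by
      rw [← FittLib.ideal_congr (q.quotKerEquivOfSurjective hq)]
      exact FittLib.ideal_quotient_eq_top r ha (haF ▸ Ideal.mem_span_singleton_self a) haF.le _ hkill
    have hbotG : ∀ k < r, Fitt.ideal Γ(X', W.1) Γ(G, W.1) k = ⊥ := by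
      intro k hk
      refine eq_bot_iff.2 fun d hd => ?_
      rw [← FlatMor12.FittSheaf.ideal_eq G hG k W] at hd
      have hb0 : (Fitt.sheafIdeal G k).comap (D ⊓ b ⁻¹ᵁ A r).ι = ⊥ := by
        rw [comap_opens_of_le (Fitt.sheafIdeal G k) (inf_le_left : D ⊓ b ⁻¹ᵁ A r ≤ D)
          ((comap_ι_sheafIdeal G hG D k).trans ?_) , ← comap_opens_of_le
          ((Fitt.sheafIdeal N k).comap b) (inf_le_left : D ⊓ b ⁻¹ᵁ A r ≤ D)
          ((congrArg (Scheme.IdealSheafData.comap · D.ι) (FlatMor12.FittSheaf.comap_eq N b hN k)).trans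
            (comap_ι_sheafIdeal N' hN' D k))]
        · rw [comap_opens_of_le _ (inf_le_right : D ⊓ b ⁻¹ᵁ A r ≤ b ⁻¹ᵁ A r)
            (hpull _ _ _ ((comap_rankOpen N hN U r k).1 hk)), Scheme.IdealSheafData.comap_bot,
            Scheme.IdealSheafData.comap_bot]
        · exact (sheafIdeal_congr (isFT_of_epi ((Scheme.Modules.restrictFunctorIsoPullback _).app N').inv
            (isFT_pullback_qcoh _ (F := N') inferInstance hN'))
            (isFT_of_epi ((Scheme.Modules.restrictFunctorIsoPullback _).app G).inv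
            (isFT_pullback_qcoh _ (F := G) inferInstance hG))
            (asIso ((Scheme.Modules.restrictFunctor D.ι).map π)) k).symm
      rw [Ideal.mem_bot]
      refine hDd W.1 d ?_
      have hz := congrArg (ModPairLib.res (show W.1 ⊓ D ≤ W.1 ⊓ (D ⊓ b ⁻¹ᵁ A r) from
        fun y hy => ⟨hy.1, hy.2, hWA hy⟩)) (res_eq_zero_of_comap_eq_bot _ _ hb0 W hd)
      rwa [map_zero, ModPairLib.res_res] at hz
    haveI : IsAffine (W.1 : Scheme.{u}) := W.2
    have hGW : CohB1.IsFT (G.restrict W.1.ι) :=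
      isFT_of_epi ((Scheme.Modules.restrictFunctorIsoPullback _).app G).inv
        (isFT_pullback_qcoh _ (F := G) inferInstance hG)
    have hrank : FlatMod.IsFinLocFreeOfRank r (G.restrict W.1.ι) := by
      refine (FlatMor12.FittSheaf.isFinLocFreeOfRank_iff _ hGW r).2 ⟨fun k hk => ?_, fun k hk => ?_⟩
      · rw [← comap_ι_sheafIdeal G hG]
        refine FlatMor12.FittSheaf.eq_bot_of_cover _ fun y => ⟨⟨⊤, isAffineOpen_top _⟩, trivial, ?_⟩
        rw [ProjLib.comap_ideal_eq _ W.1.ι W ⟨⊤, isAffineOpen_top _⟩ (fun z _ => z.2),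
          FlatMor12.FittSheaf.ideal_eq G hG, hbotG k hk, Ideal.map_bot]
      · rw [← comap_ι_sheafIdeal G hG]
        refine FlatMor12.FittSheaf.eq_top_of_cover _ fun y => ⟨⟨⊤, isAffineOpen_top _⟩, trivial, ?_⟩
        have : (Fitt.sheafIdeal G k).ideal W = ⊤ := top_le_iff.1 (le_trans
          (le_of_eq (by rw [FlatMor12.FittSheaf.ideal_eq G hG, htopG]))
          (FlatMor12.FittSheaf.sheafIdeal_mono G hG hk W))
        rw [ProjLib.comap_ideal_eq _ W.1.ι W ⟨⊤, isAffineOpen_top _⟩ (fun z _ => z.2), this, Ideal.map_top]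
    obtain ⟨V, hxV, ⟨e⟩⟩ := hrank ⟨x, hxW⟩
    let θ := IsOpenImmersion.isoOfRangeEq (W.1.ι ''ᵁ V).ι (V.ι ≫ W.1.ι) (by
      rw [Scheme.Opens.range_ι, Scheme.Hom.comp_base, TopCat.coe_comp, Set.range_comp, Scheme.Opens.range_ι]
      rfl)
    exact ⟨W.1.ι ''ᵁ V, r, ⟨⟨x, hxW⟩, hxV, rfl⟩,
      ⟨((Scheme.Modules.restrictFunctorCongr (IsOpenImmersion.isoOfRangeEq_hom_fac _ _ _).symm ≪≫
        Scheme.Modules.restrictFunctorComp θ.hom (V.ι ≫ W.1.ι)).app G) ≪≫
      (Scheme.Modules.restrictFunctor θ.hom).mapIso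
        ((Scheme.Modules.restrictFunctorComp V.ι W.1.ι).app G ≪≫ e) ≪≫ CohBC.freeModRestrictIso θ.hom r⟩⟩
  refine ⟨G, hloc, ⟨?_⟩⟩
  exact ((Scheme.Modules.restrictFunctorIsoPullback D.ι).app G).symm ≪≫
    (asIso ((Scheme.Modules.restrictFunctor D.ι).map π)).symm ≪≫
    (Scheme.Modules.restrictFunctorIsoPullback D.ι).app N' ≪≫
    ((Scheme.Modules.pullbackComp D.ι b) ≪≫ Scheme.Modules.pullbackCongr (morphismRestrict_ι b U).symm ≪≫
      (Scheme.Modules.pullbackComp (b ∣_ U) U.ι).symm).app N ≪≫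
    (Scheme.Modules.pullback (b ∣_ U)).mapIso
      (((Scheme.Modules.restrictFunctorIsoPullback U.ι).app N).symm ≪≫ eN)

end Groth.Agent.FlatMorAdm
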