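import Groth.Agent.FlatMor12.AmpleFamily
import Groth.Agent.AmpleLib.Compose
import Groth.Agent.S12416
import Groth.Agent.RelVALib.Projective

/-!
# Blow-ups are projective; composites of projective morphisms
-/

set_option autoImplicit false
set_option backward.isDefEq.respectTransparency.types false
set_option maxHeartbeats 1000000

universe u

open CategoryTheory CategoryTheory.Limits AlgebraicGeometry Opposite TopologicalSpace
open Groth.Agent.Coherent Groth.Agent.PicLib Groth.Agent.AmpleLib Groth.Agent.FlatMor12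

namespace Groth.Agent.FlatMorAdm

/-- The ideal of the exceptional divisor is relatively ample on a blow-up. -/
theorem isRelAmple_blowUp {X X' : Scheme.{u}} {I : X.IdealSheafData} {b : X' ⟶ X} [QuasiCompact b]
    (hb : BlowUp.IsBlowUp b I) : RelAmple.IsRelAmple b (ClSub.idealMod (I.comap b)) := by
  have hE := IdealModGen.isInvertible_idealMod _ hb.1
  set M := ClSub.idealMod (I.comap b)
  refine isRelAmple_of_affine_cover b hE fun x => ?_
  obtain ⟨U, hU, hxU, -⟩ := exists_isAffineOpen_mem_and_subset (show x ∈ (⊤ : X.Opens) from trivial)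
  refine ⟨⟨U, hU⟩, hxU, ?_⟩
  show CohB1.IsAmple ((Scheme.Modules.pullback (b ⁻¹ᵁ U).ι).obj M)
  set σ := (b ⁻¹ᵁ U).ι with hσ
  have hP := PicLoc.isInvertible_pullback σ hE
  refine isAmple_iff_affGlocus.2 ⟨hP, isCompact_iff_compactSpace.1 (isCompact_preimage_affine hU), fun y => ?_⟩
  obtain ⟨a, ha, hy⟩ := BlowUpLib.exists_mem_locus b hb.1 ⟨U, hU⟩ (show b (σ y) ∈ U from y.2)
    ((I.ideal ⟨U, hU⟩ : Ideal Γ(X, U)) : Set _) (Ideal.span_eq _)
  obtain ⟨k, hk1, hk2⟩ := AmpleFamily.exists_section_locus hb ⟨U, hU⟩ ha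
  set A := BlowUpLib.locus I b ⟨U, hU⟩ a with hA
  have htop : (⊤ : (b ⁻¹ᵁ U : Scheme.{u}).Opens) ≤ σ ⁻¹ᵁ (b ⁻¹ᵁ U) := fun z _ => z.2
  set u := resM _ htop (pullSec σ k) with hu
  have hgl : glocus _ u = σ ⁻¹ᵁ A := by
    refine le_antisymm (fun z hz => ?_) ?_
    · have hW : σ ''ᵁ glocus _ u ≤ b ⁻¹ᵁ U :=
        (σ.image_le_opensRange _).trans (Scheme.Opens.opensRange_ι _).le
      have hgen : IsGen M (σ ''ᵁ glocus _ u) (resM M hW k) := by
        refine isGen_of_pullSec σ hE (σ.image_le_opensRange _) ?_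
        rw [← resM_pullSec σ hW]
        have h := (isGen_glocus u).restrict
          ((Scheme.Hom.preimage_image_eq σ (glocus _ u)).le)
        rw [hu, resM_resM, resM_resM] at h
        exact h
      exact hk2 _ hW hgen ⟨z, hz, rfl⟩
    · rw [le_glocus_iff, hu, resM_resM]
      have h := isGen_pullSec σ hk1 hE
      rwa [← resM_pullSec σ (BlowUpLib.locus_le b ⟨U, hU⟩ a)] at h
  refine ⟨1, Nat.one_pos, powSec u 1, ?_, le_top, ?_⟩
  · rw [glocus_powSec hP u 0, hgl]
    exact hy
  · rw [glocus_powSec hP u 0, hgl]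
    refine (AmpleFamily.isAffineOpen_locus hb ⟨U, hU⟩ ha).preimage_of_isOpenImmersion σ ?_
    rw [Scheme.Opens.opensRange_ι]
    exact BlowUpLib.locus_le b ⟨U, hU⟩ a

/-- A blow-up in a finite type ideal of a qcqs scheme is projective. -/
theorem isProjective_blowUp {X X' : Scheme.{u}} [CompactSpace X] [QuasiSeparatedSpace X]
    {I : X.IdealSheafData} {b : X' ⟶ X} (hI : BlowUp.IsFiniteTypeIdeal I) (hb : BlowUp.IsBlowUp b I) :
    RelProj.IsProjective b := by
  haveI := BlowUpLib.isProper_of_isBlowUp hb hI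
  exact Groth.Agent.S12416.result b ⟨inferInstance, inferInstance, _, isRelAmple_blowUp hb⟩

/-- Composites of projective morphisms over a qcqs base. -/
theorem isProjective_comp {X Y S : Scheme.{u}} [CompactSpace S] [QuasiSeparatedSpace S]
    (f : X ⟶ Y) (g : Y ⟶ S) (hf : RelProj.IsProjective f) (hg : RelProj.IsProjective g) :
    RelProj.IsProjective (f ≫ g) := by
  haveI := RelVALib.isProper_of_isProjective hf
  haveI := RelVALib.isProper_of_isProjective hg
  obtain ⟨-, -, L, hL⟩ := RelVALib.isQuasiProjective_of_isProjective hf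
  obtain ⟨-, -, K, hK⟩ := RelVALib.isQuasiProjective_of_isProjective hg
  obtain ⟨n, -, hn⟩ := eventually_isRelAmple_comp f g hL hK
  exact Groth.Agent.S12416.result (f ≫ g) ⟨inferInstance, inferInstance, _, hn n le_rfl⟩

end Groth.Agent.FlatMorAdm
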