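import Groth.Agent.FlatMorAdm.Descend
import Groth.Agent.ModPairLib.MProd

/-!
# Birational morphisms and quasi-dominations after admissible blow-ups

* `isBlowUp_strict`: the strict transform along a blow-up is the blow-up in the inverse image ideal.
* `exists_openImmersion_of_birational`: a separated finite type morphism which is an isomorphism over
  `U` becomes an open immersion after admissible blow-ups of source and target.
* `exists_blowUp_over`: the version with a larger prescribed open.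
-/

set_option autoImplicit false
set_option backward.isDefEq.respectTransparency.types false

universe u

open CategoryTheory Limits AlgebraicGeometry TopologicalSpace
open Groth.Agent.ModPairLib (res res_res)

namespace Groth.Agent.FlatMorAdm

open BlowUpLib

variable {X Y : Scheme.{u}}

theorem isBlowUp_strict (f : X ⟶ Y) {K : Y.IdealSheafData} {Y' P' : Scheme.{u}} {c : Y' ⟶ Y}
    (hc : BlowUp.IsBlowUp c K) {p₁ : P' ⟶ X} {p₂ : P' ⟶ Y'} (H : IsPullback p₁ p₂ f c)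
    (O : P'.Opens) (hO : O = ModPair.interior ((K.comap f).comap p₁)) [QuasiCompact O.ι] :
    BlowUp.IsBlowUp (O.ι.imageι ≫ p₁) (K.comap f) := by
  have hint : p₂ ⁻¹ᵁ ModPair.interior (K.comap c) = O := by
    rw [hO, ← ModPairLib.interior_comap, ← Scheme.IdealSheafData.comap_comp,
      ← Scheme.IdealSheafData.comap_comp, H.w]
  have hdense : ModPairLib.IsDenseOpen (O.ι.imageι ⁻¹ᵁ O) := by
    have hqc : QuasiCompact (O.ι.imageι ⁻¹ᵁ O).ι := MorphismProperty.of_isPullback (P := @QuasiCompact.{u})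
      (isPullback_morphismRestrict O.ι.imageι O) ‹_›
    have hr : Set.range O.ι.toImage ⊆ Set.range (O.ι.imageι ⁻¹ᵁ O).ι := by
      rw [Scheme.Opens.range_ι]
      rintro _ ⟨y, rfl⟩
      show O.ι.imageι (O.ι.toImage y) ∈ O
      rw [← Scheme.Hom.comp_apply, Scheme.Hom.toImage_imageι]
      exact y.2
    haveI : IsSchemeTheoreticallyDominant (O.ι.imageι ⁻¹ᵁ O).ι := by
      rw [isSchemeTheoreticallyDominant_iff, ← le_bot_iff, ← ModPairLib.ker_toImage O.ι]
      conv_rhs => rw [← IsOpenImmersion.lift_fac _ _ hr]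
      exact Scheme.Hom.le_ker_comp _ _
    exact ModPairLib.IsDenseOpen.of_isSTD _
  refine ⟨?_, fun Z g hg => ?_⟩
  · rw [← Scheme.IdealSheafData.comap_comp, Category.assoc, H.w, ← Category.assoc,
      Scheme.IdealSheafData.comap_comp]
    refine ModPairLib.isEffCartier_comap_of_dense hc.1 _ ?_
    rw [Scheme.Hom.comp_preimage, hint]
    exact hdense
  rw [← Scheme.IdealSheafData.comap_comp] at hg
  obtain ⟨h, hh, -⟩ := hc.2 Z (g ≫ f) hg
  let k := H.lift g h hh.symm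
  have hkd : ModPairLib.IsDenseOpen (k ⁻¹ᵁ O) := by
    rw [← hint, ← Scheme.Hom.comp_preimage, H.lift_snd]
    refine (ModPairLib.isEffCartier_comap_iff hc.1 _).1 ?_
    rwa [← Scheme.IdealSheafData.comap_comp, hh]
  have hker : O.ι.imageι.ker ≤ k.ker := by
    rw [Scheme.IdealSheafData.ker_subschemeι]
    refine Scheme.IdealSheafData.le_ofIdeals_iff.2 fun V s hs => ?_
    rw [Scheme.Hom.ker_apply, RingHom.mem_ker, Scheme.Opens.ι_app] at hs
    rw [RingHom.mem_ker]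
    refine hkd _ _ ?_
    have hle : k ⁻¹ᵁ V.1 ⊓ k ⁻¹ᵁ O ≤ k ⁻¹ᵁ (O.ι ''ᵁ O.ι ⁻¹ᵁ V.1) := by
      rintro z ⟨hzV, hzO⟩
      exact ⟨⟨k z, hzO⟩, hzV, rfl⟩
    have hleV : O.ι ''ᵁ O.ι ⁻¹ᵁ V.1 ≤ V.1 := by
      rintro _ ⟨y, hy, rfl⟩
      exact hy
    have h1 : res (k.preimage_mono hleV) ((k.app V.1).hom s) =
        (k.app (O.ι ''ᵁ O.ι ⁻¹ᵁ V.1)).hom (res hleV s) :=
      (ConcreteCategory.congr_hom (k.naturality (homOfLE hleV).op) s).symm
    rw [show res hleV s = 0 from hs, map_zero] at h1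
    rw [← res_res (k.preimage_mono hleV) hle, h1, map_zero]
  refine ⟨IsClosedImmersion.lift O.ι.imageι k hker, ?_, fun k' hk' => ?_⟩
  · show IsClosedImmersion.lift O.ι.imageι k hker ≫ O.ι.imageι ≫ p₁ = g
    rw [IsClosedImmersion.lift_fac_assoc, H.lift_fst]
  · rw [← cancel_mono O.ι.imageι, IsClosedImmersion.lift_fac]
    refine H.hom_ext ?_ ?_
    · rw [Category.assoc, H.lift_fst]; exact hk'
    · rw [H.lift_snd]
      obtain ⟨h', -, huniq⟩ := hc.2 Z (g ≫ f) hg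
      refine (huniq _ ?_).trans (huniq h hh).symm
      show ((k' ≫ O.ι.imageι) ≫ p₂) ≫ c = g ≫ f
      rw [Category.assoc, ← H.w, ← hk']
      simp only [Category.assoc]

theorem exists_openImmersion_of_birational [CompactSpace Y] [QuasiSeparatedSpace Y] (f : X ⟶ Y)
    [IsSeparated f] [QuasiCompact f] [LocallyOfFiniteType f]
    (U : Y.Opens) (hU : IsCompact (U : Set Y)) [IsIso (f ∣_ U)] :
    ∃ (𝓙 : Y.IdealSheafData) (X' Y' : Scheme.{u}) (b : X' ⟶ X) (c : Y' ⟶ Y) (j : X' ⟶ Y'),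
      BlowUp.IsBlowUp b (𝓙.comap f) ∧ BlowUp.IsAdmissibleFor (f ⁻¹ᵁ U) (𝓙.comap f) ∧
      BlowUp.IsBlowUp c 𝓙 ∧ BlowUp.IsAdmissibleFor U 𝓙 ∧
      IsOpenImmersion j ∧ j ≫ c = b ≫ f ∧ (IsProper f → IsIso j) := by
  haveI : CompactSpace (U : Scheme.{u}) := isCompact_iff_compactSpace.1 hU
  haveI : QuasiCompact U.ι := quasiCompact_of_compactSpace _
  obtain ⟨K, Y', c, hc, hadm, hint, hmain⟩ := exists_blowUp_isOpenImmersion f U hU
    (inv (f ∣_ U) ≫ (f ⁻¹ᵁ U).ι) (by rw [Category.assoc, ← morphismRestrict_ι, IsIso.inv_hom_id_assoc])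
  obtain ⟨σ', hσq, h₁, h₂, hopen⟩ := hmain _ _ _ (IsPullback.of_hasPullback f c)
  set p₁ := pullback.fst f c
  set p₂ := pullback.snd f c
  set O := p₂ ⁻¹ᵁ (c ⁻¹ᵁ U) with hOdef
  haveI : QuasiCompact (c ⁻¹ᵁ U).ι := MorphismProperty.of_isPullback (P := @QuasiCompact.{u})
    (isPullback_morphismRestrict c U) ‹_›
  haveI : QuasiCompact O.ι := MorphismProperty.of_isPullback (P := @QuasiCompact.{u})
    (isPullback_morphismRestrict p₂ (c ⁻¹ᵁ U)) ‹_›
  have hO : O = ModPair.interior ((K.comap f).comap p₁) := by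
    rw [← Scheme.IdealSheafData.comap_comp, pullback.condition, Scheme.IdealSheafData.comap_comp,
      ModPairLib.interior_comap, ← hint]
  have hr : O.ι = (p₂ ∣_ (c ⁻¹ᵁ U)) ≫ σ' := by
    apply pullback.hom_ext
    · have hm : Set.range (O.ι ≫ p₁) ⊆ Set.range (f ⁻¹ᵁ U).ι := by
        rw [Scheme.Opens.range_ι]
        rintro _ ⟨y, rfl⟩
        show f (p₁ (O.ι y)) ∈ U
        rw [← Scheme.Hom.comp_apply, pullback.condition]
        exact y.2
      let l := IsOpenImmersion.lift (f ⁻¹ᵁ U).ι (O.ι ≫ p₁) hm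
      have hl : l ≫ (f ⁻¹ᵁ U).ι = O.ι ≫ p₁ := IsOpenImmersion.lift_fac _ _ _
      have hl' : l ≫ (f ∣_ U) = (p₂ ∣_ (c ⁻¹ᵁ U)) ≫ (c ∣_ U) := by
        rw [← cancel_mono U.ι, Category.assoc, Category.assoc, morphismRestrict_ι,
          morphismRestrict_ι, reassoc_of% hl, pullback.condition, morphismRestrict_ι_assoc]
      rw [Category.assoc, h₁, ← reassoc_of% hl', IsIso.hom_inv_id_assoc, hl]
    · rw [Category.assoc, h₂, morphismRestrict_ι]
  have hs : Set.range σ' ⊆ Set.range O.ι := by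
    rw [Scheme.Opens.range_ι]
    rintro _ ⟨y, rfl⟩
    show p₂ (σ' y) ∈ c ⁻¹ᵁ U
    rw [← Scheme.Hom.comp_apply, h₂]
    exact y.2
  have hker : O.ι.ker = σ'.ker := by
    refine le_antisymm ?_ ?_
    · conv_rhs => rw [← IsOpenImmersion.lift_fac _ σ' hs]
      exact Scheme.Hom.le_ker_comp _ _
    · conv_rhs => rw [hr]
      exact Scheme.Hom.le_ker_comp _ _
  have hopen' : IsOpenImmersion (O.ι.imageι ≫ p₂) := by
    show IsOpenImmersion (O.ι.ker.subschemeι ≫ p₂)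
    rw [hker]
    exact hopen
  refine ⟨K, _, Y', O.ι.imageι ≫ p₁, c, O.ι.imageι ≫ p₂,
    isBlowUp_strict f hc (IsPullback.of_hasPullback f c) O hO,
    ⟨isFiniteType_comap _ _ hadm.1, ?_⟩, hc, hadm, hopen', ?_, fun hf => ?_⟩
  · rw [Scheme.IdealSheafData.support_comap]
    exact Set.disjoint_left.2 fun x hx hxU => Set.disjoint_left.1 hadm.2 hx hxU
  · rw [Category.assoc, Category.assoc, pullback.condition]
  · refine surjective_of_dense p₂ O.ι.imageι ((c ⁻¹ᵁ U : Y'.Opens) : Set Y')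
      (dense_of_isDenseOpen (hint ▸ ModPairLib.isDenseOpen_interior hc.1)) ?_
    intro x hx
    refine ⟨O.ι.toImage ⟨σ' ⟨x, hx⟩, show p₂ (σ' ⟨x, hx⟩) ∈ c ⁻¹ᵁ U by
      rw [← Scheme.Hom.comp_apply, h₂]; exact hx⟩, ?_⟩
    rw [← Scheme.Hom.comp_apply, Scheme.Hom.toImage_imageι_assoc]
    show p₂ (σ' ⟨x, hx⟩) = x
    rw [← Scheme.Hom.comp_apply, h₂]
    rfl

/-- The `V`-admissible version of `exists_blowUp_isOpenImmersion`. -/
theorem exists_blowUp_over {X Z : Scheme.{u}} [CompactSpace X] [QuasiSeparatedSpace X] (p : Z ⟶ X)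
    [IsSeparated p] [QuasiCompact p] [LocallyOfFiniteType p]
    (U V : X.Opens) (hU : IsCompact (U : Set X)) (hV : IsCompact (V : Set X)) (hUV : U ≤ V)
    (σ : (U : Scheme.{u}) ⟶ Z) (hσ : σ ≫ p = U.ι)
    (hcl : ∀ z ∈ closure (Set.range fun y => σ y), p z ∈ V → p z ∈ U) :
    ∃ (K : X.IdealSheafData) (X' : Scheme.{u}) (b : X' ⟶ X), BlowUp.IsBlowUp b K ∧
      BlowUp.IsAdmissibleFor V K ∧ b ⁻¹ᵁ V = ModPair.interior (K.comap b) ∧
      ∀ (P' : Scheme.{u}) (p₁ : P' ⟶ Z) (p₂ : P' ⟶ X'), IsPullback p₁ p₂ p b →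
        ∃ (σ' : ((b ⁻¹ᵁ U : X'.Opens) : Scheme.{u}) ⟶ P'), QuasiCompact σ' ∧
          σ' ≫ p₁ = (b ∣_ U) ≫ σ ∧ σ' ≫ p₂ = (b ⁻¹ᵁ U).ι ∧
          IsOpenImmersion (σ'.imageι ≫ p₂) := by
  haveI : CompactSpace Z := QuasiCompact.compactSpace_of_compactSpace p
  haveI : QuasiSeparatedSpace Z := quasiSeparatedSpace_of_quasiSeparated p
  haveI : CompactSpace (U : Scheme.{u}) := isCompact_iff_compactSpace.1 hU
  haveI : QuasiCompact σ := quasiCompact_of_compactSpace σ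
  haveI : QuasiCompact U.ι := quasiCompact_of_compactSpace _
  obtain ⟨K₀, hK₀, hK₀d, hopen⟩ := exists_isOpenImmersion_local p U hU σ hσ
  obtain ⟨K₁, hK₁, hK₁s, heps⟩ := exists_eps p σ V hV K₀ hK₀
    (fun y hy => Set.disjoint_left.1 hK₀d hy
      (show p (σ y) ∈ U by rw [← Scheme.Hom.comp_apply, hσ]; exact y.2))
    (fun z hz hzK hzV => Set.disjoint_left.1 hK₀d hzK (hcl z hz hzV))
  obtain ⟨M, hM, hMs⟩ := exists_finiteType_support_eq (V : Set X)ᶜ V.isOpen.isClosed_compl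
    (by rwa [compl_compl])
  have hs : ((K₁ * M).support : Set X) = (V : Set X)ᶜ := by
    rw [Scheme.IdealSheafData.support_mul]
    refine Set.Subset.antisymm ?_ fun x hx => Or.inr (hMs.ge hx)
    rintro x (hx | hx)
    · exact (hK₁s hx).2
    · exact hMs.le hx
  obtain ⟨X', b, hb⟩ := exists_isBlowUp (I := K₁ * M)
  refine ⟨K₁ * M, X', b, hb, ⟨fun W => ?_, ?_⟩, ?_, fun P' p₁ p₂ H => ?_⟩
  · rw [Scheme.IdealSheafData.ideal_mul, Pi.mul_apply]
    exact (hK₁ W).mul (hM W)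
  · rw [hs]
    exact disjoint_compl_left
  · rw [ModPairLib.interior_comap]
    have : ModPair.interior (K₁ * M) = V := by
      ext x
      show x ∈ ((K₁ * M).support : Set X)ᶜ ↔ _
      rw [hs, compl_compl]
    rw [this]
  have hc : BlowUp.IsEffCartierIdeal (K₁.comap b) := by
    have := hb.1
    rw [ModPairLib.comap_mul] at this
    exact SDiv28.isEffCartier_left_of_mul this
  haveI : QuasiCompact (b ⁻¹ᵁ U).ι := MorphismProperty.of_isPullback (P := @QuasiCompact.{u})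
    (isPullback_morphismRestrict b U) ‹_›
  haveI : IsSeparated p₂ := MorphismProperty.of_isPullback (P := @IsSeparated.{u}) H ‹_›
  let σ' := H.lift ((b ∣_ U) ≫ σ) (b ⁻¹ᵁ U).ι (by rw [Category.assoc, hσ, morphismRestrict_ι])
  haveI : QuasiCompact (σ' ≫ p₂) := by
    simp only [σ', IsPullback.lift_snd]
    infer_instance
  haveI : QuasiCompact σ' := QuasiCompact.of_comp σ' p₂
  refine ⟨σ', inferInstance, H.lift_fst _ _ _, H.lift_snd _ _ _,
    hopen X' P' b p₁ p₂ H σ' (H.lift_fst _ _ _) (H.lift_snd _ _ _) fun γ => ?_⟩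
  refine heps X' P' b p₁ p₂ H.w hc _ ?_
  have h : σ'.imageι γ ∈ Set.range σ'.imageι := ⟨γ, rfl⟩
  rw [Scheme.IdealSheafData.range_subschemeι, Scheme.Hom.support_ker] at h
  refine closure_mono ?_ h
  rintro _ ⟨y, rfl⟩
  refine ⟨(b ∣_ U) y, ?_⟩
  show σ ((b ∣_ U) y) = p₁ (σ' y)
  rw [← Scheme.Hom.comp_apply, ← Scheme.Hom.comp_apply, H.lift_fst]

end Groth.Agent.FlatMorAdm
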