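import Groth.Agent.FlatMorAdm.Strict
import Groth.Agent.SDiv28.Charts
import Groth.Agent.BlowUpLib.FiniteBirational

/-!
# Composition of admissible blow-ups

`exists_descend`: for the blow-up `b : X' ⟶ X` in a finite type ideal `I` and a finite type ideal
`J` on `X'`, some `E ^ N * J` (`E` the exceptional ideal) is the inverse image of a finite type ideal
of `X`.  Hence a composite of admissible blow-ups is an admissible blow-up.
-/

set_option autoImplicit false
set_option backward.isDefEq.respectTransparency.types false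

universe u

open CategoryTheory Limits AlgebraicGeometry TopologicalSpace
open Groth.Agent.ModPairLib (res res_res)

namespace Groth.Agent.FlatMorAdm

open BlowUpLib

variable {X X' : Scheme.{u}} {I : X.IdealSheafData} {b : X' ⟶ X}

theorem isAffineOpen_locus (hb : BlowUp.IsBlowUp b I) (P : X.affineOpens) {a : Γ(X, P.1)}
    (ha : a ∈ I.ideal P) : IsAffineOpen (locus I b P a) := by
  obtain ⟨e, -⟩ := SDiv28.exists_locus_iso hb P ha
  haveI : IsAffine (chart I P a) := by unfold chart; infer_instance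
  exact IsAffine.of_isIso e.hom

theorem generates_locus (hb : BlowUp.IsBlowUp b I) (P : X.affineOpens) {a : Γ(X, P.1)}
    (ha : a ∈ I.ideal P) (C : X'.affineOpens) (hC : C.1 = locus I b P a) :
    Generates I b P a C := by
  have e : C.1 ≤ b ⁻¹ᵁ P.1 := hC.le.trans (locus_le b P a)
  refine ⟨e, le_antisymm (fun s hs => ?_) ((Ideal.span_singleton_le_iff_mem _).2
    (ProjLib.map_ideal_le_comap_ideal _ b P C e (Ideal.mem_map_of_mem _ ha)))⟩
  -- local quotients by the generator glue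
  set φ := (b.appLE P.1 C.1 e).hom a with hφ
  have hloc : ∀ x : C.1, ∃ (V : X'.affineOpens) (hV : V.1 ≤ C.1) (q : Γ(X', V.1)),
      x.1 ∈ V.1 ∧ q * res hV φ = res hV s ∧ res hV φ ∈ nonZeroDivisors Γ(X', V.1) := by
    intro x
    obtain ⟨V₁, hxV₁, hgen⟩ := mem_locus.1 (hC.le x.2)
    obtain ⟨V, hxV, hle⟩ := exists_affine_mem_le (show x.1 ∈ C.1 ⊓ V₁.1 from ⟨x.2, hxV₁⟩)
    obtain ⟨e', he'⟩ := hgen.mono (V' := V) (hle.trans inf_le_right)
    have hV : V.1 ≤ C.1 := hle.trans inf_le_left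
    have h1 : res hV φ = (b.appLE P.1 V.1 e').hom a :=
      ConcreteCategory.congr_hom (b.appLE_map e (homOfLE hV).op) a
    obtain ⟨q, hq⟩ := Ideal.mem_span_singleton'.1
      (he'.le ((I.comap b).ideal_le_comap_ideal (U := V) (V := C) hV hs))
    exact ⟨V, hV, q, hxV, by rw [h1]; exact hq, h1 ▸ mem_nonZeroDivisors_of_eff hb.1 he'⟩
  choose V hV q hxV hq hnz using hloc
  have hcov : C.1 ≤ ⨆ x, (V x).1 := fun x hx => Opens.mem_iSup.2 ⟨⟨x, hx⟩, hxV ⟨x, hx⟩⟩
  obtain ⟨(Q : Γ(X', C.1)), hQ, -⟩ := X'.sheaf.existsUnique_gluing' (fun x => (V x).1) C.1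
    (fun x => homOfLE (hV x)) hcov q (fun x y => by
      show res (inf_le_left : (V x).1 ⊓ (V y).1 ≤ (V x).1) (q x) =
        res (inf_le_right : (V x).1 ⊓ (V y).1 ≤ (V y).1) (q y)
      refine X'.IsSheaf.section_ext fun z hz => ?_
      obtain ⟨T, hzT, hT⟩ := exists_affine_mem_le hz
      refine ⟨T.1, hT, hzT, ?_⟩
      show res hT (res _ (q x)) = res hT (res _ (q y))
      rw [res_res, res_res]
      have hn := ModPairLib.res_mem_nonZeroDivisors (U := V x) (V := T) (hT.trans inf_le_left) (hnz x)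
      refine (mul_cancel_right_mem_nonZeroDivisors hn).1 ?_
      conv_rhs => rw [res_res, ← res_res (hV y) (hT.trans inf_le_right)]
      rw [← map_mul, ← map_mul, hq, hq, res_res, res_res])
  refine Ideal.mem_span_singleton'.2 ⟨(Q : Γ(X', C.1)), X'.IsSheaf.section_ext fun z hz => ?_⟩
  refine ⟨(V ⟨z, hz⟩).1, hV _, hxV _, ?_⟩
  show res (hV ⟨z, hz⟩) ((Q : Γ(X', C.1)) * φ) = res (hV ⟨z, hz⟩) s
  rw [map_mul, ← hq]
  exact congrArg (· * _) (hQ ⟨z, hz⟩)

theorem preimage_basicOpen_le_locus (P : X.affineOpens) {a : Γ(X, P.1)} (ha : a ∈ I.ideal P) :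
    b ⁻¹ᵁ X.basicOpen a ≤ locus I b P a := by
  intro x hx
  obtain ⟨V, hxV, hle⟩ := exists_affine_mem_le hx
  have e : V.1 ≤ b ⁻¹ᵁ P.1 := hle.trans (b.preimage_mono (X.basicOpen_le a))
  refine mem_locus.2 ⟨V, hxV, e, le_antisymm ?_ ((Ideal.span_singleton_le_iff_mem _).2
    (ProjLib.map_ideal_le_comap_ideal _ b P V e (Ideal.mem_map_of_mem _ ha)))⟩
  have hu : IsUnit ((b.appLE P.1 V.1 e).hom a) := by
    refine RingedSpace.isUnit_of_isUnit_germ X'.toRingedSpace V.1 _ fun y hy => ?_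
    have hy' : y ∈ X'.basicOpen ((b.appLE P.1 V.1 e).hom a) := by
      rw [Scheme.basicOpen_appLE]
      exact ⟨hy, hle hy⟩
    exact (Scheme.mem_basicOpen _ _ y hy).1 hy'
  rw [Ideal.span_singleton_eq_top.2 hu]
  exact le_top

/-- Membership in an ideal sheaf is local. -/
theorem mem_ideal_of_local (S : X'.IdealSheafData) (C : X'.affineOpens) (t : Γ(X', C.1))
    (h : ∀ x ∈ C.1, ∃ (V : X'.affineOpens) (hV : V.1 ≤ C.1), x ∈ V.1 ∧ res hV t ∈ S.ideal V) :
    t ∈ S.ideal C := by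
  choose V hV hxV htV using h
  rw [← S.ker_subschemeι_app C, RingHom.mem_ker]
  refine S.subscheme.IsSheaf.section_ext fun z hz => ?_
  refine ⟨S.subschemeι ⁻¹ᵁ (V _ hz).1, S.subschemeι.preimage_mono (hV _ hz), hxV _ hz, ?_⟩
  rw [map_zero]
  show (S.subschemeι.app C.1 ≫ S.subscheme.presheaf.map
    (homOfLE (S.subschemeι.preimage_mono (hV _ hz))).op).hom t = 0
  rw [show S.subschemeι.app C.1 ≫ S.subscheme.presheaf.map
      (homOfLE (S.subschemeι.preimage_mono (hV _ hz))).op =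
    X'.presheaf.map (homOfLE (hV _ hz)).op ≫ S.subschemeι.app (V _ hz).1 from by
    rw [Scheme.Hom.app_eq_appLE, Scheme.Hom.app_eq_appLE, Scheme.Hom.appLE_map,
      Scheme.Hom.map_appLE]]
  exact RingHom.mem_ker.1 ((S.ker_subschemeι_app (V _ hz)).ge (htV _ hz))

set_option maxHeartbeats 800000 in
theorem exists_descend_affine [CompactSpace X] [QuasiSeparatedSpace X]
    (hI : BlowUp.IsFiniteTypeIdeal I) (hb : BlowUp.IsBlowUp b I) (J : X'.IdealSheafData)
    (hJ : BlowUp.IsFiniteTypeIdeal J) (P : X.affineOpens) :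
    ∃ (N : ℕ) (G : X.IdealSheafData), BlowUp.IsFiniteTypeIdeal G ∧
      G.comap b ≤ (I.comap b) ^ N * J ∧
      ∀ M : ℕ, ∀ K : X'.IdealSheafData, G.comap b * (I.comap b) ^ M ≤ K →
        ∀ C : X'.affineOpens, (∃ a ∈ I.ideal P, C.1 ≤ locus I b P a) →
          ((I.comap b) ^ (N + M) * J).ideal C ≤ K.ideal C := by
  classical
  haveI : IsProper b := isProper_of_isBlowUp hb hI
  obtain ⟨s, hs⟩ := hI P
  replace hs : Ideal.span (s : Set Γ(X, P.1)) = I.ideal P := hs
  have hsI : ∀ a : s, (a : Γ(X, P.1)) ∈ I.ideal P := fun a => hs.le (Ideal.subset_span a.2)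
  let C : s → X'.affineOpens := fun a => ⟨locus I b P a.1, isAffineOpen_locus hb P (hsI a)⟩
  have eC : ∀ a, (C a).1 ≤ b ⁻¹ᵁ P.1 := fun a => locus_le b P _
  let φ : ∀ a, Γ(X, P.1) →+* Γ(X', (C a).1) := fun a => (b.appLE P.1 (C a).1 (eC a)).hom
  have hgen : ∀ a, (I.comap b).ideal (C a) = Ideal.span {φ a a.1} := fun a =>
    (generates_locus hb P (hsI a) (C a) rfl).2
  have hnz : ∀ a, φ a a.1 ∈ nonZeroDivisors Γ(X', (C a).1) := fun a =>
    mem_nonZeroDivisors_of_eff hb.1 (hgen a)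
  choose g hg using fun a => hJ (C a)
  replace hg : ∀ a, Ideal.span (g a : Set Γ(X', (C a).1)) = J.ideal (C a) := hg
  -- sections of a chart times a power of `a` come from `P`
  have hF1 : ∀ (a : s) (h : Γ(X', (C a).1)), ∃ (n : ℕ) (j : Γ(X, P.1)),
      φ a j = φ a a.1 ^ n * h := by
    intro a h
    have hD : Disjoint (X.basicOpen a.1 : Set X) (I.support : Set X) :=
      Set.disjoint_left.2 fun x hx hxI =>
        (mem_prm (X.basicOpen_le a.1 hx)).1
          ((mem_support_iff_le_prm I P (X.basicOpen_le a.1 hx)).1 hxI (hsI a)) hx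
    haveI := ProjLib.isIso_morphismRestrict hb (X.basicOpen a.1) hD.symm
    haveI := isIso_app_of_le b (X.basicOpen a.1) (le_refl (X.basicOpen a.1))
    have hle : b ⁻¹ᵁ X.basicOpen a.1 ≤ (C a).1 := preimage_basicOpen_le_locus P (hsI a)
    obtain ⟨x, hx⟩ := (ConcreteCategory.bijective_of_isIso (b.app (X.basicOpen a.1))).2 (res hle h)
    obtain ⟨n, j, hj⟩ := exists_eq_pow_mul_of_isAffineOpen X P.1 P.2 a.1 x
    replace hj : res (X.basicOpen_le a.1) j = res (X.basicOpen_le a.1) a.1 ^ n * x := hj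
    have key : ∀ t, res hle (φ a t) = (b.app (X.basicOpen a.1)).hom (res (X.basicOpen_le a.1) t) := by
      intro t
      show (b.appLE P.1 (C a).1 (eC a) ≫ X'.presheaf.map (homOfLE hle).op).hom t =
        (X.presheaf.map (homOfLE (X.basicOpen_le a.1)).op ≫ b.app (X.basicOpen a.1)).hom t
      rw [Scheme.Hom.app_eq_appLE, Scheme.Hom.appLE_map, Scheme.Hom.map_appLE]
    refine ⟨n, j, sub_eq_zero.1 (denseIn_basicOpen (C a) (hnz a) (C a).1 le_rfl _ ?_)⟩
    have hle' : (C a).1 ⊓ X'.basicOpen (φ a a.1) ≤ b ⁻¹ᵁ X.basicOpen a.1 := fun y hy => by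
      have := hy.2
      rw [SetLike.mem_coe, Scheme.basicOpen_appLE] at this
      exact this.2
    rw [← res_res hle hle', map_sub, map_mul, map_pow, key, key, hj, map_mul, map_pow, ← hx]
    simp
  choose n₀ j₀ hj₀ using hF1
  let n : ℕ := Finset.univ.sup fun a : s => (g a).sup (n₀ a)
  obtain ⟨j₁, hj₁⟩ : ∃ j₁ : ∀ a : s, Γ(X', (C a).1) → Γ(X, P.1),
      ∀ a, ∀ h ∈ g a, φ a (j₁ a h) = φ a a.1 ^ n * h := by
    refine ⟨fun a h => j₀ a h * a.1 ^ (n - n₀ a h), fun a h hh => ?_⟩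
    have hle : n₀ a h ≤ n :=
      (Finset.le_sup (f := n₀ a) hh).trans
        (Finset.le_sup (f := fun a : s => (g a).sup (n₀ a)) (Finset.mem_univ a))
    simp only [map_mul, map_pow]
    rw [hj₀, mul_right_comm, ← pow_add, Nat.add_sub_cancel' hle]
  -- on the other charts
  have hF2 : ∀ (a c : s), ∀ h ∈ g a, ∃ m, ∀ M, m ≤ M →
      φ c (j₁ a h * a.1 ^ M) ∈ Ideal.span {φ c c.1 ^ (n + M)} * J.ideal (C c) := by
    intro a c h hh
    obtain ⟨u, hu⟩ := Ideal.mem_span_singleton'.1 ((hgen c).le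
      (ProjLib.map_ideal_le_comap_ideal _ b P (C c) (eC c) (Ideal.mem_map_of_mem _ (hsI a))))
    change u * φ c c.1 = φ c a.1 at hu
    let Du : X'.affineOpens := X'.affineBasicOpen u
    have hDc : Du.1 ≤ (C c).1 := X'.basicOpen_le u
    have hDa : Du.1 ≤ (C a).1 := fun y hy => mem_locus.2 ⟨Du, hy,
      generates_of_isUnit (V' := Du) hDc (eC c) (hgen c) hu
        (RingedSpace.isUnit_res_basicOpen X'.toRingedSpace u)⟩
    have hres : ∀ t, res hDa (φ a t) = res hDc (φ c t) := fun t => by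
      show (b.appLE P.1 (C a).1 (eC a) ≫ X'.presheaf.map (homOfLE hDa).op).hom t =
        (b.appLE P.1 (C c).1 (eC c) ≫ X'.presheaf.map (homOfLE hDc).op).hom t
      rw [Scheme.Hom.appLE_map, Scheme.Hom.appLE_map]
    haveI := (C c).2.isLocalization_basicOpen u
    have hhJ : res hDa h ∈ (J.ideal (C c)).map (algebraMap Γ(X', (C c).1) Γ(X', X'.basicOpen u)) := by
      refine (J.map_ideal (U := Du) (V := C c) hDc).ge ?_
      exact J.ideal_le_comap_ideal (U := Du) (V := C a) hDa ((hg a).le (Ideal.subset_span hh))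
    obtain ⟨⟨⟨e, he⟩, ⟨_, k, rfl⟩⟩, hek⟩ :=
      (IsLocalization.mem_map_algebraMap_iff (Submonoid.powers u) Γ(X', X'.basicOpen u)).1 hhJ
    replace hek : res hDa h * res hDc (u ^ k) = res hDc e := hek
    have hzero : res hDc (u ^ k * φ c (j₁ a h) - u ^ n * φ c c.1 ^ n * e) = 0 := by
      rw [map_sub, map_mul, map_mul, ← hres, hj₁ a h hh, ← hek]
      simp only [map_mul, map_pow, hres, ← hu]
      ring
    obtain ⟨m, hm⟩ :=
      exists_pow_mul_eq_zero_of_res_basicOpen_eq_zero_of_isAffineOpen X' (C c).2 _ u hzero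
    refine ⟨k + m, fun M hM => ?_⟩
    obtain ⟨r, rfl⟩ := Nat.exists_eq_add_of_le hM
    refine Ideal.mem_span_singleton_mul.2 ⟨u ^ (n + m + r) * e, Ideal.mul_mem_left _ _ he, ?_⟩
    rw [map_mul, map_pow, ← hu]
    linear_combination (-φ c c.1 ^ (k + m + r) * u ^ r) * hm
  choose! m₀ hm₀ using hF2
  let M : ℕ := Finset.univ.sup fun a : s => Finset.univ.sup fun c : s => (g a).sup (m₀ a c)
  let gen : Finset Γ(X, P.1) :=
    Finset.univ.biUnion fun a : s => (g a).image fun h => j₁ a h * a.1 ^ M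
  let N := n + M
  let T := (I.comap b) ^ N * J
  have hT : ∀ c, T.ideal (C c) = Ideal.span {φ c c.1 ^ N} * J.ideal (C c) := fun c => by
    simp only [T, Scheme.IdealSheafData.ideal_mul, Pi.mul_apply, Scheme.IdealSheafData.ideal_pow,
      Pi.pow_apply, hgen, Ideal.span_singleton_pow]
  have hA : ∀ c, ∀ t ∈ gen, φ c t ∈ T.ideal (C c) := by
    intro c t ht
    obtain ⟨a, -, ht⟩ := Finset.mem_biUnion.1 ht
    obtain ⟨h, hh, rfl⟩ := Finset.mem_image.1 ht
    rw [hT]
    exact hm₀ a c h hh M ((Finset.le_sup (f := m₀ a c) hh).trans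
      ((Finset.le_sup (f := fun c : s => (g a).sup (m₀ a c)) (Finset.mem_univ c)).trans
        (Finset.le_sup (f := fun a : s => Finset.univ.sup fun c : s => (g a).sup (m₀ a c))
          (Finset.mem_univ a))))
  have hmap : ∀ t ∈ gen, t ∈ (T.map b).ideal P := by
    intro t ht
    show t ∈ (T.subschemeι ≫ b).ker.ideal P
    rw [Scheme.Hom.ker_apply, RingHom.mem_ker]
    refine T.subscheme.IsSheaf.section_ext fun z hz => ?_
    obtain ⟨a, ha, hza⟩ := exists_mem_locus b hb.1 P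
      (show T.subschemeι z ∈ b ⁻¹ᵁ P.1 from hz) (s : Set Γ(X, P.1)) hs
    have hle : T.subschemeι ⁻¹ᵁ (C ⟨a, ha⟩).1 ≤ (T.subschemeι ≫ b) ⁻¹ᵁ P.1 :=
      fun y hy => eC ⟨a, ha⟩ hy
    refine ⟨T.subschemeι ⁻¹ᵁ (C ⟨a, ha⟩).1, hle, hza, ?_⟩
    rw [map_zero]
    show ((T.subschemeι ≫ b).app P.1 ≫ T.subscheme.presheaf.map (homOfLE hle).op).hom t = 0
    have : (T.subschemeι ≫ b).app P.1 ≫ T.subscheme.presheaf.map (homOfLE hle).op =
        b.appLE P.1 (C ⟨a, ha⟩).1 (eC _) ≫ T.subschemeι.app (C ⟨a, ha⟩).1 := by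
      rw [Scheme.Hom.app_eq_appLE, Scheme.Hom.app_eq_appLE, Scheme.Hom.appLE_map,
        Scheme.Hom.appLE_comp_appLE]
    rw [this]
    exact RingHom.mem_ker.1 ((T.ker_subschemeι_app (C ⟨a, ha⟩)).ge (hA ⟨a, ha⟩ t ht))
  let L : Ideal Γ(X, P.1) := Ideal.span (gen : Set Γ(X, P.1))
  obtain ⟨GX, -, hGXP⟩ := FlatMorStrata.exists_fg_extend P L ⟨gen, rfl⟩
  have hG₀ : (T.map b ⊓ GX).ideal P = L := by
    rw [Scheme.IdealSheafData.ideal_inf, Pi.inf_apply, hGXP]
    exact inf_eq_right.2 (Ideal.span_le.2 hmap)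
  obtain ⟨G, hGle, hG, hGP, -⟩ :=
    FlatMorStrata.exists_fg_le (T.map b ⊓ GX) P (by rw [hG₀]; exact ⟨gen, rfl⟩)
  refine ⟨N, G, hG, Scheme.IdealSheafData.le_map_iff_comap_le.1 (hGle.trans inf_le_left),
    fun M' K hK C' hC' => ?_⟩
  obtain ⟨a', ha', hC'a⟩ := hC'
  have eC' : C'.1 ≤ b ⁻¹ᵁ P.1 := hC'a.trans (locus_le b P a')
  -- locally on the charts
  refine (show ((I.comap b) ^ (N + M') * J).ideal C' ≤ ((G.comap b) * (I.comap b) ^ M').ideal C'
    from ?_).trans (hK C')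
  intro t ht
  let O : Scheme.Opens X' := C'.1
  have hloc : ∀ x ∈ O, ∃ (V : X'.affineOpens) (hV : V.1 ≤ O), x ∈ V.1 ∧
      res hV t ∈ ((G.comap b) * (I.comap b) ^ M').ideal V := by
    intro x hx
    obtain ⟨a, ha, hxa⟩ := exists_mem_locus b hb.1 P (show x ∈ b ⁻¹ᵁ P.1 from eC' hx)
      (s : Set Γ(X, P.1)) hs
    obtain ⟨V, hxV, hle⟩ := exists_affine_mem_le (show x ∈ O ⊓ (C ⟨a, ha⟩).1 from ⟨hx, hxa⟩)
    refine ⟨V, hle.trans inf_le_left, hxV, ?_⟩
    have h1 : res (hle.trans inf_le_left) t ∈ ((I.comap b) ^ (N + M') * J).ideal V :=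
      ((I.comap b) ^ (N + M') * J).ideal_le_comap_ideal (U := V) (V := C') (hle.trans inf_le_left) ht
    have h2 : ((I.comap b) ^ (N + M') * J).ideal (C ⟨a, ha⟩) ≤
        (G.comap b * (I.comap b) ^ M').ideal (C ⟨a, ha⟩) := by
      simp only [Scheme.IdealSheafData.ideal_mul, Pi.mul_apply, Scheme.IdealSheafData.ideal_pow,
        Pi.pow_apply, hgen, Ideal.span_singleton_pow]
      rw [pow_add, ← Ideal.span_singleton_mul_span_singleton, mul_right_comm]
      refine Ideal.mul_mono_left ?_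
      rw [← hg, Ideal.span_mul_span', Set.singleton_mul, Ideal.span_le,
        ProjLib.comap_ideal_eq _ b P (C ⟨a, ha⟩) (eC _), hGP, hG₀]
      rintro _ ⟨h, hh, rfl⟩
      have : φ ⟨a, ha⟩ a ^ N * h = φ ⟨a, ha⟩ (j₁ ⟨a, ha⟩ h * a ^ M) := by
        rw [map_mul, hj₁ ⟨a, ha⟩ h hh, map_pow, mul_right_comm, ← pow_add]
      show φ ⟨a, ha⟩ a ^ N * h ∈ L.map (φ ⟨a, ha⟩)
      rw [this]
      exact Ideal.mem_map_of_mem _ (Ideal.subset_span (Finset.mem_biUnion.2
        ⟨⟨a, ha⟩, Finset.mem_univ _, Finset.mem_image_of_mem _ hh⟩))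
    rw [← Scheme.IdealSheafData.map_ideal _ (U := V) (V := C ⟨a, ha⟩) (hle.trans inf_le_right)] at h1
    rw [← Scheme.IdealSheafData.map_ideal _ (U := V) (V := C ⟨a, ha⟩) (hle.trans inf_le_right)]
    exact Ideal.map_mono h2 h1
  exact mem_ideal_of_local _ _ _ hloc

theorem exists_descend [CompactSpace X] [QuasiSeparatedSpace X] (hI : BlowUp.IsFiniteTypeIdeal I)
    (hb : BlowUp.IsBlowUp b I) (J : X'.IdealSheafData) (hJ : BlowUp.IsFiniteTypeIdeal J) :
    ∃ (N : ℕ) (J₀ : X.IdealSheafData), BlowUp.IsFiniteTypeIdeal J₀ ∧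
      J₀.comap b = (I.comap b) ^ (N + 1) * J := by
  classical
  haveI : IsProper b := isProper_of_isBlowUp hb hI
  have hfin := exists_descend_affine hI hb J hJ
  choose N G hG hGle hGge using hfin
  obtain ⟨t, ht⟩ := isCompact_univ.elim_finite_subcover (fun P : X.affineOpens => (P.1 : Set X))
    (fun P => P.1.2) (fun x _ => by
      obtain ⟨P, hxP, -⟩ := exists_affine_mem_le (show x ∈ (⊤ : X.Opens) from trivial)
      exact Set.mem_iUnion.2 ⟨P, hxP⟩)
  let Nt := t.sup N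
  let J₀ : X.IdealSheafData := t.sup fun P => G P * I ^ (Nt + 1 - N P)
  have hcomap_pow : ∀ k : ℕ, (I ^ k).comap b = (I.comap b) ^ k := by
    intro k
    induction k with
    | zero =>
      rw [pow_zero, pow_zero, show (1 : X.IdealSheafData) = ⊤ from rfl, show (1 : X'.IdealSheafData) = ⊤ from rfl]
      exact Scheme.IdealSheafData.comap_top _
    | succ k ih => rw [pow_succ, pow_succ, ModPairLib.comap_mul, ih]
  refine ⟨Nt, J₀, ?_, le_antisymm ?_ ?_⟩
  · intro W
    refine Finset.sup_induction (p := fun K : X.IdealSheafData => (K.ideal W).FG) ?_ ?_ fun P _ => ?_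
    · rw [Scheme.IdealSheafData.ideal_bot, Pi.bot_apply]
      exact Submodule.fg_bot
    · intro K₁ h₁ K₂ h₂
      rw [Scheme.IdealSheafData.ideal_sup, Pi.sup_apply]
      exact Submodule.FG.sup h₁ h₂
    · rw [Scheme.IdealSheafData.ideal_mul, Pi.mul_apply]
      exact (hG P W).mul (isFiniteType_pow hI _ W)
  · refine Scheme.IdealSheafData.le_map_iff_comap_le.1 (Finset.sup_le fun P hP => ?_)
    refine Scheme.IdealSheafData.le_map_iff_comap_le.2 ?_
    rw [ModPairLib.comap_mul, hcomap_pow]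
    refine (mul_le_mul' (hGle P) le_rfl).trans (le_of_eq ?_)
    rw [mul_right_comm, ← pow_add, Nat.add_sub_cancel' ((Finset.le_sup hP).trans (Nat.le_succ _))]
  · have hcov : ∀ x : X', ∃ (P : X.affineOpens) (C : X'.affineOpens), P ∈ t ∧ x ∈ C.1 ∧
        ∃ a ∈ I.ideal P, C.1 ≤ locus I b P a := by
      intro x
      obtain ⟨P, hP, hxP⟩ := Set.mem_iUnion₂.1 (ht (Set.mem_univ (b x)))
      obtain ⟨a, ha, hxa⟩ := exists_mem_locus b hb.1 P (show x ∈ b ⁻¹ᵁ P.1 from hxP)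
        (I.ideal P : Set _) (Ideal.span_eq _)
      obtain ⟨C, hxC, hle⟩ := exists_affine_mem_le hxa
      exact ⟨P, C, hP, hxC, a, ha, hle⟩
    choose P C hP hxC a ha hle using hcov
    refine Scheme.IdealSheafData.le_of_iSup_eq_top C
      (top_le_iff.1 fun x _ => Opens.mem_iSup.2 ⟨x, hxC x⟩) fun x => ?_
    have h := hGge (P x) (Nt + 1 - N (P x)) (J₀.comap b) ?_ (C x) ⟨a x, ha x, hle x⟩
    · rwa [Nat.add_sub_cancel' ((Finset.le_sup (hP x)).trans (Nat.le_succ _))] at h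
    · rw [← hcomap_pow, ← ModPairLib.comap_mul]
      exact Scheme.IdealSheafData.comap_mono b
        (Finset.le_sup (f := fun P => G P * I ^ (Nt + 1 - N P)) (hP x))

/-- A composite of admissible blow-ups is an admissible blow-up. -/
theorem exists_isBlowUp_comp [CompactSpace X] [QuasiSeparatedSpace X] (U : X.Opens)
    (hI : BlowUp.IsAdmissibleFor U I) (hb : BlowUp.IsBlowUp b I) {J : X'.IdealSheafData}
    (hJ : BlowUp.IsAdmissibleFor (b ⁻¹ᵁ U) J) {X'' : Scheme.{u}} {b' : X'' ⟶ X'}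
    (hb' : BlowUp.IsBlowUp b' J) :
    ∃ K : X.IdealSheafData, BlowUp.IsBlowUp (b' ≫ b) K ∧ BlowUp.IsAdmissibleFor U K := by
  obtain ⟨N, J₀, hJ₀, hJ₀b⟩ := exists_descend hI.1 hb J hJ.1
  have hEpow : ∀ k : ℕ, BlowUp.IsEffCartierIdeal ((I.comap b) ^ (k + 1)) := by
    intro k
    induction k with
    | zero => rw [pow_one]; exact hb.1
    | succ k ih => rw [pow_succ]; exact ModPairLib.isEffCartier_mul ih hb.1
  have h' : BlowUp.IsBlowUp b' (J₀.comap b) := by
    rw [hJ₀b, mul_comm]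
    exact SDiv28.isBlowUp_mul_effCartier hb' (hEpow N)
  refine ⟨I * J₀, SDiv28.isBlowUp_comp hb h', fun W => ?_, Set.disjoint_left.2 fun x hx hxU => ?_⟩
  · rw [Scheme.IdealSheafData.ideal_mul, Pi.mul_apply]
    exact (hI.1 W).mul (hJ₀ W)
  rw [Scheme.IdealSheafData.support_mul] at hx
  rcases hx with hx | hx
  · exact Set.disjoint_left.1 hI.2 hx hxU
  haveI := ProjLib.isIso_morphismRestrict hb U hI.2
  obtain ⟨y, hy⟩ := (b ∣_ U).surjective ⟨x, hxU⟩
  have hby : b y.1 = x := by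
    have h := congrArg U.ι hy
    rw [← Scheme.Hom.comp_apply, morphismRestrict_ι] at h
    exact h
  have h1 : y.1 ∈ ((J₀.comap b).support : Set X') := by
    rw [Scheme.IdealSheafData.support_comap]
    show b y.1 ∈ (J₀.support : Set X)
    rw [hby]
    exact hx
  rw [hJ₀b, Scheme.IdealSheafData.support_mul, Scheme.IdealSheafData.support_pow_succ] at h1
  rcases h1 with h | h
  · rw [Scheme.IdealSheafData.support_comap] at h
    exact Set.disjoint_left.1 hI.2 (show b y.1 ∈ (I.support : Set X) from h) (hby ▸ hxU)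
  · exact Set.disjoint_left.1 hJ.2 h y.2

end Groth.Agent.FlatMorAdm
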