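import Groth.Agent.FlatMorAdm.Main
import Groth.Agent.BlowUpLib.Proper
import Groth.Prelude.Def_Coh

/-!
# Consequences: admissible blow-ups and strict transforms
-/

set_option autoImplicit false
set_option backward.isDefEq.respectTransparency.types false

universe u

open CategoryTheory Limits AlgebraicGeometry TopologicalSpace
open Groth.Agent.ModPairLib (res res_res)

namespace Groth.Agent.FlatMorAdm

open BlowUpLib

variable {X Z : Scheme.{u}}

/-- The ideal of `exists_isOpenImmersion` with support exactly the complement of `U`, and a blow-up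
in it. -/
theorem exists_blowUp_isOpenImmersion [CompactSpace X] [QuasiSeparatedSpace X] (p : Z ⟶ X)
    [IsSeparated p] [QuasiCompact p] [LocallyOfFiniteType p]
    (U : X.Opens) (hU : IsCompact (U : Set X)) (σ : (U : Scheme.{u}) ⟶ Z) (hσ : σ ≫ p = U.ι) :
    ∃ (K : X.IdealSheafData) (X' : Scheme.{u}) (b : X' ⟶ X), BlowUp.IsBlowUp b K ∧
      BlowUp.IsAdmissibleFor U K ∧ b ⁻¹ᵁ U = ModPair.interior (K.comap b) ∧
      ∀ (P' : Scheme.{u}) (p₁ : P' ⟶ Z) (p₂ : P' ⟶ X'), IsPullback p₁ p₂ p b →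
        ∃ (σ' : ((b ⁻¹ᵁ U : X'.Opens) : Scheme.{u}) ⟶ P'), QuasiCompact σ' ∧
          σ' ≫ p₁ = (b ∣_ U) ≫ σ ∧ σ' ≫ p₂ = (b ⁻¹ᵁ U).ι ∧
          IsOpenImmersion (σ'.imageι ≫ p₂) := by
  obtain ⟨K, hK, hKd, hopen⟩ := exists_isOpenImmersion p U hU σ hσ
  obtain ⟨I, hI, hIs⟩ := exists_finiteType_support_eq (U : Set X)ᶜ U.isOpen.isClosed_compl
    (by rwa [compl_compl])
  have hs : ((K * I).support : Set X) = (U : Set X)ᶜ := by
    rw [Scheme.IdealSheafData.support_mul]
    refine Set.Subset.antisymm ?_ fun x hx => Or.inr (hIs.ge hx)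
    rintro x (hx | hx)
    · exact fun h => Set.disjoint_left.1 hKd hx h
    · exact hIs.le hx
  obtain ⟨X', b, hb⟩ := exists_isBlowUp (I := K * I)
  refine ⟨K * I, X', b, hb, ⟨fun W => ?_, ?_⟩, ?_, fun P' p₁ p₂ H => ?_⟩
  · rw [Scheme.IdealSheafData.ideal_mul, Pi.mul_apply]
    exact (hK W).mul (hI W)
  · rw [hs]
    exact disjoint_compl_left
  · rw [ModPairLib.interior_comap]
    have : ModPair.interior (K * I) = U := by
      ext x
      show x ∈ ((K * I).support : Set X)ᶜ ↔ _
      rw [hs, compl_compl]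
    rw [this]
  have hc : BlowUp.IsEffCartierIdeal (K.comap b) := by
    have := hb.1
    rw [ModPairLib.comap_mul] at this
    exact SDiv28.isEffCartier_left_of_mul this
  haveI : CompactSpace (U : Scheme.{u}) := isCompact_iff_compactSpace.1 hU
  haveI : QuasiCompact U.ι := quasiCompact_of_compactSpace _
  haveI : QuasiCompact (b ⁻¹ᵁ U).ι := MorphismProperty.of_isPullback (P := @QuasiCompact.{u})
    (isPullback_morphismRestrict b U) ‹_›
  haveI : IsSeparated p₂ := MorphismProperty.of_isPullback (P := @IsSeparated.{u}) H ‹_›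
  let σ' := H.lift ((b ∣_ U) ≫ σ) (b ⁻¹ᵁ U).ι (by rw [Category.assoc, hσ, morphismRestrict_ι])
  haveI : QuasiCompact (σ' ≫ p₂) := by
    simp only [σ', IsPullback.lift_snd]
    infer_instance
  haveI : QuasiCompact σ' := QuasiCompact.of_comp σ' p₂
  exact ⟨σ', inferInstance, H.lift_fst _ _ _, H.lift_snd _ _ _,
    hopen X' P' b p₁ p₂ H σ' (H.lift_fst _ _ _) (H.lift_snd _ _ _) hc⟩

theorem dense_of_isDenseOpen {U : X.Opens} (hU : ModPairLib.IsDenseOpen U) :
    Dense (U : Set X) := by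
  rw [dense_iff_inter_open]
  intro V hV ⟨x, hx⟩
  by_contra h
  rw [Set.not_nonempty_iff_eq_empty] at h
  let V' : X.Opens := ⟨V, hV⟩
  have : Subsingleton Γ(X, V' ⊓ U) := by
    refine CommRingCat.subsingleton_of_isTerminal (X.sheaf.isTerminalOfEqEmpty ?_)
    exact le_bot_iff.1 fun y hy => (h.le hy).elim
  have h1 : (1 : Γ(X, V')) = 0 := hU V' 1 (Subsingleton.elim _ _)
  have h2 := congrArg (X.presheaf.germ V' x hx).hom h1
  rw [map_one, map_zero] at h2
  exact one_ne_zero h2

/-- A closed immersion into a proper scheme over `X'`, open onto a dense open, is an isomorphism. -/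
theorem surjective_of_dense {P' X' T : Scheme.{u}} (p₂ : P' ⟶ X') [IsProper p₂] (i : T ⟶ P')
    [IsClosedImmersion i] [IsOpenImmersion (i ≫ p₂)] (D : Set X') (hD : Dense D)
    (hr : D ⊆ Set.range (i ≫ p₂)) : IsIso (i ≫ p₂) := by
  haveI : Surjective (i ≫ p₂) := ⟨fun x => by
    have hc : IsClosed (Set.range (i ≫ p₂)) := by
      rw [show Set.range (i ≫ p₂) = p₂ '' Set.range i from by
        rw [Scheme.Hom.comp_base, TopCat.coe_comp, Set.range_comp]]
      exact p₂.isClosedMap _ i.isClosedEmbedding.isClosed_range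
    exact hc.closure_subset_iff.2 hr (hD x)⟩
  exact (isIso_iff_isOpenImmersion_and_surjective _).2 ⟨inferInstance, inferInstance⟩

theorem isFiniteType_comap {Y : Scheme.{u}} (f : Y ⟶ X) (I : X.IdealSheafData)
    (hI : BlowUp.IsFiniteTypeIdeal I) : BlowUp.IsFiniteTypeIdeal (I.comap f) := by
  have h : ∀ y : Y, ∃ V : Y.affineOpens, y ∈ V.1 ∧ ((I.comap f).ideal V).FG := by
    intro y
    obtain ⟨W, hW, -⟩ := exists_affine_mem_le (show f y ∈ (⊤ : X.Opens) from trivial)
    obtain ⟨V, hyV, hle⟩ := exists_affine_mem_le (show y ∈ f ⁻¹ᵁ W.1 from hW)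
    exact ⟨V, hyV, by rw [ProjLib.comap_ideal_eq _ f W V hle]; exact (hI W).map _⟩
  choose V hV hfg using h
  exact fun W => FlatMorStrata.fg_of_cover _ V
    (top_le_iff.1 fun y _ => Opens.mem_iSup.2 ⟨y, hV y⟩) hfg W

/-- An ideal sheaf whose sections are those killed by a power of a finite type ideal is the kernel
of the inclusion of the complement of its zero locus. -/
theorem eq_ker_of_killedByPowerNear (E 𝒥 : X.IdealSheafData) (hE : BlowUp.IsFiniteTypeIdeal E)
    [QuasiCompact (ModPair.interior E).ι]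
    (h : ∀ (V : X.affineOpens) (a : Γ(X, V.1)), a ∈ 𝒥.ideal V ↔
      BlowUp.KilledByPowerNear E (Coh.structureModule X) V a) :
    𝒥 = (ModPair.interior E).ι.ker := by
  refine Scheme.IdealSheafData.ext (funext fun V => Ideal.ext fun a => ?_)
  set O := ModPair.interior E with hO
  rw [h, Scheme.Hom.ker_apply, RingHom.mem_ker, Scheme.Opens.ι_app]
  have hle : O.ι ''ᵁ O.ι ⁻¹ᵁ V.1 ≤ V.1 := by
    rintro _ ⟨y, hy, rfl⟩
    exact hy
  show (∃ n : ℕ, ∀ e : Γ(X, V.1), e ∈ (E ^ n).ideal V → e * a = 0) ↔ res hle a = 0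
  constructor
  · rintro ⟨n, hn⟩
    refine X.IsSheaf.section_ext fun x hx => ?_
    obtain ⟨y, hyV, rfl⟩ := hx
    have hne : ¬ E.ideal V ≤ prm (O.ι y) hyV := fun hle' =>
      y.2 ((mem_support_iff_le_prm E V hyV).2 hle')
    obtain ⟨e, he, hey⟩ := SetLike.not_le_iff_exists.1 hne
    have hby : O.ι y ∈ X.basicOpen e := by
      by_contra hc
      exact hey ((mem_prm (show O.ι y ∈ V.1 from hyV)).2 hc)
    obtain ⟨T, hyT, hT⟩ := exists_affine_mem_le
      (show O.ι y ∈ O.ι ''ᵁ O.ι ⁻¹ᵁ V.1 ⊓ X.basicOpen e from ⟨⟨y, hyV, rfl⟩, hby⟩)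
    refine ⟨T.1, hT.trans inf_le_left, hyT, ?_⟩
    rw [map_zero]
    show res (hT.trans inf_le_left) (res hle a) = 0
    have hu : IsUnit (res ((hT.trans inf_le_left).trans hle) e) := by
      rw [← res_res (X.basicOpen_le e) (hT.trans inf_le_right)]
      exact (RingedSpace.isUnit_res_basicOpen X.toRingedSpace e).map _
    have h0 := hn (e ^ n) (by
      rw [Scheme.IdealSheafData.ideal_pow, Pi.pow_apply]
      exact Ideal.pow_mem_pow he n)
    rw [res_res]
    refine (hu.pow n).mul_right_eq_zero.1 ?_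
    rw [← map_pow, ← map_mul, h0, map_zero]
  · intro ha
    obtain ⟨s, hs⟩ := hE V
    have hrad : E.ideal V ≤ (Ideal.span {a}).annihilator.radical := by
      rw [← hs, Submodule.span_le]
      intro e he
      have heO : X.basicOpen e ≤ O.ι ''ᵁ O.ι ⁻¹ᵁ V.1 := by
        intro x hx
        have hxV : x ∈ V.1 := X.basicOpen_le e hx
        have hxO : x ∈ O := fun hxs =>
          (mem_prm hxV).1 ((mem_support_iff_le_prm E V hxV).1 hxs
            (hs.le (Submodule.subset_span he))) hx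
        exact ⟨⟨x, hxO⟩, hxV, rfl⟩
      obtain ⟨n, hn⟩ := exists_pow_mul_eq_zero_of_res_basicOpen_eq_zero_of_isAffineOpen X V.2 a e
        (show res (X.basicOpen_le e) a = 0 by rw [← res_res hle heO, ha, map_zero])
      refine ⟨n, Submodule.mem_annihilator_span_singleton _ _ |>.2 ?_⟩
      rw [smul_eq_mul, hn]
    obtain ⟨n, hn⟩ := Ideal.exists_pow_le_of_le_radical_of_fg hrad (hE V)
    refine ⟨n, fun e he => ?_⟩
    rw [Scheme.IdealSheafData.ideal_pow, Pi.pow_apply] at he
    have := Submodule.mem_annihilator_span_singleton _ _ |>.1 (hn he)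
    rwa [smul_eq_mul] at this

end Groth.Agent.FlatMorAdm
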