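import Groth.Agent.FlatMor12.AmpleFamily
import Groth.Agent.RelVALib.Coprod
import Groth.Agent.RelVALib.NormMod

/-!
# Ample families on a sum of two schemes
-/

set_option autoImplicit false
set_option linter.unusedSectionVars false
set_option backward.isDefEq.respectTransparency.types false
set_option maxHeartbeats 1000000

universe u

open CategoryTheory CategoryTheory.Limits AlgebraicGeometry Opposite TopologicalSpace
open Groth.Agent.Coherent Groth.Agent.PicLib Groth.Agent.AmpleLib Groth.Agent.FlatMor12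

namespace Groth.Agent.FlatMorAdm

/-- A locus on a clopen piece is a locus on the whole. -/
theorem isLocus_image {X Z : Scheme.{u}} [CompactSpace Z] [QuasiSeparatedSpace Z] (σ : X ⟶ Z)
    [IsOpenImmersion σ] (hcl : IsClosed (Set.range σ)) {L : Z.Modules} (hL : PicF.IsInvertible L)
    {N : X.Modules} (e : (Scheme.Modules.pullback σ).obj L ≅ N) (u : Γ(N, ⊤)) :
    AmpleFamily.IsLocus (σ ''ᵁ glocus N u) := by
  set V : Z.Opens := σ.opensRange with hV
  let B : Z.Opens := ⟨(Set.range σ)ᶜ, hcl.isOpen_compl⟩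
  obtain ⟨r, hr⟩ := exists_basicOpen_eq_of_isCompl (A := V) (B := B)
    (Opens.ext (Set.eq_empty_of_forall_notMem fun z hz => hz.2 hz.1))
    (top_le_iff.1 fun z _ => em (z ∈ Set.range σ))
  have htop : (⊤ : X.Opens) ≤ σ ⁻¹ᵁ V := fun x _ => ⟨x, rfl⟩
  have hle : σ ⁻¹ᵁ V ≤ (⊤ : X.Opens) := le_top
  obtain ⟨s, hs⟩ := (bijective_pullSec_opensRange σ hL V le_rfl).2 (resM _ hle (e.inv.app ⊤ u))
  have hu : resM _ htop (pullSec σ s) = e.inv.app ⊤ u := by rw [hs, resM_resM, resM_self]
  have hgl : glocus _ (resM _ htop (pullSec σ s)) = glocus N u := by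
    rw [hu]
    exact glocus_map_iso e.symm u
  set A : Z.Opens := σ ''ᵁ glocus N u with hA
  have hAV : A ≤ V := σ.image_le_opensRange _
  -- near a point of `V`, `A` is the locus where the coordinate of `s` is invertible
  have hloc : ∀ z ∈ V, ∃ (U : Z.Opens) (hUV : U ≤ V) (g : Γ(L, U)) (hg : IsGen L U g),
      z ∈ U ∧ A ⊓ U = Z.basicOpen (hg.coef le_rfl (resM L hUV s)) := by
    intro z hz
    obtain ⟨U, hzU, g, hg⟩ := exists_isGen hL z
    have hg' := hg.restrict (inf_le_left : U ⊓ V ≤ U)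
    refine ⟨U ⊓ V, inf_le_right, _, hg', ⟨hzU, hz⟩, ?_⟩
    have h := RelVALib.glocus_pullSec_inf σ hL htop s (inf_le_right : U ⊓ V ≤ V) hg'
    rw [hgl] at h
    refine Opens.ext (Set.ext fun y => ?_)
    constructor
    · rintro ⟨⟨x, hx, rfl⟩, hy⟩
      exact h.le ⟨hx, hy⟩
    · intro hy
      obtain ⟨x, rfl⟩ : y ∈ V := (Z.basicOpen_le _ hy).2
      exact ⟨⟨x, (h.ge hy).1, rfl⟩, Z.basicOpen_le _ hy⟩
  refine AmpleFamily.isLocus_of_local hL (isInvertible_structureModule (X := Z))
    (show Γ(Coh.structureModule Z, ⊤) from r) ((AmpleLib.glocus_structureModule r).trans hr) s hAV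
    ?_ fun W hW hgen z hz => ?_
  · choose U hUV g hg hzU hAU using fun z : V => hloc z.1 z.2
    refine isGen_of_cover (fun z : V => A ⊓ U z) (fun z => inf_le_left)
      (fun y hy => Opens.mem_iSup.2 ⟨⟨y, hAV hy⟩, hy, hzU ⟨y, hAV hy⟩⟩) fun z => ?_
    rw [resM_resM]
    have hc := (hg z).coef_spec le_rfl (resM L (hUV z) s)
    have e : resM L ((inf_le_left : A ⊓ U z ≤ A).trans hAV) s =
        res (inf_le_right : A ⊓ U z ≤ U z) ((hg z).coef le_rfl (resM L (hUV z) s)) •
          resM L (inf_le_right : A ⊓ U z ≤ U z) (g z) := by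
      have h1 := congrArg (resM L (inf_le_right : A ⊓ U z ≤ U z)) hc
      rw [resM_smul, resM_resM, resM_resM] at h1
      exact h1.symm
    rw [e]
    refine (isGen_smul_iff ?_).2 ((hg z).restrict _)
    have hle' : A ⊓ U z ≤ Z.basicOpen ((hg z).coef le_rfl (resM L (hUV z) s)) := (hAU z).le
    have hu : IsUnit (res hle' (res (Z.basicOpen_le ((hg z).coef le_rfl (resM L (hUV z) s)))
        ((hg z).coef le_rfl (resM L (hUV z) s)))) :=
      IsUnit.map _ (RingedSpace.isUnit_res_basicOpen _ _)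
    rwa [PicLib.res_res] at hu
  · obtain ⟨U, hUV, g, hg, hzU, hAU⟩ := hloc z (hW hz)
    have h1 := hgen.restrict (inf_le_left : W ⊓ U ≤ W)
    rw [resM_resM] at h1
    have hu' := ((hg.restrict (inf_le_right : W ⊓ U ≤ U)).isUnit_coef h1)
    rw [← resM_resM L hUV (inf_le_right : W ⊓ U ≤ U) s] at hu'
    have e : (hg.restrict (inf_le_right : W ⊓ U ≤ U)).coef le_rfl (resM L (inf_le_right : W ⊓ U ≤ U)
        (resM L hUV s)) = res (inf_le_right : W ⊓ U ≤ U) (hg.coef le_rfl (resM L hUV s)) := by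
      refine IsGen.coef_eq _ _ ?_
      rw [resM_self]
      have := congrArg (resM L (inf_le_right : W ⊓ U ≤ U)) (hg.coef_spec le_rfl (resM L hUV s))
      rw [resM_smul, resM_resM] at this
      exact this
    rw [e] at hu'
    exact (hAU.ge (BlowUpLib.le_basicOpen_of_isUnit _ _ hu' ⟨hz, hzU⟩)).1

/-- A sum of two schemes with ample families has an ample family. -/
theorem hasAmpleFamily_coprod {X X' : Scheme.{u}} (h : MoreMor.HasAmpleFamily X)
    (h' : MoreMor.HasAmpleFamily X') : MoreMor.HasAmpleFamily (X ⨿ X') := by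
  haveI := h.1
  haveI := h'.1
  haveI := AmpleFamily.quasiSeparatedSpace h
  haveI := AmpleFamily.quasiSeparatedSpace h'
  have hcompl := isCompl_range_inl_inr X X'
  haveI : CompactSpace (X ⨿ X' : Scheme.{u}) := by
    refine ⟨?_⟩
    rw [← Set.top_eq_univ, ← hcompl.sup_eq_top]
    exact (isCompact_range (coprod.inl : X ⟶ X ⨿ X').continuous).union
      (isCompact_range (coprod.inr : X' ⟶ X ⨿ X').continuous)
  haveI : QuasiSeparatedSpace (X ⨿ X' : Scheme.{u}) := by
    rw [quasiSeparatedSpace_iff_forall_affineOpens]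
    intro A B
    have key : ∀ {W : Scheme.{u}} (σ : W ⟶ X ⨿ X') [IsOpenImmersion σ] [QuasiSeparatedSpace W],
        IsClosed (Set.range σ) → IsCompact ((A.1 : Set ↥(X ⨿ X')) ∩ B.1 ∩ Set.range σ) := by
      intro W σ _ _ hcl
      rw [← Set.image_preimage_eq_inter_range, Set.preimage_inter]
      have hc : ∀ C : (X ⨿ X' : Scheme.{u}).affineOpens, IsCompact (σ ⁻¹' (C.1 : Set ↥(X ⨿ X'))) := fun C => by
        rw [σ.isOpenEmbedding.isInducing.isCompact_iff, Set.image_preimage_eq_inter_range]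
        exact C.2.isCompact.inter_right hcl
      exact (QuasiSeparatedSpace.inter_isCompact _ _ (A.1.2.preimage σ.continuous) (hc A)
        (B.1.2.preimage σ.continuous) (hc B)).image σ.continuous
    have e := (key (coprod.inl : X ⟶ X ⨿ X') (by rw [hcompl.eq_compl]; exact
      (coprod.inr : X' ⟶ X ⨿ X').opensRange.2.isClosed_compl)).union
      (key (coprod.inr : X' ⟶ X ⨿ X') (by rw [hcompl.symm.eq_compl]; exact
      (coprod.inl : X ⟶ X ⨿ X').opensRange.2.isClosed_compl))
    rwa [← Set.inter_union_distrib_left, show Set.range (coprod.inl : X ⟶ X ⨿ X') ∪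
      Set.range (coprod.inr : X' ⟶ X ⨿ X') = Set.univ from hcompl.sup_eq_top, Set.inter_univ] at e
  refine AmpleFamily.hasAmpleFamily_of fun z => ?_
  have hinv : ∀ (L : (X ⨿ X').Modules), PicF.IsInvertible ((Scheme.Modules.pullback (coprod.inl : X ⟶ X ⨿ X')).obj L) →
      PicF.IsInvertible ((Scheme.Modules.pullback (coprod.inr : X' ⟶ X ⨿ X')).obj L) → PicF.IsInvertible L := by
    intro L hM hM'
    refine isInvertible_of_pullback_opens fun z => ?_
    rcases hcompl.codisjoint.top_le (Set.mem_univ z) with hz | hz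
    · exact ⟨(coprod.inl : X ⟶ X ⨿ X').opensRange, hz, glocus_isInvertible_of_iso
        ((Scheme.Modules.pullbackComp (coprod.inl : X ⟶ X ⨿ X').isoOpensRange.inv coprod.inl).app L ≪≫
          eqToIso (by rw [Scheme.Hom.isoOpensRange_inv_comp]))
        (PicLoc.isInvertible_pullback _ hM)⟩
    · exact ⟨(coprod.inr : X' ⟶ X ⨿ X').opensRange, hz, glocus_isInvertible_of_iso
        ((Scheme.Modules.pullbackComp (coprod.inr : X' ⟶ X ⨿ X').isoOpensRange.inv coprod.inr).app L ≪≫
          eqToIso (by rw [Scheme.Hom.isoOpensRange_inv_comp]))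
        (PicLoc.isInvertible_pullback _ hM')⟩
  rcases hcompl.codisjoint.top_le (Set.mem_univ z) with ⟨x, rfl⟩ | ⟨x, rfl⟩
  · obtain ⟨A, ⟨N, u, hN, rfl⟩, hxA, hA⟩ := AmpleFamily.exists_locus h x
    obtain ⟨L, ⟨e⟩, ⟨e'⟩⟩ := RelVALib.exists_sum_module N (Coh.structureModule X')
    exact ⟨_, isLocus_image _ (by rw [hcompl.eq_compl]; exact
      (coprod.inr : X' ⟶ X ⨿ X').opensRange.2.isClosed_compl)
      (hinv L (glocus_isInvertible_of_iso e.symm hN) (glocus_isInvertible_of_iso e'.symm isInvertible_structureModule))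
      e u, ⟨x, hxA, rfl⟩, hA.image_of_isOpenImmersion _⟩
  · obtain ⟨A, ⟨N, u, hN, rfl⟩, hxA, hA⟩ := AmpleFamily.exists_locus h' x
    obtain ⟨L, ⟨e⟩, ⟨e'⟩⟩ := RelVALib.exists_sum_module (Coh.structureModule X) N
    exact ⟨_, isLocus_image _ (by rw [hcompl.symm.eq_compl]; exact
      (coprod.inl : X ⟶ X ⨿ X').opensRange.2.isClosed_compl)
      (hinv L (glocus_isInvertible_of_iso e.symm isInvertible_structureModule) (glocus_isInvertible_of_iso e'.symm hN))
      e' u, ⟨x, hxA, rfl⟩, hA.image_of_isOpenImmersion _⟩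

end Groth.Agent.FlatMorAdm
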