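import Groth.Agent.FlatMorAdm.AmpleSum
import Groth.Agent.Et18.H0Lift.SpreadChow
import Groth.Agent.S7197

/-!
# Proper completely decomposed covers with ample families
-/

set_option autoImplicit false
set_option backward.isDefEq.respectTransparency.types false

universe u

open CategoryTheory CategoryTheory.Limits AlgebraicGeometry TopologicalSpace

namespace Groth.Agent.FlatMorAdm

theorem isProper_coprod_desc {A B Z : Scheme.{u}} (a : A ⟶ Z) (b : B ⟶ Z) [IsProper a] [IsProper b] :
    IsProper (coprod.desc a b) := by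
  let Y : ULift.{u} Bool → Scheme.{u} := fun t => match t with | ⟨true⟩ => A | ⟨false⟩ => B
  let s : ∀ t, Y t ⟶ Z := fun t => match t with | ⟨true⟩ => a | ⟨false⟩ => b
  haveI : ∀ t, IsProper (s t) := fun t => match t with | ⟨true⟩ => ‹IsProper a› | ⟨false⟩ => ‹IsProper b›
  haveI := Et18.H0Lift.isProper_sigmaDesc s
  let e : A ⨿ B ⟶ ∐ Y := coprod.desc (Sigma.ι Y ⟨true⟩) (Sigma.ι Y ⟨false⟩)
  let d : ∐ Y ⟶ A ⨿ B := Sigma.desc fun t => match t with | ⟨true⟩ => coprod.inl | ⟨false⟩ => coprod.inr
  haveI : IsIso e := ⟨d,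
    coprod.hom_ext
      (by rw [coprod.inl_desc_assoc, Category.comp_id]; exact Sigma.ι_desc _ _)
      (by rw [coprod.inr_desc_assoc, Category.comp_id]; exact Sigma.ι_desc _ _),
    Sigma.hom_ext _ _ fun t => by
      rcases t with ⟨_ | _⟩
      · rw [← Category.assoc, Category.comp_id, show Sigma.ι Y ⟨false⟩ ≫ d = coprod.inr from Sigma.ι_desc _ _]
        exact coprod.inr_desc _ _
      · rw [← Category.assoc, Category.comp_id, show Sigma.ι Y ⟨true⟩ ≫ d = coprod.inl from Sigma.ι_desc _ _]
        exact coprod.inl_desc _ _⟩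
  have : coprod.desc a b = e ≫ Sigma.desc s :=
    coprod.hom_ext (by rw [coprod.inl_desc, coprod.inl_desc_assoc]; exact (Sigma.ι_desc s ⟨true⟩).symm)
      (by rw [coprod.inr_desc, coprod.inr_desc_assoc]; exact (Sigma.ι_desc s ⟨false⟩).symm)
  rw [this]
  infer_instance

theorem residueFieldMap_bijective_comp {A B C : Scheme.{u}} (f : A ⟶ B) (g : B ⟶ C) (x : A)
    (hf : Function.Bijective (f.residueFieldMap x)) (hg : Function.Bijective (g.residueFieldMap (f x))) :
    Function.Bijective ((f ≫ g).residueFieldMap x) := by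
  rw [Scheme.residueFieldMap_comp]
  exact hf.comp hg

theorem residueFieldMap_bijective_closedImmersion {A B : Scheme.{u}} (f : A ⟶ B) [IsClosedImmersion f]
    (x : A) : Function.Bijective (f.residueFieldMap x) := by
  refine ⟨RingHom.injective _, fun a => ?_⟩
  obtain ⟨s, rfl⟩ := IsLocalRing.residue_surjective a
  obtain ⟨t, rfl⟩ := f.stalkMap_surjective x s
  exact ⟨IsLocalRing.residue _ t, rfl⟩

/-- Over a Noetherian scheme every closed subset is covered by a proper morphism, completely
decomposed over it, from a scheme with an ample family. -/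
theorem exists_cd_cover (X : Scheme.{u}) [IsNoetherian X] (T : Closeds X) :
    ∃ (Y : Scheme.{u}) (f : Y ⟶ X), IsProper f ∧ MoreMor.HasAmpleFamily Y ∧
      ∀ x ∈ T, ∃ y : Y, f y = x ∧ Function.Bijective (f.residueFieldMap y) := by
  induction T using WellFoundedLT.induction with
  | ind T ih =>
    rcases (T : Set X).eq_empty_or_nonempty with hT | hT
    · exact ⟨∅, Scheme.emptyTo X, inferInstance, ⟨inferInstance, fun x => isEmptyElim x⟩,
        fun x hx => absurd (show x ∈ (T : Set X) from hx) (by rw [hT]; exact Set.notMem_empty x)⟩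
    set I := Scheme.IdealSheafData.vanishingIdeal T with hI
    have hr : Set.range I.subschemeι = (T : Set X) := by
      rw [Scheme.IdealSheafData.range_subschemeι]; rfl
    haveI : IsLocallyNoetherian I.subscheme := LocallyOfFiniteType.isLocallyNoetherian I.subschemeι
    haveI : CompactSpace I.subscheme := QuasiCompact.compactSpace_of_compactSpace I.subschemeι
    haveI : IsNoetherian I.subscheme := {}
    obtain ⟨U, J, W', b, -, hUd, hJ, hb, hW'⟩ :=
      S7197.result I.subscheme NoetherianSpace.finite_irreducibleComponents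
    haveI : IsProper b := BlowUpLib.isProper_of_isBlowUp hb hJ.1
    haveI := ProjLib.isIso_morphismRestrict hb U hJ.2
    have hUne : (U : Set I.subscheme).Nonempty := by
      obtain ⟨x, hx⟩ := hT
      obtain ⟨w, -⟩ := hr.ge hx
      exact hUd.nonempty (h := ⟨w⟩)
    let T' : Closeds X := ⟨I.subschemeι '' (U : Set I.subscheme)ᶜ,
      I.subschemeι.isClosedEmbedding.isClosedMap _ U.2.isClosed_compl⟩
    have hlt : T' < T := by
      refine lt_of_le_of_ne (fun x hx => ?_) fun he => ?_
      · obtain ⟨w, -, rfl⟩ := hx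
        exact hr.le ⟨w, rfl⟩
      · obtain ⟨u, hu⟩ := hUne
        have : I.subschemeι u ∈ T' := by rw [he]; exact hr.le ⟨u, rfl⟩
        obtain ⟨w, hw, hwu⟩ := this
        exact hw (I.subschemeι.isClosedEmbedding.injective hwu ▸ hu)
    obtain ⟨Y', f', hf', hY', hcd⟩ := ih T' hlt
    let g := b ≫ I.subschemeι
    haveI : IsProper g := inferInstance
    refine ⟨W' ⨿ Y', coprod.desc g f', isProper_coprod_desc g f', hasAmpleFamily_coprod hW' hY', fun x hx => ?_⟩
    by_cases hxT : x ∈ T'
    · obtain ⟨y, hy, hyb⟩ := hcd x hxT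
      refine ⟨(coprod.inr : Y' ⟶ W' ⨿ Y') y, by rw [← Scheme.Hom.comp_apply, coprod.inr_desc]; exact hy, ?_⟩
      rw [← coprod.inr_desc g f', Scheme.residueFieldMap_comp] at hyb
      exact (Function.Bijective.of_comp_iff' (ConcreteCategory.bijective_of_isIso
        ((coprod.inr : Y' ⟶ W' ⨿ Y').residueFieldMap y)) _).1 hyb
    obtain ⟨w, rfl⟩ := hr.ge hx
    have hwU : w ∈ U := Classical.not_not.1 fun h => hxT ⟨w, h, rfl⟩
    obtain ⟨y, hy⟩ := (b ∣_ U).surjective ⟨w, hwU⟩
    have hby : b y.1 = w := by
      have h := congrArg U.ι hy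
      rw [← Scheme.Hom.comp_apply, morphismRestrict_ι] at h
      exact h
    have hgy : g y.1 = I.subschemeι w := by rw [Scheme.Hom.comp_apply, hby]
    have hb1 : Function.Bijective (b.residueFieldMap y.1) := by
      have h1 : Function.Bijective (((b ∣_ U) ≫ U.ι).residueFieldMap y) :=
        residueFieldMap_bijective_comp _ _ y (ConcreteCategory.bijective_of_isIso _)
          (ConcreteCategory.bijective_of_isIso _)
      rw [morphismRestrict_ι, Scheme.residueFieldMap_comp] at h1
      exact (Function.Bijective.of_comp_iff' (ConcreteCategory.bijective_of_isIso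
        ((b ⁻¹ᵁ U).ι.residueFieldMap y)) _).1 h1
    have hgb : Function.Bijective (g.residueFieldMap y.1) :=
      residueFieldMap_bijective_comp _ _ y.1 hb1 (residueFieldMap_bijective_closedImmersion _ _)
    refine ⟨(coprod.inl : W' ⟶ W' ⨿ Y') y.1,
      by rw [← Scheme.Hom.comp_apply, coprod.inl_desc]; exact hgy, ?_⟩
    rw [← coprod.inl_desc g f', Scheme.residueFieldMap_comp] at hgb
    exact (Function.Bijective.of_comp_iff' (ConcreteCategory.bijective_of_isIso
      ((coprod.inl : W' ⟶ W' ⨿ Y').residueFieldMap y.1)) _).1 hgb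

end Groth.Agent.FlatMorAdm
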