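import Groth.Agent.H8Lim.Approximation
import Groth.Agent.LocImm12.Separate

/-!
# Gluing two separated schemes along an open with closed graph, over any base
-/

set_option autoImplicit false
set_option backward.isDefEq.respectTransparency false

universe u

open CategoryTheory CategoryTheory.Limits AlgebraicGeometry TopologicalSpace Topology

namespace Groth.Agent.FlatMorAdm

open LocImm12

variable {S : Scheme.{u}}

theorem exists_glue_separated {O Y₁ Y₂ : Scheme.{u}} (i : O ⟶ Y₁) (j : O ⟶ Y₂) [IsOpenImmersion i]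
    [IsOpenImmersion j] (q₁ : Y₁ ⟶ S) (q₂ : Y₂ ⟶ S) [IsSeparated q₁] [IsSeparated q₂]
    [LocallyOfFiniteType q₁] [LocallyOfFiniteType q₂] [QuasiCompact q₁] [QuasiCompact q₂]
    (h : i ≫ q₁ = j ≫ q₂) (hcl : IsClosed (Set.range (pullback.lift i j h))) :
    ∃ (Z : Scheme.{u}) (a : Y₁ ⟶ Z) (b : Y₂ ⟶ Z) (p : Z ⟶ S),
      IsOpenImmersion a ∧ IsOpenImmersion b ∧ i ≫ a = j ≫ b ∧ a ≫ p = q₁ ∧ b ≫ p = q₂ ∧
      IsSeparated p ∧ LocallyOfFiniteType p ∧ QuasiCompact p ∧
      (∀ z, z ∈ Set.range a ∨ z ∈ Set.range b) ∧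
      (∀ x y, a x = b y → ∃ o, i o = x ∧ j o = y) := by
  obtain ⟨Z, a, b, p, ha, hb, hab, hap, hbp, hcov, hint⟩ := H8Lim.exists_glue_two i j q₁ q₂ h
  have hlft : LocallyOfFiniteType p := by
    refine IsZariskiLocalAtSource.of_iSup_eq_top (P := @LocallyOfFiniteType)
      (fun s : Bool => bif s then a.opensRange else b.opensRange) ?_ ?_
    · rw [eq_top_iff]
      intro z _
      rcases hcov z with h | h
      · exact Opens.mem_iSup.2 ⟨true, h⟩
      · exact Opens.mem_iSup.2 ⟨false, h⟩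
    · rintro (_ | _)
      · show LocallyOfFiniteType (b.opensRange.ι ≫ p)
        rw [← b.isoOpensRange_inv_comp, Category.assoc, hbp]
        infer_instance
      · show LocallyOfFiniteType (a.opensRange.ι ≫ p)
        rw [← a.isoOpensRange_inv_comp, Category.assoc, hap]
        infer_instance
  have hqc : QuasiCompact p := by
    refine ⟨fun U hU hUc => ?_⟩
    have e : p ⁻¹' U = a '' (q₁ ⁻¹' U) ∪ b '' (q₂ ⁻¹' U) := by
      ext z
      constructor
      · intro hz
        rcases hcov z with ⟨x, rfl⟩ | ⟨x, rfl⟩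
        · exact Or.inl ⟨x, by show q₁ x ∈ U; rw [← hap]; exact hz, rfl⟩
        · exact Or.inr ⟨x, by show q₂ x ∈ U; rw [← hbp]; exact hz, rfl⟩
      · rintro (⟨x, hx, rfl⟩ | ⟨x, hx, rfl⟩)
        · show (a ≫ p) x ∈ U; rw [hap]; exact hx
        · show (b ≫ p) x ∈ U; rw [hbp]; exact hx
    rw [e]
    exact ((QuasiCompact.isCompact_preimage (f := q₁) U hU hUc).image a.continuous).union
      ((QuasiCompact.isCompact_preimage (f := q₂) U hU hUc).image b.continuous)
  refine ⟨Z, a, b, p, ha, hb, hab, hap, hbp, ?_, hlft, hqc, hcov, hint⟩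
  have hcl' : IsClosed (Set.range (pullback.diagonal p)) := by
    have hc11 := isClosed_preimage_range_diagonal p q₁ q₁ a a hap hap (𝟙 _) (𝟙 _) rfl rfl
      (fun x y e => ⟨x, rfl, a.isOpenEmbedding.injective e⟩) (isClosed_range_lift_self q₁)
    have hc22 := isClosed_preimage_range_diagonal p q₂ q₂ b b hbp hbp (𝟙 _) (𝟙 _) rfl rfl
      (fun x y e => ⟨x, rfl, b.isOpenEmbedding.injective e⟩) (isClosed_range_lift_self q₂)
    have hc12 := isClosed_preimage_range_diagonal p q₁ q₂ a b hap hbp i j h hab hint hcl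
    have hc21 := isClosed_preimage_range_diagonal p q₂ q₁ b a hbp hap j i h.symm hab.symm
      (fun x y e => let ⟨o, h1, h2⟩ := hint y x e.symm; ⟨o, h2, h1⟩)
      (isClosed_range_lift_swap q₁ q₂ i j h hcl)
    rw [← isOpen_compl_iff, isOpen_iff_forall_mem_open]
    intro w hw
    have main : ∀ {C D : Scheme.{u}} (pc : C ⟶ S) (pd : D ⟶ S) (c : C ⟶ Z) (d : D ⟶ Z)
        [IsOpenImmersion c] [IsOpenImmersion d] (hc : c ≫ p = pc) (hd : d ≫ p = pd),
        IsClosed ((pullback.map pc pd p p c d (𝟙 S) (by simp [hc]) (by simp [hd])) ⁻¹'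
          Set.range (pullback.diagonal p)) →
        pullback.fst p p w ∈ Set.range c → pullback.snd p p w ∈ Set.range d →
        ∃ t ⊆ (Set.range (pullback.diagonal p))ᶜ, IsOpen t ∧ w ∈ t := by
      intro C D pc pd c d _ _ hc hd hcl hwc hwd
      let μ := pullback.map pc pd p p c d (𝟙 S) (by simp [hc]) (by simp [hd])
      obtain ⟨q, rfl⟩ : w ∈ Set.range μ := by
        rw [Scheme.Pullback.range_map]; exact ⟨hwc, hwd⟩
      refine ⟨μ '' (μ ⁻¹' Set.range (pullback.diagonal p))ᶜ, ?_,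
        μ.isOpenEmbedding.isOpenMap _ hcl.isOpen_compl, ⟨q, hw, rfl⟩⟩
      rintro _ ⟨q', hq', rfl⟩
      exact hq'
    rcases hcov (pullback.fst p p w) with h1 | h1 <;> rcases hcov (pullback.snd p p w) with h2 | h2
    exacts [main q₁ q₁ a a hap hap hc11 h1 h2, main q₁ q₂ a b hap hbp hc12 h1 h2,
      main q₂ q₁ b a hbp hap hc21 h1 h2, main q₂ q₂ b b hbp hbp hc22 h1 h2]
  exact ⟨IsClosedImmersion.of_isPreimmersion _ hcl'⟩

end Groth.Agent.FlatMorAdm
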