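import Groth.Agent.FlatMorAdm.ExtendOpen
import Groth.Agent.FlatMorAdm.Glue
import Groth.Agent.BlowUpLib.AffineExt

/-!
# Common targets of two birational morphisms after admissible blow-ups

* `exists_common`: if `π₁ : X ⟶ Y₁`, `π₂ : X ⟶ Y₂` are isomorphisms over `V₁`, `V₂` with the same
  preimage, then after admissible blow-ups `X` is open in both targets.
* `exists_common_target`: two schemes containing a common open `U` become, after admissible blow-ups,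
  open in one separated scheme.
-/

set_option autoImplicit false
set_option backward.isDefEq.respectTransparency.types false

universe u

open CategoryTheory Limits AlgebraicGeometry TopologicalSpace

namespace Groth.Agent.FlatMorAdm

open BlowUpLib

theorem isIso_comp_restrict {X Y Z : Scheme.{u}} (f : X ⟶ Y) (g : Y ⟶ Z) (U : Z.Opens)
    (hf : IsIso (f ∣_ (g ⁻¹ᵁ U))) (hg : IsIso (g ∣_ U)) : IsIso ((f ≫ g) ∣_ U) := by
  rw [morphismRestrict_comp]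
  exact @IsIso.comp_isIso _ _ _ _ _ _ _ hf hg

theorem exists_common {X Y₁ Y₂ : Scheme.{u}} [CompactSpace Y₁] [QuasiSeparatedSpace Y₁]
    [CompactSpace Y₂] [QuasiSeparatedSpace Y₂]
    (π₁ : X ⟶ Y₁) (π₂ : X ⟶ Y₂)
    [IsSeparated π₁] [QuasiCompact π₁] [LocallyOfFiniteType π₁]
    [IsSeparated π₂] [QuasiCompact π₂] [LocallyOfFiniteType π₂]
    (V₁ : Y₁.Opens) (V₂ : Y₂.Opens) (hV₁ : IsCompact (V₁ : Set Y₁)) (hV₂ : IsCompact (V₂ : Set Y₂))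
    [IsIso (π₁ ∣_ V₁)] [IsIso (π₂ ∣_ V₂)] (hA : π₂ ⁻¹ᵁ V₂ = π₁ ⁻¹ᵁ V₁) :
    ∃ (𝓘 : X.IdealSheafData) (𝓙₁ : Y₁.IdealSheafData) (𝓙₂ : Y₂.IdealSheafData)
      (Xt Yt₁ Yt₂ : Scheme.{u}) (b : Xt ⟶ X) (c₁ : Yt₁ ⟶ Y₁) (c₂ : Yt₂ ⟶ Y₂) (j₁ : Xt ⟶ Yt₁) (j₂ : Xt ⟶ Yt₂),
      BlowUp.IsBlowUp b 𝓘 ∧ BlowUp.IsAdmissibleFor (π₁ ⁻¹ᵁ V₁) 𝓘 ∧
      BlowUp.IsBlowUp c₁ 𝓙₁ ∧ BlowUp.IsAdmissibleFor V₁ 𝓙₁ ∧
      BlowUp.IsBlowUp c₂ 𝓙₂ ∧ BlowUp.IsAdmissibleFor V₂ 𝓙₂ ∧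
      IsOpenImmersion j₁ ∧ IsOpenImmersion j₂ ∧ j₁ ≫ c₁ = b ≫ π₁ ∧ j₂ ≫ c₂ = b ≫ π₂ := by
  haveI : CompactSpace X := QuasiCompact.compactSpace_of_compactSpace π₁
  haveI : QuasiSeparatedSpace X := quasiSeparatedSpace_of_quasiSeparated π₁
  -- make `π₁` an open immersion
  obtain ⟨K₁, X₁, Y₁', b₁, c₁, j₁, hb₁, hb₁a, hc₁, hc₁a, hj₁, hcomm₁, -⟩ :=
    exists_openImmersion_of_birational π₁ V₁ hV₁
  haveI : IsProper b₁ := isProper_of_isBlowUp hb₁ hb₁a.1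
  haveI : IsProper c₁ := isProper_of_isBlowUp hc₁ hc₁a.1
  haveI : CompactSpace X₁ := QuasiCompact.compactSpace_of_compactSpace b₁
  haveI : QuasiSeparatedSpace X₁ := quasiSeparatedSpace_of_quasiSeparated b₁
  haveI : CompactSpace Y₁' := QuasiCompact.compactSpace_of_compactSpace c₁
  haveI : QuasiSeparatedSpace Y₁' := quasiSeparatedSpace_of_quasiSeparated c₁
  haveI : IsIso ((b₁ ≫ π₂) ∣_ V₂) := isIso_comp_restrict b₁ π₂ V₂
    (ProjLib.isIso_morphismRestrict hb₁ _ (hA ▸ hb₁a.2)) ‹_›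
  -- make `b₁ ≫ π₂` an open immersion
  obtain ⟨K₂, X₂, Y₂', d, c₂, j₂, hd, hda, hc₂, hc₂a, hj₂, hcomm₂, -⟩ :=
    exists_openImmersion_of_birational (b₁ ≫ π₂) V₂ hV₂
  -- extend the second centre to `Y₁'`
  have hV₁' : IsCompact ((c₁ ⁻¹ᵁ V₁ : Y₁'.Opens) : Set Y₁') :=
    QuasiCompact.isCompact_preimage (f := c₁) _ V₁.2 hV₁
  have hda' : BlowUp.IsAdmissibleFor (j₁ ⁻¹ᵁ (c₁ ⁻¹ᵁ V₁)) (K₂.comap (b₁ ≫ π₂)) := by
    rwa [← Scheme.Hom.comp_preimage, hcomm₁, Scheme.Hom.comp_preimage, ← hA,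
      ← Scheme.Hom.comp_preimage]
  obtain ⟨J', hJ', hJ'j⟩ := exists_extend_admissible j₁ (c₁ ⁻¹ᵁ V₁) hV₁' _ hda'
  obtain ⟨Y₁'', e, he⟩ := exists_isBlowUp (I := J')
  obtain ⟨L₁, hL₁, hL₁a⟩ := exists_isBlowUp_comp V₁ hc₁a hc₁ hJ' he
  obtain ⟨φ, hφ⟩ := exists_iso_of_isBlowUp hd (hJ'j ▸ SDiv28.isBlowUp_flat_baseChange he j₁)
  obtain ⟨L, hL, hLa⟩ := exists_isBlowUp_comp (π₁ ⁻¹ᵁ V₁) hb₁a hb₁
    (show BlowUp.IsAdmissibleFor (b₁ ⁻¹ᵁ (π₁ ⁻¹ᵁ V₁)) (K₂.comap (b₁ ≫ π₂)) by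
      rwa [← hA, ← Scheme.Hom.comp_preimage]) hd
  refine ⟨L, L₁, K₂, X₂, Y₁'', Y₂', d ≫ b₁, e ≫ c₁, c₂, φ.hom ≫ pullback.snd j₁ e, j₂,
    hL, hLa, hL₁, hL₁a, hc₂, hc₂a, inferInstance, hj₂, ?_, by rw [hcomm₂, Category.assoc]⟩
  rw [Category.assoc, ← pullback.condition_assoc, hcomm₁, reassoc_of% hφ, Category.assoc]

/-- An open immersion into the targets of `toImage` identifies `U` with the preimage of its range. -/
theorem isIso_restrict_of_section {U Γ' X : Scheme.{u}} (s : U ⟶ Γ') [QuasiCompact s]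
    (hs : s.ker = ⊥) (π : Γ' ⟶ X) [IsSeparated π] (j : U ⟶ X) [IsOpenImmersion j] (h : s ≫ π = j) :
    IsIso (π ∣_ j.opensRange) ∧ Set.range s = (π ⁻¹ᵁ j.opensRange : Set Γ') := by
  have hr : Set.range s ⊆ Set.range (π ⁻¹ᵁ j.opensRange).ι := by
    rw [Scheme.Opens.range_ι]
    rintro _ ⟨y, rfl⟩
    exact ⟨y, by rw [← h]; rfl⟩
  let l := IsOpenImmersion.lift (π ⁻¹ᵁ j.opensRange).ι s hr
  have hl : l ≫ (π ⁻¹ᵁ j.opensRange).ι = s := IsOpenImmersion.lift_fac _ _ _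
  have hiso : l ≫ (π ∣_ j.opensRange) = j.isoOpensRange.hom := by
    rw [← cancel_mono j.opensRange.ι, Category.assoc, morphismRestrict_ι, reassoc_of% hl, h,
      Scheme.Hom.isoOpensRange_hom_ι]
  haveI : IsSeparated (π ∣_ j.opensRange) := MorphismProperty.of_isPullback (P := @IsSeparated.{u})
    (isPullback_morphismRestrict π j.opensRange).flip ‹_›
  haveI : IsClosedImmersion (l ≫ (π ∣_ j.opensRange)) := by rw [hiso]; infer_instance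
  haveI : IsClosedImmersion l := IsClosedImmersion.of_comp l (π ∣_ j.opensRange)
  have hker : l.ker = ⊥ := by
    refine Scheme.IdealSheafData.ext (funext fun T => ?_)
    have H : IsPullback l (𝟙 U) (π ⁻¹ᵁ j.opensRange).ι s :=
      IsOpenImmersion.isPullback l (𝟙 U) (π ⁻¹ᵁ j.opensRange).ι s
        (by rw [Category.id_comp, hl]) (by
          rw [Scheme.Hom.opensRange_of_isIso (𝟙 U)]
          exact top_le_iff.1 fun x _ => hr ⟨x, rfl⟩)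
    have h' := Scheme.ker_ideal_of_isPullback_of_isOpenImmersion s l (𝟙 _) _ H T
    rw [h', hs, Scheme.IdealSheafData.ideal_bot, Scheme.IdealSheafData.ideal_bot, Pi.bot_apply,
      Pi.bot_apply, ← RingHom.ker_eq_comap_bot]
    exact (RingHom.injective_iff_ker_eq_bot _).1
      (ConcreteCategory.bijective_of_isIso ((π ⁻¹ᵁ j.opensRange).ι.appIso T.1).inv).1
  haveI : IsIso l := IsClosedImmersion.isIso_iff_ker_eq_bot.2 hker
  refine ⟨?_, ?_⟩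
  · haveI : IsIso (l ≫ (π ∣_ j.opensRange)) := by rw [hiso]; infer_instance
    exact IsIso.of_isIso_comp_left l _
  · refine Set.Subset.antisymm (fun x hx => ?_) fun x hx => ?_
    · have := hr hx
      rwa [Scheme.Opens.range_ι] at this
    · obtain ⟨y, hy⟩ := l.surjective ⟨x, hx⟩
      exact ⟨y, by rw [← hl, Scheme.Hom.comp_apply, hy]; rfl⟩

theorem exists_common_target {S U X₁ X₂ : Scheme.{u}} [CompactSpace S] [QuasiSeparatedSpace S]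
    [CompactSpace U] (g₁ : X₁ ⟶ S) (g₂ : X₂ ⟶ S)
    [IsSeparated g₁] [LocallyOfFiniteType g₁] [QuasiCompact g₁]
    [IsSeparated g₂] [LocallyOfFiniteType g₂] [QuasiCompact g₂]
    (j₁ : U ⟶ X₁) (j₂ : U ⟶ X₂) [IsOpenImmersion j₁] [IsOpenImmersion j₂]
    (h : j₁ ≫ g₁ = j₂ ≫ g₂) :
    ∃ (X : Scheme.{u}) (q : X ⟶ S) (_ : IsSeparated q) (_ : LocallyOfFiniteType q) (_ : QuasiCompact q)
      (𝓘₁ : X₁.IdealSheafData) (𝓘₂ : X₂.IdealSheafData) (X₁' X₂' : Scheme.{u}) (b₁ : X₁' ⟶ X₁) (b₂ : X₂' ⟶ X₂)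
      (o₁ : X₁' ⟶ X) (o₂ : X₂' ⟶ X) (u₁ : U ⟶ X₁') (u₂ : U ⟶ X₂'),
      BlowUp.IsBlowUp b₁ 𝓘₁ ∧ BlowUp.IsAdmissibleFor j₁.opensRange 𝓘₁ ∧
      BlowUp.IsBlowUp b₂ 𝓘₂ ∧ BlowUp.IsAdmissibleFor j₂.opensRange 𝓘₂ ∧
      IsOpenImmersion o₁ ∧ IsOpenImmersion o₂ ∧ o₁ ≫ q = b₁ ≫ g₁ ∧ o₂ ≫ q = b₂ ≫ g₂ ∧
      u₁ ≫ b₁ = j₁ ∧ u₂ ≫ b₂ = j₂ ∧ u₁ ≫ o₁ = u₂ ≫ o₂ ∧
      IsOpenImmersion u₁ ∧ IsOpenImmersion u₂ ∧
      (∀ x, x ∈ Set.range o₁ ∨ x ∈ Set.range o₂) := by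
  haveI : CompactSpace X₁ := QuasiCompact.compactSpace_of_compactSpace g₁
  haveI : QuasiSeparatedSpace X₁ := quasiSeparatedSpace_of_quasiSeparated g₁
  haveI : CompactSpace X₂ := QuasiCompact.compactSpace_of_compactSpace g₂
  haveI : QuasiSeparatedSpace X₂ := quasiSeparatedSpace_of_quasiSeparated g₂
  haveI : QuasiSeparatedSpace (pullback g₁ g₂ : Scheme.{u}) :=
    quasiSeparatedSpace_of_quasiSeparated (pullback.fst g₁ g₂)
  set σ := pullback.lift j₁ j₂ h with hσ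
  haveI : QuasiCompact σ := quasiCompact_of_compactSpace σ
  haveI : IsImmersion (σ ≫ pullback.fst g₁ g₂) := by rw [hσ, pullback.lift_fst]; infer_instance
  haveI : IsImmersion σ := IsImmersion.of_comp σ (pullback.fst g₁ g₂)
  haveI : IsOpenImmersion σ.toImage := inferInstance
  set π₁ := σ.imageι ≫ pullback.fst g₁ g₂ with hπ₁
  set π₂ := σ.imageι ≫ pullback.snd g₁ g₂ with hπ₂
  have ht₁ : σ.toImage ≫ π₁ = j₁ := by
    rw [hπ₁, Scheme.Hom.toImage_imageι_assoc, hσ, pullback.lift_fst]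
  have ht₂ : σ.toImage ≫ π₂ = j₂ := by
    rw [hπ₂, Scheme.Hom.toImage_imageι_assoc, hσ, pullback.lift_snd]
  obtain ⟨hiso₁, hr₁⟩ := isIso_restrict_of_section σ.toImage (ModPairLib.ker_toImage σ) π₁ j₁ ht₁
  obtain ⟨hiso₂, hr₂⟩ := isIso_restrict_of_section σ.toImage (ModPairLib.ker_toImage σ) π₂ j₂ ht₂
  obtain ⟨L, L₁, L₂, Xt, X₁', X₂', b, c₁, c₂, i₁, i₂, hb, hba, hc₁, hc₁a, hc₂, hc₂a, hi₁, hi₂,
      hcomm₁, hcomm₂⟩ :=
    exists_common π₁ π₂ j₁.opensRange j₂.opensRange (isCompact_range j₁.continuous)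
      (isCompact_range j₂.continuous) (SetLike.coe_injective (hr₂.symm.trans hr₁))
  haveI : IsProper b := isProper_of_isBlowUp hb hba.1
  haveI : IsProper c₁ := isProper_of_isBlowUp hc₁ hc₁a.1
  haveI : IsProper c₂ := isProper_of_isBlowUp hc₂ hc₂a.1
  have hq : i₁ ≫ c₁ ≫ g₁ = i₂ ≫ c₂ ≫ g₂ := by
    rw [reassoc_of% hcomm₁, reassoc_of% hcomm₂, hπ₁, hπ₂, Category.assoc, Category.assoc,
      pullback.condition]
  -- the graph is closed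
  have hcl : IsClosed (Set.range (pullback.lift i₁ i₂ hq)) := by
    let μ := pullback.map (c₁ ≫ g₁) (c₂ ≫ g₂) g₁ g₂ c₁ c₂ (𝟙 S) (Category.comp_id _) (Category.comp_id _)
    haveI : IsSeparated (μ ≫ pullback.fst g₁ g₂ ≫ g₁) := by
      have : μ ≫ pullback.fst g₁ g₂ ≫ g₁ = pullback.fst (c₁ ≫ g₁) (c₂ ≫ g₂) ≫ c₁ ≫ g₁ := by
        rw [pullback.lift_fst_assoc, Category.assoc]
      rw [this]
      infer_instance
    haveI : IsSeparated μ := IsSeparated.of_comp μ (pullback.fst g₁ g₂ ≫ g₁)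
    have hμ : pullback.lift i₁ i₂ hq ≫ μ = b ≫ σ.imageι := by
      apply pullback.hom_ext
      · rw [Category.assoc, pullback.lift_fst, pullback.lift_fst_assoc, hcomm₁, hπ₁, Category.assoc]
      · rw [Category.assoc, pullback.lift_snd, pullback.lift_snd_assoc, hcomm₂, hπ₂, Category.assoc]
    haveI : IsProper (pullback.lift i₁ i₂ hq ≫ μ) := by rw [hμ]; infer_instance
    haveI : IsProper (pullback.lift i₁ i₂ hq) := IsProper.of_comp _ μ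
    exact (pullback.lift i₁ i₂ hq).isClosedMap.isClosed_range
  obtain ⟨X, o₁, o₂, q, ho₁, ho₂, hio, hoq₁, hoq₂, hsep, hlft, hqc, hcov, -⟩ :=
    exists_glue_separated i₁ i₂ (c₁ ≫ g₁) (c₂ ≫ g₂) hq hcl
  -- the lift of `U`
  haveI hbA := ProjLib.isIso_morphismRestrict hb (π₁ ⁻¹ᵁ j₁.opensRange) hba.2
  let l := IsOpenImmersion.lift (π₁ ⁻¹ᵁ j₁.opensRange).ι σ.toImage (by
    rw [Scheme.Opens.range_ι]; exact hr₁.le)
  have hl : l ≫ (π₁ ⁻¹ᵁ j₁.opensRange).ι = σ.toImage := IsOpenImmersion.lift_fac _ _ _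
  haveI : IsOpenImmersion (l ≫ (π₁ ⁻¹ᵁ j₁.opensRange).ι) := by rw [hl]; infer_instance
  haveI : IsOpenImmersion l := IsOpenImmersion.of_comp l (π₁ ⁻¹ᵁ j₁.opensRange).ι
  let t := l ≫ inv (b ∣_ (π₁ ⁻¹ᵁ j₁.opensRange)) ≫ (b ⁻¹ᵁ (π₁ ⁻¹ᵁ j₁.opensRange)).ι
  have ht : t ≫ b = σ.toImage := by
    simp only [t, Category.assoc]
    rw [← morphismRestrict_ι, IsIso.inv_hom_id_assoc, hl]
  have hu : (t ≫ i₁) ≫ o₁ = (t ≫ i₂) ≫ o₂ := by
    rw [Category.assoc, Category.assoc]; exact congrArg (t ≫ ·) hio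
  refine ⟨X, q, hsep, hlft, hqc, L₁, L₂, X₁', X₂', c₁, c₂, o₁, o₂, t ≫ i₁, t ≫ i₂, hc₁, hc₁a, hc₂,
    hc₂a, ho₁, ho₂, hoq₁, hoq₂, ?_, ?_, hu,
    inferInstance, inferInstance, hcov⟩
  · rw [Category.assoc, hcomm₁, reassoc_of% ht, ht₁]
  · rw [Category.assoc, hcomm₂, reassoc_of% ht, ht₂]

end Groth.Agent.FlatMorAdm
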