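import Groth.Agent.FlatMorAdm.Common
import Groth.Agent.BlowUpLib.Separate
import Groth.Agent.Props12.KerReduced
import Groth.Agent.ModPairLib.LocPullback

/-!
# Compactifying a union of two compactifiable opens

The data: a proper scheme with an open which maps properly onto the scheme to be compactified
(`exists_prepare`), the separation of the two boundaries after admissible blow-ups
(`exists_separating_blowUp`), and the glueing.
-/

set_option autoImplicit false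
set_option backward.isDefEq.respectTransparency.types false

universe u

open CategoryTheory Limits AlgebraicGeometry TopologicalSpace

namespace Groth.Agent.FlatMorAdm

open BlowUpLib

theorem exists_lift_of_isIso {X Y T : Scheme.{u}} (f : Y ⟶ X) (R : X.Opens) (hf : IsIso (f ∣_ R))
    (t : T ⟶ X) (ht : Set.range t ⊆ (R : Set X)) :
    ∃ s : T ⟶ Y, s ≫ f = t ∧ (IsOpenImmersion t → IsOpenImmersion s) := by
  let l := IsOpenImmersion.lift R.ι t (by rwa [Scheme.Opens.range_ι])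
  have hl : l ≫ R.ι = t := IsOpenImmersion.lift_fac _ _ _
  refine ⟨l ≫ inv (f ∣_ R) ≫ (f ⁻¹ᵁ R).ι, ?_, fun h => ?_⟩
  · rw [Category.assoc, Category.assoc, ← morphismRestrict_ι, IsIso.inv_hom_id_assoc, hl]
  · haveI : IsOpenImmersion (l ≫ R.ι) := by rw [hl]; exact h
    haveI : IsOpenImmersion l := IsOpenImmersion.of_comp l R.ι
    infer_instance

theorem eq_of_isIso_restrict {X Y T : Scheme.{u}} (f : Y ⟶ X) (R : X.Opens) (hf : IsIso (f ∣_ R))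
    {a b : T ⟶ Y} (h : a ≫ f = b ≫ f) (hr : Set.range (a ≫ f) ⊆ (R : Set X)) : a = b := by
  have ha : Set.range a ⊆ Set.range (f ⁻¹ᵁ R).ι := by
    rw [Scheme.Opens.range_ι]
    rintro _ ⟨x, rfl⟩
    exact hr ⟨x, rfl⟩
  have hb : Set.range b ⊆ Set.range (f ⁻¹ᵁ R).ι := by
    rw [Scheme.Opens.range_ι]
    rintro _ ⟨x, rfl⟩
    exact hr ⟨x, by rw [h]; rfl⟩
  have : IsOpenImmersion.lift _ a ha ≫ (f ∣_ R) ≫ R.ι = IsOpenImmersion.lift _ b hb ≫ (f ∣_ R) ≫ R.ι := by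
    rw [morphismRestrict_ι, IsOpenImmersion.lift_fac_assoc, IsOpenImmersion.lift_fac_assoc, h]
  rw [← Category.assoc, ← Category.assoc, cancel_mono, cancel_mono] at this
  rw [← IsOpenImmersion.lift_fac _ a ha, this, IsOpenImmersion.lift_fac]

/-- A compactification of an open `U` of `X`, modified to carry an open mapping properly to `X`. -/
theorem exists_prepare {S X Y : Scheme.{u}} [CompactSpace S] [QuasiSeparatedSpace S]
    (g : X ⟶ S) [IsSeparated g] [LocallyOfFiniteType g] [QuasiCompact g]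
    (U : X.Opens) [CompactSpace (U : Scheme.{u})] (j : (U : Scheme.{u}) ⟶ Y) [IsOpenImmersion j]
    (πY : Y ⟶ S) [IsProper πY] (hj : j ≫ πY = U.ι ≫ g) :
    ∃ (Xb : Scheme.{u}) (gb : Xb ⟶ S) (_ : IsProper gb) (o : (U : Scheme.{u}) ⟶ Xb) (_ : IsOpenImmersion o)
      (V : Xb.Opens) (_ : IsCompact (V : Set Xb)) (l : (U : Scheme.{u}) ⟶ V) (q : (V : Scheme.{u}) ⟶ X),
      o ≫ gb = U.ι ≫ g ∧ l ≫ V.ι = o ∧ IsProper q ∧ l ≫ q = U.ι ∧ q ≫ g = V.ι ≫ gb ∧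
      ∀ v : (V : Scheme.{u}), q v ∈ U → V.ι v ∈ Set.range o := by
  haveI : CompactSpace Y := QuasiCompact.compactSpace_of_compactSpace πY
  haveI : QuasiSeparatedSpace Y := quasiSeparatedSpace_of_quasiSeparated πY
  haveI : CompactSpace X := QuasiCompact.compactSpace_of_compactSpace g
  haveI : QuasiSeparatedSpace X := quasiSeparatedSpace_of_quasiSeparated g
  haveI : QuasiSeparatedSpace (pullback πY g : Scheme.{u}) :=
    quasiSeparatedSpace_of_quasiSeparated (pullback.fst πY g)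
  set σ := pullback.lift j U.ι hj with hσ
  haveI : QuasiCompact σ := quasiCompact_of_compactSpace σ
  haveI : IsImmersion (σ ≫ pullback.fst πY g) := by rw [hσ, pullback.lift_fst]; infer_instance
  haveI : IsImmersion σ := IsImmersion.of_comp σ (pullback.fst πY g)
  set p := σ.imageι ≫ pullback.fst πY g with hp
  have htp : σ.toImage ≫ p = j := by
    rw [hp, Scheme.Hom.toImage_imageι_assoc, hσ, pullback.lift_fst]
  have htX : σ.toImage ≫ σ.imageι ≫ pullback.snd πY g = U.ι := by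
    rw [Scheme.Hom.toImage_imageι_assoc, hσ, pullback.lift_snd]
  obtain ⟨hiso, hr⟩ := isIso_restrict_of_section σ.toImage (ModPairLib.ker_toImage σ) p j htp
  haveI := hiso
  obtain ⟨𝓙, G', Y', b, c, i, hb, hba, hc, hca, hi, hic, -⟩ :=
    exists_openImmersion_of_birational p j.opensRange (isCompact_range j.continuous)
  haveI := hi
  haveI : IsProper b := isProper_of_isBlowUp hb hba.1
  haveI : IsProper c := isProper_of_isBlowUp hc hca.1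
  obtain ⟨t, ht, hto⟩ := exists_lift_of_isIso b _ (ProjLib.isIso_morphismRestrict hb _ hba.2) σ.toImage
    hr.le
  haveI : IsOpenImmersion t := hto inferInstance
  set o₀ := t ≫ i with ho₀
  haveI : CompactSpace Y' := QuasiCompact.compactSpace_of_compactSpace c
  haveI : QuasiSeparatedSpace Y' := quasiSeparatedSpace_of_quasiSeparated c
  haveI : QuasiCompact o₀ := quasiCompact_of_compactSpace o₀
  haveI : CompactSpace G' := by
    haveI : CompactSpace σ.image := QuasiCompact.compactSpace_of_compactSpace p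
    exact QuasiCompact.compactSpace_of_compactSpace b
  set V := o₀.imageι ⁻¹ᵁ i.opensRange with hV
  have hVc : IsCompact (V : Set o₀.image) :=
    QuasiCompact.isCompact_preimage (f := o₀.imageι) _ i.opensRange.2 (isCompact_range i.continuous)
  let q₀ : G' ⟶ X := b ≫ σ.imageι ≫ pullback.snd πY g
  haveI : IsProper q₀ := inferInstance
  let q : (V : Scheme.{u}) ⟶ X := (o₀.imageι ∣_ i.opensRange) ≫ i.isoOpensRange.inv ≫ q₀
  haveI : IsClosedImmersion (o₀.imageι ∣_ i.opensRange) :=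
    MorphismProperty.of_isPullback (P := @IsClosedImmersion.{u})
      (isPullback_morphismRestrict o₀.imageι i.opensRange).flip inferInstance
  haveI : IsProper q := inferInstance
  have hlr : Set.range o₀.toImage ⊆ Set.range V.ι := by
    rw [Scheme.Opens.range_ι]
    rintro _ ⟨u, rfl⟩
    exact ⟨t u, by rw [← Scheme.Hom.comp_apply, ← Scheme.Hom.comp_apply, Scheme.Hom.toImage_imageι]⟩
  let l := IsOpenImmersion.lift V.ι o₀.toImage hlr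
  have hl : l ≫ V.ι = o₀.toImage := IsOpenImmersion.lift_fac _ _ _
  have hl' : l ≫ (o₀.imageι ∣_ i.opensRange) ≫ i.isoOpensRange.inv = t := by
    rw [← cancel_mono i]
    simp only [Category.assoc, Scheme.Hom.isoOpensRange_inv_comp, morphismRestrict_ι]
    rw [reassoc_of% hl, Scheme.Hom.toImage_imageι]
  have hlq : l ≫ q = U.ι := by
    simp only [q, q₀]
    rw [reassoc_of% hl', reassoc_of% ht, htX]
  refine ⟨o₀.image, o₀.imageι ≫ c ≫ πY, inferInstance, o₀.toImage, inferInstance, V, hVc, l, q,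
    ?_, hl, inferInstance, hlq, ?_, ?_⟩
  · rw [Scheme.Hom.toImage_imageι_assoc, ho₀, Category.assoc, reassoc_of% hic, reassoc_of% ht,
      reassoc_of% htp, hj]
  · simp only [q, q₀, Category.assoc]
    rw [← pullback.condition, reassoc_of% (show σ.imageι ≫ pullback.fst πY g = p from hp.symm)]
    rw [← reassoc_of% hic, Scheme.Hom.isoOpensRange_inv_comp_assoc]
    exact morphismRestrict_ι_assoc _ _ _
  · intro v hv
    have hd : v ∈ closure (Set.range l) := by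
      refine closure_subtype.2 ?_
      refine closure_mono ?_ (o₀.toImage.denseRange v.1)
      rintro _ ⟨u, rfl⟩
      exact ⟨l u, ⟨u, rfl⟩, by rw [← hl]; rfl⟩
    obtain ⟨u, rfl⟩ := exists_of_mem_closure q U l hlq v hd hv
    exact ⟨u, by rw [← hl]; rfl⟩

/-- Separating, by an admissible blow-up of `X`, the boundary from a closed subset of `P`. -/
theorem exists_separating_blowUp {X P : Scheme.{u}} [CompactSpace X] [QuasiSeparatedSpace X]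
    [CompactSpace P] [NoetherianSpace P] (π : P ⟶ X)
    (V : X.Opens) (hV : IsCompact (V : Set X)) (Z : Set X) (hZ : IsClosed Z) (hZc : IsCompact Zᶜ)
    (A : Set P) (hA : IsClosed A) (B : Set P) (hB : IsClosed B)
    (h : ∀ z ∈ A, π z ∈ Z → π z ∈ V → z ∈ B) :
    ∃ E : X.IdealSheafData, BlowUp.IsAdmissibleFor V E ∧
      ∀ (X' : Scheme.{u}) (c : X' ⟶ X), BlowUp.IsBlowUp c E → ∀ (P' : Scheme.{u}) (μ : P' ⟶ P) (π' : P' ⟶ X'),
        μ ≫ π = π' ≫ c → ∀ z : P', z ∈ closure (μ ⁻¹' (A ∩ π ⁻¹' (V : Set X))) →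
          π' z ∈ closure (c ⁻¹' (Z ∩ (V : Set X))) → μ z ∈ B := by
  set I := Scheme.IdealSheafData.vanishingIdeal (⟨A, hA⟩ : Closeds P) with hI
  have hr : Set.range I.subschemeι = A := by
    rw [Scheme.IdealSheafData.range_subschemeι]; rfl
  haveI : NoetherianSpace I.subscheme := I.subschemeι.isClosedEmbedding.isInducing.noetherianSpace
  set q := I.subschemeι ≫ π with hq
  obtain ⟨E, hE, hEs, hmain⟩ := exists_admissible_separating q V hV (q ⁻¹ᵁ V) le_rfl Z hZ hZc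
    (I.subschemeι ⁻¹' B) (hB.preimage I.subschemeι.continuous) (NoetherianSpace.isCompact _)
    (fun a ha => h (I.subschemeι a) (hr.le ⟨a, rfl⟩) ha.1 ha.2)
  refine ⟨E, ⟨hE, Set.disjoint_left.2 fun x hx hxV => (hEs hx).2 hxV⟩,
    fun X' c hc P' μ π' w z hz hzY => ?_⟩
  have hsub : μ ⁻¹' (A ∩ π ⁻¹' (V : Set X)) ⊆ μ ⁻¹' A := fun _ hx => hx.1
  have hzA : μ z ∈ A := closure_minimal hsub (hA.preimage μ.continuous) hz
  obtain ⟨a, ha⟩ := hr.ge hzA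
  obtain ⟨y, hy₁, hy₂⟩ := Scheme.Pullback.exists_preimage_pullback (f := I.subschemeι) (g := μ) a z ha
  let k : pullback I.subschemeι μ ⟶ pullback q c :=
    pullback.lift (pullback.fst _ _) (pullback.snd _ _ ≫ π')
      (by rw [hq, reassoc_of% pullback.condition, w, Category.assoc])
  have hk₁ : ∀ o, pullback.fst q c (k o) = pullback.fst I.subschemeι μ o := fun o => by
    rw [← Scheme.Hom.comp_apply, pullback.lift_fst]
  have hk₂ : ∀ o, pullback.snd q c (k o) = π' (pullback.snd I.subschemeι μ o) := fun o => by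
    rw [← Scheme.Hom.comp_apply, pullback.lift_snd, Scheme.Hom.comp_apply]
  have hcl : y ∈ closure (pullback.snd I.subschemeι μ ⁻¹' (μ ⁻¹' (A ∩ π ⁻¹' (V : Set X)))) := by
    rw [(pullback.snd I.subschemeι μ).isClosedEmbedding.isInducing.closure_eq_preimage_closure_image]
    rw [Set.mem_preimage, hy₂]
    refine closure_mono ?_ hz
    intro x hx
    obtain ⟨a', ha'⟩ := hr.ge hx.1
    obtain ⟨y', -, h2⟩ := Scheme.Pullback.exists_preimage_pullback (f := I.subschemeι) (g := μ) a' x ha'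
    exact ⟨y', Set.mem_preimage.2 (h2.symm ▸ hx), h2⟩
  have hkU : k y ∈ closure ((fun z => pullback.fst q c z) ⁻¹' ((q ⁻¹ᵁ V : Scheme.Opens _) : Set _)) := by
    refine closure_mono ?_ (image_closure_subset_closure_image k.continuous ⟨y, hcl, rfl⟩)
    rintro _ ⟨o, ho, rfl⟩
    show q (pullback.fst q c (k o)) ∈ V
    rw [hk₁, hq, Scheme.Hom.comp_apply, show I.subschemeι (pullback.fst I.subschemeι μ o) =
      μ (pullback.snd I.subschemeι μ o) by rw [← Scheme.Hom.comp_apply, pullback.condition]; rfl]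
    exact ho.2
  have := hmain X' c hc.1 ⟨show pullback.snd q c (k y) ∈ _ by rw [hk₂, hy₂]; exact hzY, hkU⟩
  have h' : I.subschemeι (pullback.fst q c (k y)) ∈ B := this
  rwa [hk₁, ← Scheme.Hom.comp_apply, pullback.condition, Scheme.Hom.comp_apply, hy₂] at h'

/-- On the closure of the common open, the two maps to `X` are defined at the same points and agree. -/
theorem exists_eq_of_mem_closure {S X X₁ X₂ P D : Scheme.{u}} (g : X ⟶ S) [IsSeparated g]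
    (gb₁ : X₁ ⟶ S) (gb₂ : X₂ ⟶ S) [IsSeparated gb₁]
    (V₁ : X₁.Opens) (q₁ : (V₁ : Scheme.{u}) ⟶ X) [IsProper q₁] (h₁ : q₁ ≫ g = V₁.ι ≫ gb₁)
    (V₂ : X₂.Opens) (q₂ : (V₂ : Scheme.{u}) ⟶ X) (h₂ : q₂ ≫ g = V₂.ι ≫ gb₂)
    (π₁ : P ⟶ X₁) (π₂ : P ⟶ X₂) (hπ : π₁ ≫ gb₁ = π₂ ≫ gb₂) (σ : D ⟶ P)
    (d₁ : D ⟶ V₁) (d₂ : D ⟶ V₂) (hd₁ : d₁ ≫ V₁.ι = σ ≫ π₁) (hd₂ : d₂ ≫ V₂.ι = σ ≫ π₂)
    (hd : d₁ ≫ q₁ = d₂ ≫ q₂) (z : P) (hz : z ∈ closure (Set.range σ)) (hzV : π₂ z ∈ V₂) :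
    ∃ (v₁ : (V₁ : Scheme.{u})) (v₂ : (V₂ : Scheme.{u})),
      V₁.ι v₁ = π₁ z ∧ V₂.ι v₂ = π₂ z ∧ q₁ v₁ = q₂ v₂ := by
  let G : (V₁ : Scheme.{u}) ⟶ pullback gb₁ g := pullback.lift V₁.ι q₁ h₁.symm
  haveI : IsProper (G ≫ pullback.snd gb₁ g) := by rw [pullback.lift_snd]; infer_instance
  haveI : IsProper G := IsProper.of_comp G (pullback.snd gb₁ g)
  let ψ : ((π₂ ⁻¹ᵁ V₂ : P.Opens) : Scheme.{u}) ⟶ pullback gb₁ g :=
    pullback.lift ((π₂ ⁻¹ᵁ V₂).ι ≫ π₁) ((π₂ ∣_ V₂) ≫ q₂)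
      (by rw [Category.assoc, Category.assoc, hπ, h₂, morphismRestrict_ι_assoc])
  have hr : Set.range σ ⊆ Set.range (π₂ ⁻¹ᵁ V₂).ι := by
    rw [Scheme.Opens.range_ι]
    rintro _ ⟨x, rfl⟩
    show π₂ (σ x) ∈ V₂
    rw [← Scheme.Hom.comp_apply, ← hd₂]
    exact (d₂ x).2
  let l := IsOpenImmersion.lift (π₂ ⁻¹ᵁ V₂).ι σ hr
  have hl : l ≫ (π₂ ⁻¹ᵁ V₂).ι = σ := IsOpenImmersion.lift_fac _ _ _
  have hl₂ : l ≫ (π₂ ∣_ V₂) = d₂ := by
    rw [← cancel_mono V₂.ι, Category.assoc, morphismRestrict_ι, reassoc_of% hl, hd₂]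
  have hlψ : l ≫ ψ = d₁ ≫ G := by
    apply pullback.hom_ext
    · simp only [ψ, G, Category.assoc, pullback.lift_fst]
      rw [reassoc_of% hl, hd₁]
    · simp only [ψ, G, Category.assoc, pullback.lift_snd]
      rw [reassoc_of% hl₂, hd]
  let z₀ : ((π₂ ⁻¹ᵁ V₂ : P.Opens) : Scheme.{u}) := ⟨z, hzV⟩
  have hz₀ : z₀ ∈ closure (Set.range l) := by
    refine closure_subtype.2 (closure_mono ?_ hz)
    rintro _ ⟨x, rfl⟩
    exact ⟨l x, ⟨x, rfl⟩, by rw [← hl]; rfl⟩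
  obtain ⟨v₁, hv₁⟩ : ψ z₀ ∈ Set.range G := by
    refine closure_minimal ?_ G.isClosedMap.isClosed_range
      (image_closure_subset_closure_image ψ.continuous ⟨z₀, hz₀, rfl⟩)
    rintro _ ⟨_, ⟨x, rfl⟩, rfl⟩
    exact ⟨d₁ x, by rw [← Scheme.Hom.comp_apply, ← hlψ]; rfl⟩
  refine ⟨v₁, (π₂ ∣_ V₂) z₀, ?_, ?_, ?_⟩
  · have h := congrArg (pullback.fst gb₁ g) hv₁
    simp only [ψ, G, ← Scheme.Hom.comp_apply, pullback.lift_fst] at h
    exact h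
  · rw [← Scheme.Hom.comp_apply, morphismRestrict_ι]; rfl
  · have h := congrArg (pullback.snd gb₁ g) hv₁
    simp only [ψ, G, ← Scheme.Hom.comp_apply, pullback.lift_snd] at h
    exact h

/-- The part away from the boundary glues to `X` with closed graph. -/
theorem exists_glue_away {S X X₁ : Scheme.{u}} (g : X ⟶ S) [IsSeparated g] [LocallyOfFiniteType g]
    [QuasiCompact g] (gb : X₁ ⟶ S) [IsSeparated gb] [LocallyOfFiniteType gb]
    (U : X.Opens) (o : (U : Scheme.{u}) ⟶ X₁) [IsOpenImmersion o]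
    (V : X₁.Opens) (l : (U : Scheme.{u}) ⟶ V) (q : (V : Scheme.{u}) ⟶ X) [IsProper q]
    (hl : l ≫ V.ι = o) (hlq : l ≫ q = U.ι) (hq : q ≫ g = V.ι ≫ gb)
    (M : X₁.Opens) [QuasiCompact (M.ι ≫ gb)] (hoM : Set.range o ⊆ (M : Set X₁))
    (hMV : ∀ x ∈ M, x ∈ V → x ∈ Set.range o) :
    ∃ (Z : Scheme.{u}) (a : X ⟶ Z) (b : (M : Scheme.{u}) ⟶ Z) (p : Z ⟶ S) (oM : (U : Scheme.{u}) ⟶ M),
      IsOpenImmersion a ∧ IsOpenImmersion b ∧ oM ≫ M.ι = o ∧ U.ι ≫ a = oM ≫ b ∧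
      a ≫ p = g ∧ b ≫ p = M.ι ≫ gb ∧ IsSeparated p ∧ LocallyOfFiniteType p ∧ QuasiCompact p := by
  let oM := IsOpenImmersion.lift M.ι o (by rwa [Scheme.Opens.range_ι])
  have hoM' : oM ≫ M.ι = o := IsOpenImmersion.lift_fac _ _ _
  haveI : IsOpenImmersion (oM ≫ M.ι) := by rw [hoM']; infer_instance
  haveI : IsOpenImmersion oM := IsOpenImmersion.of_comp oM M.ι
  have hcomm : U.ι ≫ g = oM ≫ M.ι ≫ gb := by
    rw [reassoc_of% hoM', ← hlq, ← hl, Category.assoc, Category.assoc, hq]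
  let ν : pullback g (M.ι ≫ gb) ⟶ pullback g gb :=
    pullback.map g (M.ι ≫ gb) g gb (𝟙 _) M.ι (𝟙 _) (by simp) (by simp)
  let G : (V : Scheme.{u}) ⟶ pullback g gb := pullback.lift q V.ι hq
  haveI : IsProper (G ≫ pullback.fst g gb) := by rw [pullback.lift_fst]; infer_instance
  haveI : IsProper G := IsProper.of_comp G (pullback.fst g gb)
  have hν : pullback.lift U.ι oM hcomm ≫ ν = l ≫ G := by
    apply pullback.hom_ext <;>
      simp only [ν, G, Category.assoc, pullback.lift_fst, pullback.lift_snd, pullback.lift_fst_assoc,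
        pullback.lift_snd_assoc, Category.comp_id, hlq, hl, hoM']
  have hrange : Set.range (pullback.lift U.ι oM hcomm) = ν ⁻¹' Set.range G := by
    refine Set.Subset.antisymm ?_ fun w ⟨v, hv⟩ => ?_
    · rintro _ ⟨x, rfl⟩
      exact ⟨l x, by rw [← Scheme.Hom.comp_apply, ← hν]; rfl⟩
    · have h2 : V.ι v = M.ι (pullback.snd g (M.ι ≫ gb) w) := by
        have h := congrArg (pullback.snd g gb) hv
        simp only [ν, G, ← Scheme.Hom.comp_apply, pullback.lift_snd] at h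
        exact h
      obtain ⟨x, hx⟩ := hMV (M.ι (pullback.snd g (M.ι ≫ gb) w)) (pullback.snd g (M.ι ≫ gb) w).2
        (h2 ▸ v.2)
      have hv' : v = l x := V.ι.isOpenEmbedding.injective (by rw [← Scheme.Hom.comp_apply, hl, hx, h2])
      refine ⟨x, ν.isOpenEmbedding.injective ?_⟩
      rw [← hv, hv', ← Scheme.Hom.comp_apply, hν]
      rfl
  obtain ⟨Z, a, b, p, ha, hb, hab, hap, hbp, hsep, hlft, hqc, -, -⟩ :=
    exists_glue_separated U.ι oM g (M.ι ≫ gb) hcomm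
      (hrange ▸ G.isClosedMap.isClosed_range.preimage ν.continuous)
  exact ⟨Z, a, b, p, oM, ha, hb, hoM', hab, hap, hbp, hsep, hlft, hqc⟩

/-- A closed subscheme of a separated scheme covered by the image of a proper scheme is proper. -/
theorem isProper_of_surjects {S Z W C : Scheme.{u}} (q : Z ⟶ S) [IsSeparated q] [LocallyOfFiniteType q]
    (gW : W ⟶ S) [IsProper gW] (h : W ⟶ Z) (hh : h ≫ q = gW) (i : C ⟶ Z) [IsClosedImmersion i]
    (hC : Set.range i ⊆ Set.range h) : IsProper (i ≫ q) := by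
  haveI : Surjective (pullback.snd h i) := ⟨fun c => by
    obtain ⟨w, hw⟩ := hC ⟨c, rfl⟩
    obtain ⟨y, -, hy⟩ := Scheme.Pullback.exists_preimage_pullback (f := h) (g := i) w c hw
    exact ⟨y, hy⟩⟩
  haveI : UniversallyClosed (pullback.snd h i ≫ i ≫ q) := by
    rw [← pullback.condition_assoc, hh]; infer_instance
  haveI : UniversallyClosed (i ≫ q) := UniversallyClosed.of_comp_surjective (pullback.snd h i) (i ≫ q)
  exact ⟨⟩

/-- Two boundaries which never occur simultaneously on the closure of the common open stay so after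
taking closures, after admissible blow-ups. -/
theorem exists_separate_two {S X₁ X₂ D : Scheme.{u}} [IsNoetherian S] (gb₁ : X₁ ⟶ S) (gb₂ : X₂ ⟶ S)
    [IsProper gb₁] [IsProper gb₂]
    (V₁ : X₁.Opens) (V₂ : X₂.Opens) (Z₁ : Set X₁) (hZ₁ : IsClosed Z₁) (Z₂ : Set X₂) (hZ₂ : IsClosed Z₂)
    (d₁ : D ⟶ X₁) (d₂ : D ⟶ X₂) (hd₁ : Set.range d₁ ⊆ (V₁ : Set X₁)) (hd₂ : Set.range d₂ ⊆ (V₂ : Set X₂))
    (hd : d₁ ≫ gb₁ = d₂ ≫ gb₂)
    (hV : ∀ z ∈ closure (Set.range (pullback.lift d₁ d₂ hd)),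
      pullback.snd gb₁ gb₂ z ∈ V₂ → pullback.fst gb₁ gb₂ z ∈ V₁)
    (hV' : ∀ z ∈ closure (Set.range (pullback.lift d₁ d₂ hd)),
      pullback.fst gb₁ gb₂ z ∈ V₁ → pullback.snd gb₁ gb₂ z ∈ V₂)
    (hY : ∀ z ∈ closure (Set.range (pullback.lift d₁ d₂ hd)),
      pullback.fst gb₁ gb₂ z ∈ Z₁ → pullback.fst gb₁ gb₂ z ∈ V₁ →
      pullback.snd gb₁ gb₂ z ∈ Z₂ → pullback.snd gb₁ gb₂ z ∈ V₂ → False) :
    ∃ (E₁ : X₁.IdealSheafData) (E₂ : X₂.IdealSheafData) (X₁' X₂' : Scheme.{u}) (c₁ : X₁' ⟶ X₁)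
      (c₂ : X₂' ⟶ X₂) (d₁' : D ⟶ X₁') (d₂' : D ⟶ X₂') (hd' : d₁' ≫ c₁ ≫ gb₁ = d₂' ≫ c₂ ≫ gb₂),
      BlowUp.IsBlowUp c₁ E₁ ∧ BlowUp.IsAdmissibleFor V₁ E₁ ∧
      BlowUp.IsBlowUp c₂ E₂ ∧ BlowUp.IsAdmissibleFor V₂ E₂ ∧ d₁' ≫ c₁ = d₁ ∧ d₂' ≫ c₂ = d₂ ∧
      ∀ z ∈ closure (Set.range (pullback.lift d₁' d₂' hd')),
        pullback.fst (c₁ ≫ gb₁) (c₂ ≫ gb₂) z ∈ closure (c₁ ⁻¹' (Z₁ ∩ (V₁ : Set X₁))) →
        pullback.snd (c₁ ≫ gb₁) (c₂ ≫ gb₂) z ∈ closure (c₂ ⁻¹' (Z₂ ∩ (V₂ : Set X₂))) → False := by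
  haveI : CompactSpace X₁ := QuasiCompact.compactSpace_of_compactSpace gb₁
  haveI : CompactSpace X₂ := QuasiCompact.compactSpace_of_compactSpace gb₂
  haveI : IsLocallyNoetherian X₁ := LocallyOfFiniteType.isLocallyNoetherian gb₁
  haveI : IsLocallyNoetherian X₂ := LocallyOfFiniteType.isLocallyNoetherian gb₂
  haveI : IsNoetherian X₁ := {}
  haveI : IsNoetherian X₂ := {}
  haveI : CompactSpace (pullback gb₁ gb₂ : Scheme.{u}) :=
    QuasiCompact.compactSpace_of_compactSpace (pullback.fst gb₁ gb₂)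
  haveI : IsLocallyNoetherian (pullback gb₁ gb₂) :=
    LocallyOfFiniteType.isLocallyNoetherian (pullback.fst gb₁ gb₂)
  haveI : IsNoetherian (pullback gb₁ gb₂) := {}
  set σ := pullback.lift d₁ d₂ hd with hσ
  have hσ₁ : σ ≫ pullback.fst gb₁ gb₂ = d₁ := pullback.lift_fst _ _ _
  have hσ₂ : σ ≫ pullback.snd gb₁ gb₂ = d₂ := pullback.lift_snd _ _ _
  set T := closure (Set.range σ) ∩ pullback.fst gb₁ gb₂ ⁻¹' (Z₁ ∩ (V₁ : Set X₁)) with hT
  obtain ⟨E₂, hE₂, h₂⟩ := exists_separating_blowUp (pullback.snd gb₁ gb₂) V₂ (NoetherianSpace.isCompact _)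
    Z₂ hZ₂ (NoetherianSpace.isCompact _) (closure T) isClosed_closure ∅ isClosed_empty (fun z hz h2Z h2V => by
      have hzσ : z ∈ closure (Set.range σ) := closure_minimal (fun _ h => h.1) isClosed_closure hz
      have hzZ : pullback.fst gb₁ gb₂ z ∈ Z₁ :=
        closure_minimal (fun _ h => h.2.1) (hZ₁.preimage (pullback.fst gb₁ gb₂).continuous) hz
      exact (hY z hzσ hzZ (hV z hzσ h2V) h2Z h2V).elim)
  obtain ⟨X₂', c₂, hc₂⟩ := exists_isBlowUp (I := E₂)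
  haveI : IsProper c₂ := isProper_of_isBlowUp hc₂ hE₂.1
  obtain ⟨d₂', hd₂', -⟩ := exists_lift_of_isIso c₂ V₂ (ProjLib.isIso_morphismRestrict hc₂ V₂ hE₂.2) d₂ hd₂
  have hdm : d₁ ≫ gb₁ = d₂' ≫ c₂ ≫ gb₂ := by rw [reassoc_of% hd₂', hd]
  haveI : CompactSpace (pullback gb₁ (c₂ ≫ gb₂) : Scheme.{u}) :=
    QuasiCompact.compactSpace_of_compactSpace (pullback.fst gb₁ (c₂ ≫ gb₂))
  haveI : IsLocallyNoetherian (pullback gb₁ (c₂ ≫ gb₂)) :=
    LocallyOfFiniteType.isLocallyNoetherian (pullback.fst gb₁ (c₂ ≫ gb₂))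
  haveI : IsNoetherian (pullback gb₁ (c₂ ≫ gb₂)) := {}
  let μ : pullback gb₁ (c₂ ≫ gb₂) ⟶ pullback gb₁ gb₂ :=
    pullback.lift (pullback.fst _ _) (pullback.snd _ _ ≫ c₂) (by rw [Category.assoc, pullback.condition])
  have hμ₁ : μ ≫ pullback.fst gb₁ gb₂ = pullback.fst gb₁ (c₂ ≫ gb₂) := pullback.lift_fst _ _ _
  have hμ₂ : μ ≫ pullback.snd gb₁ gb₂ = pullback.snd gb₁ (c₂ ≫ gb₂) ≫ c₂ := pullback.lift_snd _ _ _
  set σ' := pullback.lift d₁ d₂' hdm with hσ'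
  have hσμ : σ' ≫ μ = σ := by
    apply pullback.hom_ext
    · rw [Category.assoc, hμ₁, hσ₁, hσ', pullback.lift_fst]
    · rw [Category.assoc, hμ₂, hσ₂, hσ', pullback.lift_snd_assoc, hd₂']
  set A' := closure (Set.range σ') with hA'
  set B := closure (μ ⁻¹' (closure T ∩ pullback.snd gb₁ gb₂ ⁻¹' (V₂ : Set X₂))) with hB
  obtain ⟨E₁, hE₁, h₁⟩ := exists_separating_blowUp (pullback.fst gb₁ (c₂ ≫ gb₂)) V₁
    (NoetherianSpace.isCompact _) Z₁ hZ₁ (NoetherianSpace.isCompact _) A' isClosed_closure B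
    isClosed_closure (fun z hz h1Z h1V => by
      have hzσ : μ z ∈ closure (Set.range σ) := by
        refine closure_mono ?_ (image_closure_subset_closure_image μ.continuous ⟨z, hz, rfl⟩)
        rintro _ ⟨_, ⟨x, rfl⟩, rfl⟩
        exact ⟨x, by rw [← hσμ]; rfl⟩
      have e : pullback.fst gb₁ gb₂ (μ z) = pullback.fst gb₁ (c₂ ≫ gb₂) z := by
        rw [← Scheme.Hom.comp_apply, hμ₁]
      refine subset_closure ⟨subset_closure ⟨hzσ, ?_⟩, hV' _ hzσ ?_⟩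
      · exact ⟨show _ ∈ Z₁ by rw [e]; exact h1Z, show _ ∈ V₁ by rw [e]; exact h1V⟩
      · show pullback.fst gb₁ gb₂ (μ z) ∈ V₁
        rw [e]; exact h1V)
  obtain ⟨X₁', c₁, hc₁⟩ := exists_isBlowUp (I := E₁)
  haveI : IsProper c₁ := isProper_of_isBlowUp hc₁ hE₁.1
  obtain ⟨d₁', hd₁', -⟩ := exists_lift_of_isIso c₁ V₁ (ProjLib.isIso_morphismRestrict hc₁ V₁ hE₁.2) d₁ hd₁
  have hd' : d₁' ≫ c₁ ≫ gb₁ = d₂' ≫ c₂ ≫ gb₂ := by rw [reassoc_of% hd₁', hdm]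
  refine ⟨E₁, E₂, X₁', X₂', c₁, c₂, d₁', d₂', hd', hc₁, hE₁, hc₂, hE₂, hd₁', hd₂', fun z hz hz₁ hz₂ => ?_⟩
  let μ' : pullback (c₁ ≫ gb₁) (c₂ ≫ gb₂) ⟶ pullback gb₁ (c₂ ≫ gb₂) :=
    pullback.lift (pullback.fst _ _ ≫ c₁) (pullback.snd _ _) (by rw [Category.assoc, pullback.condition])
  have hμ'₁ : μ' ≫ pullback.fst gb₁ (c₂ ≫ gb₂) = pullback.fst (c₁ ≫ gb₁) (c₂ ≫ gb₂) ≫ c₁ :=
    pullback.lift_fst _ _ _
  have hσμ' : pullback.lift d₁' d₂' hd' ≫ μ' = σ' := by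
    apply pullback.hom_ext
    · rw [Category.assoc, hμ'₁, pullback.lift_fst_assoc, hd₁', hσ', pullback.lift_fst]
    · rw [Category.assoc, pullback.lift_snd, pullback.lift_snd, hσ', pullback.lift_snd]
  have hzB : μ' z ∈ B := by
    refine h₁ X₁' c₁ hc₁ _ μ' (pullback.fst (c₁ ≫ gb₁) (c₂ ≫ gb₂)) hμ'₁ z (closure_mono ?_ hz) hz₁
    rintro _ ⟨x, rfl⟩
    have e : μ' (pullback.lift d₁' d₂' hd' x) = σ' x := by rw [← Scheme.Hom.comp_apply, hσμ']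
    refine ⟨subset_closure ⟨x, e.symm⟩, ?_⟩
    show pullback.fst gb₁ (c₂ ≫ gb₂) (μ' (pullback.lift d₁' d₂' hd' x)) ∈ V₁
    rw [e, hσ', ← Scheme.Hom.comp_apply, pullback.lift_fst]
    exact hd₁ ⟨x, rfl⟩
  have e₂ : pullback.snd gb₁ (c₂ ≫ gb₂) (μ' z) = pullback.snd (c₁ ≫ gb₁) (c₂ ≫ gb₂) z := by
    rw [← Scheme.Hom.comp_apply, pullback.lift_snd]
  exact h₂ X₂' c₂ hc₂ _ μ (pullback.snd gb₁ (c₂ ≫ gb₂)) hμ₂ (μ' z) hzB (e₂ ▸ hz₂)

/-- Two morphisms on an open cover by two opens agreeing on the intersection glue. -/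
theorem exists_glue_morphisms {W Z : Scheme.{u}} (A B : W.Opens) (hAB : A ⊔ B = ⊤)
    (f : (A : Scheme.{u}) ⟶ Z) (f' : (B : Scheme.{u}) ⟶ Z)
    (h : W.homOfLE (inf_le_left : A ⊓ B ≤ A) ≫ f = W.homOfLE (inf_le_right : A ⊓ B ≤ B) ≫ f') :
    ∃ φ : W ⟶ Z, A.ι ≫ φ = f ∧ B.ι ≫ φ = f' := by
  let a : ∀ i : Bool, ((cond i A B : W.Opens) : Scheme.{u}) ⟶ Z := fun i =>
    match i with
    | true => f
    | false => f'
  let 𝒰 : W.OpenCover := W.openCoverOfIsOpenCover (fun i : Bool => cond i A B) (by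
    show (⨆ i : Bool, cond i A B) = ⊤
    rw [iSup_bool_eq]
    exact hAB)
  have hc : ∀ i j, pullback.fst (𝒰.f i) (𝒰.f j) ≫ a i = pullback.snd (𝒰.f i) (𝒰.f j) ≫ a j := by
    have diag : ∀ (i : Bool), pullback.fst (𝒰.f i) (𝒰.f i) = pullback.snd (𝒰.f i) (𝒰.f i) := fun i => by
      rw [← cancel_mono (𝒰.f i)]; exact pullback.condition
    have cross : pullback.fst A.ι B.ι ≫ f = pullback.snd A.ι B.ι ≫ f' := by
      let t := IsOpenImmersion.lift (A ⊓ B).ι (pullback.fst A.ι B.ι ≫ A.ι) (by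
        rw [Scheme.Opens.range_ι]
        rintro _ ⟨x, rfl⟩
        refine ⟨?_, ?_⟩
        · exact (pullback.fst A.ι B.ι x).2
        · rw [pullback.condition]
          exact (pullback.snd A.ι B.ι x).2)
      have ht : t ≫ (A ⊓ B).ι = pullback.fst A.ι B.ι ≫ A.ι := IsOpenImmersion.lift_fac _ _ _
      have h₁ : pullback.fst A.ι B.ι = t ≫ W.homOfLE inf_le_left := by
        rw [← cancel_mono A.ι, Category.assoc, Scheme.homOfLE_ι, ht]
      have h₂ : pullback.snd A.ι B.ι = t ≫ W.homOfLE inf_le_right := by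
        rw [← cancel_mono B.ι, Category.assoc, Scheme.homOfLE_ι, ht, pullback.condition]
      rw [h₁, h₂, Category.assoc, Category.assoc, h]
    rintro (_ | _) (_ | _)
    · rw [diag]
    · show pullback.fst B.ι A.ι ≫ f' = pullback.snd B.ι A.ι ≫ f
      rw [← cancel_epi (pullbackSymmetry A.ι B.ι).hom]
      simp only [pullbackSymmetry_hom_comp_fst_assoc, pullbackSymmetry_hom_comp_snd_assoc]
      exact cross.symm
    · exact cross
    · rw [diag]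
  exact ⟨𝒰.glueMorphisms a hc, 𝒰.ι_glueMorphisms a hc true, 𝒰.ι_glueMorphisms a hc false⟩

/-- Extend the blow-up of a glued chart to the proper scheme containing it. -/
theorem exists_chart {S Z X P P' Xb D : Scheme.{u}} [CompactSpace S] [QuasiSeparatedSpace S]
    [CompactSpace D] (gb : Xb ⟶ S) [IsProper gb]
    (M : Xb.Opens) [CompactSpace (M : Scheme.{u})] (m : (M : Scheme.{u}) ⟶ P) [IsOpenImmersion m]
    (p : P ⟶ S) (hm : m ≫ p = M.ι ≫ gb) (a : X ⟶ P) [IsOpenImmersion a]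
    (I : P.IdealSheafData) (bl : P' ⟶ P) (hbl : BlowUp.IsBlowUp bl I)
    (hI : BlowUp.IsAdmissibleFor a.opensRange I) (u : X ⟶ P') (hu : u ≫ bl = a)
    (o : P' ⟶ Z) (q : Z ⟶ S) (ho : o ≫ q = bl ≫ p)
    (k : D ⟶ X) (dM : D ⟶ M) [IsOpenImmersion dM] (hk : dM ≫ m = k ≫ a) :
    ∃ (Xb' : Scheme.{u}) (δ : Xb' ⟶ Xb) (_ : IsProper δ) (d : D ⟶ Xb')
      (l : D ⟶ (δ ⁻¹ᵁ M : Xb'.Opens)) (h : ((δ ⁻¹ᵁ M : Xb'.Opens) : Scheme.{u}) ⟶ Z),
      d ≫ δ = dM ≫ M.ι ∧ l ≫ (δ ⁻¹ᵁ M).ι = d ∧ h ≫ q = (δ ⁻¹ᵁ M).ι ≫ δ ≫ gb ∧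
      l ≫ h = k ≫ u ≫ o := by
  haveI : CompactSpace Xb := QuasiCompact.compactSpace_of_compactSpace gb
  haveI : QuasiSeparatedSpace Xb := quasiSeparatedSpace_of_quasiSeparated gb
  have hRc : IsCompact ((dM ≫ M.ι).opensRange : Set Xb) := isCompact_range (dM ≫ M.ι).continuous
  have hadm : BlowUp.IsAdmissibleFor (M.ι ⁻¹ᵁ (dM ≫ M.ι).opensRange) (I.comap m) := by
    refine ⟨isFiniteType_comap m I hI.1, Set.disjoint_left.2 fun x hx hxR => ?_⟩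
    rw [Scheme.IdealSheafData.support_comap] at hx
    obtain ⟨t, ht⟩ := hxR
    have e : dM t = x := M.ι.isOpenEmbedding.injective ht
    refine Set.disjoint_left.1 hI.2 hx ?_
    show m x ∈ Set.range a
    rw [← e, ← Scheme.Hom.comp_apply, hk]
    exact ⟨k t, rfl⟩
  obtain ⟨J, hJ, hJM⟩ := exists_extend_admissible M.ι _ hRc (I.comap m) hadm
  obtain ⟨Xb', δ, hδ⟩ := exists_isBlowUp (I := J)
  haveI : IsProper δ := isProper_of_isBlowUp hδ hJ.1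
  obtain ⟨φ, hφ⟩ := exists_iso_of_isBlowUp (hJM ▸ SDiv28.isBlowUp_flat_baseChange hδ M.ι)
    (SDiv28.isBlowUp_flat_baseChange hbl m)
  obtain ⟨d, hd, -⟩ := exists_lift_of_isIso δ _ (ProjLib.isIso_morphismRestrict hδ _ hJ.2) (dM ≫ M.ι)
    le_rfl
  let l := IsOpenImmersion.lift (δ ⁻¹ᵁ M).ι d (by
    rw [Scheme.Opens.range_ι]
    rintro _ ⟨x, rfl⟩
    show δ (d x) ∈ M
    rw [← Scheme.Hom.comp_apply, hd]
    exact (dM x).2)
  have hl : l ≫ (δ ⁻¹ᵁ M).ι = d := IsOpenImmersion.lift_fac _ _ _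
  let e : ((δ ⁻¹ᵁ M : Xb'.Opens) : Scheme.{u}) ⟶ P' :=
    pullback.lift (δ ∣_ M) (δ ⁻¹ᵁ M).ι (morphismRestrict_ι δ M) ≫ φ.hom ≫ pullback.snd m bl
  have he : e ≫ bl = (δ ∣_ M) ≫ m := by
    simp only [e, Category.assoc]
    rw [← pullback.condition, reassoc_of% hφ, pullback.lift_fst_assoc]
  refine ⟨Xb', δ, inferInstance, d, l, e ≫ o, hd, hl, ?_, ?_⟩
  · rw [Category.assoc, ho, reassoc_of% he, hm, morphismRestrict_ι_assoc]
  · have h1 : l ≫ (δ ∣_ M) = dM := by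
      rw [← cancel_mono M.ι, Category.assoc, morphismRestrict_ι, reassoc_of% hl, hd]
    have h2 : l ≫ e = k ≫ u := by
      refine eq_of_isIso_restrict bl a.opensRange (ProjLib.isIso_morphismRestrict hbl _ hI.2) ?_ ?_
      · rw [Category.assoc, he, reassoc_of% h1, hk, Category.assoc, hu]
      · rw [Category.assoc, he, reassoc_of% h1, hk]
        rintro _ ⟨x, rfl⟩
        exact ⟨k x, rfl⟩
    rw [reassoc_of% h2]

/-- A scheme which is the union of two compactifiable opens with dense intersection has a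
compactification. -/
theorem exists_compactification_of_two {S X Y₁ Y₂ : Scheme.{u}} [IsNoetherian S] (g : X ⟶ S)
    [IsSeparated g] [LocallyOfFiniteType g] [QuasiCompact g]
    (U₁ U₂ : X.Opens) (hcov : U₁ ⊔ U₂ = ⊤) (hdense : Dense ((U₁ ⊓ U₂ : X.Opens) : Set X))
    (j₁ : (U₁ : Scheme.{u}) ⟶ Y₁) [IsOpenImmersion j₁] (g₁ : Y₁ ⟶ S) [IsProper g₁] (hj₁ : j₁ ≫ g₁ = U₁.ι ≫ g)
    (j₂ : (U₂ : Scheme.{u}) ⟶ Y₂) [IsOpenImmersion j₂] (g₂ : Y₂ ⟶ S) [IsProper g₂] (hj₂ : j₂ ≫ g₂ = U₂.ι ≫ g) :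
    ∃ (Y : Scheme.{u}) (j : X ⟶ Y) (p : Y ⟶ S), IsOpenImmersion j ∧ QuasiCompact j ∧ IsProper p ∧ j ≫ p = g := by
  classical
  haveI : CompactSpace X := QuasiCompact.compactSpace_of_compactSpace g
  haveI : IsLocallyNoetherian X := LocallyOfFiniteType.isLocallyNoetherian g
  haveI : IsNoetherian X := {}
  have hcU : ∀ U : X.Opens, CompactSpace (U : Scheme.{u}) := fun U =>
    isCompact_iff_compactSpace.1 (NoetherianSpace.isCompact _)
  haveI := hcU U₁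
  haveI := hcU U₂
  haveI := hcU (U₁ ⊓ U₂)
  obtain ⟨B₁, gb₁, hgb₁, o₁, ho₁, V₁, -, l₁, q₁, hog₁, hl₁, hq₁, hlq₁, hqg₁, hpre₁⟩ :=
    exists_prepare g U₁ j₁ g₁ hj₁
  obtain ⟨B₂, gb₂, hgb₂, o₂, ho₂, V₂, -, l₂, q₂, hog₂, hl₂, hq₂, hlq₂, hqg₂, hpre₂⟩ :=
    exists_prepare g U₂ j₂ g₂ hj₂
  set i₁ := X.homOfLE (inf_le_left : U₁ ⊓ U₂ ≤ U₁) with hi₁
  set i₂ := X.homOfLE (inf_le_right : U₁ ⊓ U₂ ≤ U₂) with hi₂
  have hιι₁ : i₁ ≫ U₁.ι = (U₁ ⊓ U₂).ι := Scheme.homOfLE_ι _ _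
  have hιι₂ : i₂ ≫ U₂.ι = (U₁ ⊓ U₂).ι := Scheme.homOfLE_ι _ _
  have hd : (i₁ ≫ o₁) ≫ gb₁ = (i₂ ≫ o₂) ≫ gb₂ := by
    rw [Category.assoc, Category.assoc, hog₁, hog₂, reassoc_of% hιι₁, reassoc_of% hιι₂]
  have hqd : (i₁ ≫ l₁) ≫ q₁ = (i₂ ≫ l₂) ≫ q₂ := by
    rw [Category.assoc, Category.assoc, hlq₁, hlq₂, hιι₁, hιι₂]
  have hsec₁ : ∀ x, o₁ x ∈ (V₁ : Set B₁) := fun x => by rw [← hl₁]; exact (l₁ x).2
  have hsec₂ : ∀ x, o₂ x ∈ (V₂ : Set B₂) := fun x => by rw [← hl₂]; exact (l₂ x).2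
  set σ := pullback.lift (i₁ ≫ o₁) (i₂ ≫ o₂) hd with hσ
  have F₂ : ∀ z ∈ closure (Set.range σ), pullback.snd gb₁ gb₂ z ∈ V₂ →
      ∃ v₁ v₂, V₁.ι v₁ = pullback.fst gb₁ gb₂ z ∧ V₂.ι v₂ = pullback.snd gb₁ gb₂ z ∧ q₁ v₁ = q₂ v₂ :=
    exists_eq_of_mem_closure g gb₁ gb₂ V₁ q₁ hqg₁ V₂ q₂ hqg₂ _ _ pullback.condition σ (i₁ ≫ l₁)
      (i₂ ≫ l₂) (by rw [Category.assoc, hl₁, hσ, pullback.lift_fst])
      (by rw [Category.assoc, hl₂, hσ, pullback.lift_snd]) hqd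
  have F₁ : ∀ z ∈ closure (Set.range σ), pullback.fst gb₁ gb₂ z ∈ V₁ →
      ∃ v₂ v₁, V₂.ι v₂ = pullback.snd gb₁ gb₂ z ∧ V₁.ι v₁ = pullback.fst gb₁ gb₂ z ∧ q₂ v₂ = q₁ v₁ :=
    exists_eq_of_mem_closure g gb₂ gb₁ V₂ q₂ hqg₂ V₁ q₁ hqg₁ _ _ pullback.condition.symm σ (i₂ ≫ l₂)
      (i₁ ≫ l₁) (by rw [Category.assoc, hl₂, hσ, pullback.lift_snd])
      (by rw [Category.assoc, hl₁, hσ, pullback.lift_fst]) hqd.symm
  obtain ⟨E₁, E₂, B₁', B₂', c₁, c₂, d₁', d₂', hd', hc₁, hE₁, hc₂, hE₂, hd₁', hd₂', hsep⟩ :=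
    exists_separate_two gb₁ gb₂ V₁ V₂ (Set.range o₁)ᶜ o₁.opensRange.2.isClosed_compl (Set.range o₂)ᶜ
      o₂.opensRange.2.isClosed_compl (i₁ ≫ o₁) (i₂ ≫ o₂)
      (by rintro _ ⟨x, rfl⟩; exact hsec₁ (i₁ x)) (by rintro _ ⟨x, rfl⟩; exact hsec₂ (i₂ x)) hd
      (fun z hz h => by obtain ⟨v₁, v₂, e, -, -⟩ := F₂ z hz h; rw [← e]; exact v₁.2)
      (fun z hz h => by obtain ⟨v₂, v₁, e, -, -⟩ := F₁ z hz h; rw [← e]; exact v₂.2)
      (fun z hz h₁ _ h₂ h₂' => by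
        obtain ⟨v₁, v₂, e₁, e₂, e⟩ := F₂ z hz h₂'
        have : q₁ v₁ ∈ U₁ ⊔ U₂ := hcov ▸ trivial
        rcases this with hU | hU
        · exact h₁ (e₁ ▸ hpre₁ v₁ hU)
        · exact h₂ (e₂ ▸ hpre₂ v₂ (e ▸ hU)))
  haveI : IsProper c₁ := isProper_of_isBlowUp hc₁ hE₁.1
  haveI : IsProper c₂ := isProper_of_isBlowUp hc₂ hE₂.1
  -- the two glued schemes
  have step : ∀ {B B' : Scheme.{u}} (gb : B ⟶ S) (_ : IsProper gb) (U : X.Opens)
      (o : (U : Scheme.{u}) ⟶ B) (_ : IsOpenImmersion o) (V : B.Opens) (l : (U : Scheme.{u}) ⟶ V)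
      (q : (V : Scheme.{u}) ⟶ X) (_ : IsProper q) (_ : l ≫ V.ι = o) (_ : l ≫ q = U.ι)
      (_ : q ≫ g = V.ι ≫ gb) (E : B.IdealSheafData) (c : B' ⟶ B) (_ : BlowUp.IsBlowUp c E)
      (_ : BlowUp.IsAdmissibleFor V E),
      ∃ (M : B'.Opens) (P : Scheme.{u}) (a : X ⟶ P) (m : (M : Scheme.{u}) ⟶ P) (p : P ⟶ S)
        (o' : (U : Scheme.{u}) ⟶ B') (oM : (U : Scheme.{u}) ⟶ M),
        (M : Set B') = (closure (c ⁻¹' ((Set.range o)ᶜ ∩ (V : Set B))))ᶜ ∧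
        IsOpenImmersion a ∧ IsOpenImmersion m ∧ IsOpenImmersion oM ∧ CompactSpace (M : Scheme.{u}) ∧
        o' ≫ c = o ∧ oM ≫ M.ι = o' ∧ U.ι ≫ a = oM ≫ m ∧ a ≫ p = g ∧ m ≫ p = M.ι ≫ c ≫ gb ∧
        IsSeparated p ∧ LocallyOfFiniteType p ∧ QuasiCompact p := by
    intro B B' gb _ U o _ V l q _ hl hlq hqg E c hc hE
    haveI : IsProper c := isProper_of_isBlowUp hc hE.1
    have hiso := ProjLib.isIso_morphismRestrict hc V hE.2
    obtain ⟨o', ho', ho''⟩ := exists_lift_of_isIso c V hiso o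
      (by rintro _ ⟨x, rfl⟩; rw [← hl]; exact (l x).2)
    haveI : IsOpenImmersion o' := ho'' inferInstance
    let M : B'.Opens := ⟨(closure (c ⁻¹' ((Set.range o)ᶜ ∩ (V : Set B))))ᶜ, isClosed_closure.isOpen_compl⟩
    let l' := IsOpenImmersion.lift (c ⁻¹ᵁ V).ι o' (by
      rw [Scheme.Opens.range_ι]
      rintro _ ⟨x, rfl⟩
      show c (o' x) ∈ V
      rw [← Scheme.Hom.comp_apply, ho', ← hl]; exact (l x).2)
    have hl' : l' ≫ (c ⁻¹ᵁ V).ι = o' := IsOpenImmersion.lift_fac _ _ _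
    have hl'' : l' ≫ (c ∣_ V) = l := by
      rw [← cancel_mono V.ι, Category.assoc, morphismRestrict_ι, reassoc_of% hl', ho', hl]
    haveI := hiso
    haveI : IsProper (c ≫ gb) := inferInstance
    haveI : CompactSpace B' := QuasiCompact.compactSpace_of_compactSpace (c ≫ gb)
    haveI : IsLocallyNoetherian B' := LocallyOfFiniteType.isLocallyNoetherian (c ≫ gb)
    haveI : IsNoetherian B' := {}
    haveI : CompactSpace (M : Scheme.{u}) := isCompact_iff_compactSpace.1 (NoetherianSpace.isCompact _)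
    haveI : QuasiCompact (M.ι ≫ c ≫ gb) := quasiCompact_of_compactSpace _
    have hoM : Set.range o' ⊆ (M : Set B') := by
      intro x hx hcl
      obtain ⟨_, ⟨t, rfl⟩, hy⟩ := mem_closure_iff.1 hcl (Set.range o') o'.opensRange.2 hx
      exact hy.1 ⟨t, by rw [← Scheme.Hom.comp_apply, ho']⟩
    have hMV : ∀ x ∈ M, x ∈ c ⁻¹ᵁ V → x ∈ Set.range o' := by
      intro x hx hxV
      obtain ⟨t, ht⟩ : c x ∈ Set.range o := not_not.1 fun h => hx (subset_closure ⟨h, hxV⟩)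
      refine ⟨t, ?_⟩
      have h1 : o' t ∈ c ⁻¹ᵁ V := by
        show c (o' t) ∈ V
        rw [← Scheme.Hom.comp_apply, ho', ← hl]; exact (l t).2
      have := (c ∣_ V).isOpenEmbedding.injective (a₁ := ⟨o' t, h1⟩) (a₂ := ⟨x, hxV⟩) (Subtype.ext (by
        simp only [morphismRestrict_base_coe]
        rw [← Scheme.Hom.comp_apply, ho', ht]))
      exact congrArg Subtype.val this
    obtain ⟨P, a, m, p, oM, ha, hm, hoM', hUa, hap, hmp, h1, h2, h3⟩ :=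
      exists_glue_away g (c ≫ gb) U o' (c ⁻¹ᵁ V) l' ((c ∣_ V) ≫ q) hl'
        (by rw [reassoc_of% hl'', hlq]) (by rw [Category.assoc, hqg, morphismRestrict_ι_assoc])
        M hoM hMV
    haveI : IsOpenImmersion (oM ≫ M.ι) := by rw [hoM']; infer_instance
    exact ⟨M, P, a, m, p, o', oM, rfl, ha, hm, IsOpenImmersion.of_comp oM M.ι, inferInstance, ho',
      hoM', hUa, hap, hmp, h1, h2, h3⟩
  obtain ⟨M₁, P₁, a₁, m₁, p₁, o₁', oM₁, hM₁, ha₁, hm₁, hoM₁, hMc₁, hoc₁, hoMι₁, hUa₁, hap₁, hmp₁, hps₁, hpl₁, hpq₁⟩ :=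
    step gb₁ hgb₁ U₁ o₁ ho₁ V₁ l₁ q₁ hq₁ hl₁ hlq₁ hqg₁ E₁ c₁ hc₁ hE₁
  obtain ⟨M₂, P₂, a₂, m₂, p₂, o₂', oM₂, hM₂, ha₂, hm₂, hoM₂, hMc₂, hoc₂, hoMι₂, hUa₂, hap₂, hmp₂, hps₂, hpl₂, hpq₂⟩ :=
    step gb₂ hgb₂ U₂ o₂ ho₂ V₂ l₂ q₂ hq₂ hl₂ hlq₂ hqg₂ E₂ c₂ hc₂ hE₂
  obtain ⟨Z, q, hqs, hql, hqc, I₁, I₂, P₁', P₂', bl₁, bl₂, z₁, z₂, u₁, u₂, hbl₁, hI₁, hbl₂, hI₂, hz₁, hz₂,
      hzq₁, hzq₂, hub₁, hub₂, huz, hu₁, hu₂, -⟩ :=
    exists_common_target p₁ p₂ a₁ a₂ (hap₁.trans hap₂.symm)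
  obtain ⟨C₁, δ₁, hδ₁, e₁, le₁, h₁, heδ₁, hle₁, hhq₁, hlh₁⟩ :=
    exists_chart (c₁ ≫ gb₁) M₁ m₁ p₁ hmp₁ a₁ I₁ bl₁ hbl₁ hI₁ u₁ hub₁ z₁ q hzq₁ (U₁ ⊓ U₂).ι (i₁ ≫ oM₁)
      (by rw [Category.assoc, ← hUa₁, reassoc_of% hιι₁])
  obtain ⟨C₂, δ₂, hδ₂, e₂, le₂, h₂, heδ₂, hle₂, hhq₂, hlh₂⟩ :=
    exists_chart (c₂ ≫ gb₂) M₂ m₂ p₂ hmp₂ a₂ I₂ bl₂ hbl₂ hI₂ u₂ hub₂ z₂ q hzq₂ (U₁ ⊓ U₂).ι (i₂ ≫ oM₂)
      (by rw [Category.assoc, ← hUa₂, reassoc_of% hιι₂])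
  have hed₁ : e₁ ≫ δ₁ = d₁' := by
    rw [heδ₁, Category.assoc, hoMι₁]
    refine eq_of_isIso_restrict c₁ V₁ (ProjLib.isIso_morphismRestrict hc₁ V₁ hE₁.2) ?_ ?_
    · rw [Category.assoc, hoc₁, hd₁']
    · rw [Category.assoc, hoc₁]; rintro _ ⟨x, rfl⟩; exact hsec₁ (i₁ x)
  have hed₂ : e₂ ≫ δ₂ = d₂' := by
    rw [heδ₂, Category.assoc, hoMι₂]
    refine eq_of_isIso_restrict c₂ V₂ (ProjLib.isIso_morphismRestrict hc₂ V₂ hE₂.2) ?_ ?_
    · rw [Category.assoc, hoc₂, hd₂']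
    · rw [Category.assoc, hoc₂]; rintro _ ⟨x, rfl⟩; exact hsec₂ (i₂ x)
  have he : e₁ ≫ δ₁ ≫ c₁ ≫ gb₁ = e₂ ≫ δ₂ ≫ c₂ ≫ gb₂ := by
    rw [reassoc_of% hed₁, reassoc_of% hed₂, hd']
  set τ := pullback.lift e₁ e₂ he with hτ
  set J := Scheme.IdealSheafData.vanishingIdeal (⟨closure (Set.range τ), isClosed_closure⟩ : Closeds _)
    with hJ
  haveI : IsReduced J.subscheme := Props12.isReduced_subscheme_vanishingIdeal _
  have hJr : Set.range J.subschemeι = closure (Set.range τ) := by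
    rw [Scheme.IdealSheafData.range_subschemeι]; rfl
  set gW := J.subschemeι ≫ pullback.fst (δ₁ ≫ c₁ ≫ gb₁) (δ₂ ≫ c₂ ≫ gb₂) ≫ δ₁ ≫ c₁ ≫ gb₁ with hgW
  haveI : IsProper gW := inferInstance
  let f₁ := J.subschemeι ≫ pullback.fst (δ₁ ≫ c₁ ≫ gb₁) (δ₂ ≫ c₂ ≫ gb₂)
  let f₂ := J.subschemeι ≫ pullback.snd (δ₁ ≫ c₁ ≫ gb₁) (δ₂ ≫ c₂ ≫ gb₂)
  set A := f₁ ⁻¹ᵁ (δ₁ ⁻¹ᵁ M₁) with hA
  set B := f₂ ⁻¹ᵁ (δ₂ ⁻¹ᵁ M₂) with hB
  have hAB : A ⊔ B = ⊤ := by
    refine top_le_iff.1 fun w _ => ?_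
    by_contra hw
    have hw₁ : δ₁ (f₁ w) ∉ M₁ := fun h => hw (Or.inl h)
    have hw₂ : δ₂ (f₂ w) ∉ M₂ := fun h => hw (Or.inr h)
    let ν : pullback (δ₁ ≫ c₁ ≫ gb₁) (δ₂ ≫ c₂ ≫ gb₂) ⟶ pullback (c₁ ≫ gb₁) (c₂ ≫ gb₂) :=
      pullback.lift (pullback.fst _ _ ≫ δ₁) (pullback.snd _ _ ≫ δ₂)
        (by rw [Category.assoc, Category.assoc, pullback.condition])
    have hν : τ ≫ ν = pullback.lift d₁' d₂' hd' := by
      apply pullback.hom_ext
      · simp only [ν, hτ, Category.assoc, pullback.lift_fst, pullback.lift_fst_assoc, hed₁]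
      · simp only [ν, hτ, Category.assoc, pullback.lift_snd, pullback.lift_snd_assoc, hed₂]
    have hz : ν (J.subschemeι w) ∈ closure (Set.range (pullback.lift d₁' d₂' hd')) := by
      refine closure_mono ?_ (image_closure_subset_closure_image ν.continuous ⟨_, hJr.le ⟨w, rfl⟩, rfl⟩)
      rintro _ ⟨_, ⟨x, rfl⟩, rfl⟩
      exact ⟨x, by rw [← hν]; rfl⟩
    refine hsep _ hz (not_not.1 fun h => hw₁ ?_) (not_not.1 fun h => hw₂ ?_)
    · show δ₁ (f₁ w) ∈ (M₁ : Set B₁')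
      rw [hM₁]
      rwa [← Scheme.Hom.comp_apply, pullback.lift_fst] at h
    · show δ₂ (f₂ w) ∈ (M₂ : Set B₂')
      rw [hM₂]
      rwa [← Scheme.Hom.comp_apply, pullback.lift_snd] at h
  let k₁ := (f₁ ∣_ (δ₁ ⁻¹ᵁ M₁)) ≫ h₁
  let k₂ := (f₂ ∣_ (δ₂ ⁻¹ᵁ M₂)) ≫ h₂
  have hk₁q : k₁ ≫ q = A.ι ≫ gW := by
    simp only [k₁, Category.assoc, hhq₁, morphismRestrict_ι_assoc, hgW]
    rfl
  have hk₂q : k₂ ≫ q = B.ι ≫ gW := by
    simp only [k₂, Category.assoc, hhq₂, morphismRestrict_ι_assoc, hgW]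
    simp only [f₂, Category.assoc, pullback.condition]
    rfl
  -- the common open lifts into both pieces
  let π := pullback.snd J.subschemeι τ
  let τ' := pullback.fst J.subschemeι τ
  have hτ' : τ' ≫ J.subschemeι = π ≫ τ := pullback.condition
  have hπ : Function.Surjective π := fun x => by
    obtain ⟨w, hw⟩ := hJr.ge (subset_closure ⟨x, rfl⟩)
    obtain ⟨y, -, hy⟩ := Scheme.Pullback.exists_preimage_pullback (f := J.subschemeι) (g := τ) w x hw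
    exact ⟨y, hy⟩
  have hτf₁ : τ' ≫ f₁ = π ≫ e₁ := by simp only [f₁]; rw [reassoc_of% hτ']; exact congrArg (π ≫ ·) (pullback.lift_fst _ _ _)
  have hτf₂ : τ' ≫ f₂ = π ≫ e₂ := by simp only [f₂]; rw [reassoc_of% hτ']; exact congrArg (π ≫ ·) (pullback.lift_snd _ _ _)
  have hτA : Set.range τ' ⊆ Set.range (A ⊓ B).ι := by
    rw [Scheme.Opens.range_ι]
    rintro _ ⟨x, rfl⟩
    refine ⟨?_, ?_⟩
    · show f₁ (τ' x) ∈ δ₁ ⁻¹ᵁ M₁
      rw [← Scheme.Hom.comp_apply, hτf₁, ← hle₁]; exact (le₁ (π x)).2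
    · show f₂ (τ' x) ∈ δ₂ ⁻¹ᵁ M₂
      rw [← Scheme.Hom.comp_apply, hτf₂, ← hle₂]; exact (le₂ (π x)).2
  let t := IsOpenImmersion.lift (A ⊓ B).ι τ' hτA
  have ht : t ≫ (A ⊓ B).ι = τ' := IsOpenImmersion.lift_fac _ _ _
  have ht₁ : t ≫ J.subscheme.homOfLE inf_le_left ≫ k₁ = π ≫ (U₁ ⊓ U₂).ι ≫ u₁ ≫ z₁ := by
    have : t ≫ J.subscheme.homOfLE inf_le_left ≫ (f₁ ∣_ (δ₁ ⁻¹ᵁ M₁)) = π ≫ le₁ := by
      rw [← cancel_mono (δ₁ ⁻¹ᵁ M₁).ι, Category.assoc, Category.assoc, morphismRestrict_ι,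
        Scheme.homOfLE_ι_assoc, reassoc_of% ht, hτf₁, Category.assoc, hle₁]
    simp only [k₁]; rw [reassoc_of% this, hlh₁]
  have ht₂ : t ≫ J.subscheme.homOfLE inf_le_right ≫ k₂ = π ≫ (U₁ ⊓ U₂).ι ≫ u₂ ≫ z₂ := by
    have : t ≫ J.subscheme.homOfLE inf_le_right ≫ (f₂ ∣_ (δ₂ ⁻¹ᵁ M₂)) = π ≫ le₂ := by
      rw [← cancel_mono (δ₂ ⁻¹ᵁ M₂).ι, Category.assoc, Category.assoc, morphismRestrict_ι,
        Scheme.homOfLE_ι_assoc, reassoc_of% ht, hτf₂, Category.assoc, hle₂]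
    simp only [k₂]; rw [reassoc_of% this, hlh₂]
  have hdenseτ : Dense (Set.range τ') := fun w => by
    rw [J.subschemeι.isClosedEmbedding.isInducing.closure_eq_preimage_closure_image, Set.mem_preimage,
      ← Set.range_comp]
    refine closure_mono ?_ (hJr.le ⟨w, rfl⟩)
    rintro _ ⟨x, rfl⟩
    obtain ⟨y, rfl⟩ := hπ x
    exact ⟨y, by rw [← Scheme.Hom.comp_apply, ← hτ']; rfl⟩
  haveI : IsDominant t := ⟨fun w => by
    refine closure_subtype.2 (mem_closure_iff.2 fun N hN hwN => ?_)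
    obtain ⟨_, ⟨hyN, hy⟩, x, rfl⟩ := mem_closure_iff.1 (hdenseτ w.1) (N ∩ (A ⊓ B : Scheme.Opens _))
      (hN.inter (A ⊓ B).2) ⟨hwN, w.2⟩
    exact ⟨τ' x, hyN, t x, ⟨x, rfl⟩, by rw [← ht]; rfl⟩⟩
  haveI : IsReduced ((A ⊓ B : Scheme.Opens _) : Scheme.{u}) := isReduced_of_isOpenImmersion (A ⊓ B).ι
  obtain ⟨h, hhA, hhB⟩ := exists_glue_morphisms A B hAB k₁ k₂ (by
    refine ext_of_isDominant_of_isSeparated q ?_ t ?_
    · refine (Category.assoc _ _ _).trans ?_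
      refine Eq.trans ?_ (Category.assoc _ _ _).symm
      rw [hk₁q, hk₂q, Scheme.homOfLE_ι_assoc, Scheme.homOfLE_ι_assoc]
    · rw [ht₁, ht₂, huz])
  have hhq : h ≫ q = gW := by
    refine Scheme.hom_ext_of_forall _ _ fun w => ?_
    rcases (hAB ▸ trivial : w ∈ A ⊔ B) with hw | hw
    · exact ⟨A, hw, by rw [reassoc_of% hhA, hk₁q]⟩
    · exact ⟨B, hw, by rw [reassoc_of% hhB, hk₂q]⟩
  -- the compactification
  set j := u₁ ≫ z₁ with hj
  haveI : IsOpenImmersion j := inferInstance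
  haveI : CompactSpace Z := QuasiCompact.compactSpace_of_compactSpace q
  haveI : QuasiSeparatedSpace Z := quasiSeparatedSpace_of_quasiSeparated q
  haveI : QuasiCompact j := quasiCompact_of_compactSpace j
  haveI : IsProper h := by
    haveI : IsProper (h ≫ q) := by rw [hhq]; infer_instance
    exact IsProper.of_comp h q
  have hcl : Set.range j.imageι ⊆ Set.range h := by
    rw [show Set.range j.imageι = (j.ker.support : Set Z) from Scheme.IdealSheafData.range_subschemeι _,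
      Scheme.Hom.support_ker]
    refine closure_minimal ?_ h.isClosedMap.isClosed_range
    rintro _ ⟨x, rfl⟩
    refine closure_minimal ?_ h.isClosedMap.isClosed_range
      (image_closure_subset_closure_image j.continuous ⟨x, hdense x, rfl⟩)
    rintro _ ⟨y, hy, rfl⟩
    obtain ⟨y', hy'⟩ := hπ ⟨y, hy⟩
    refine ⟨τ' y', ?_⟩
    have e : τ' ≫ h = π ≫ (U₁ ⊓ U₂).ι ≫ j := by
      rw [← ht₁, ← hhA, Scheme.homOfLE_ι_assoc, reassoc_of% ht]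
    rw [← Scheme.Hom.comp_apply, e, Scheme.Hom.comp_apply, hy']
    rfl
  refine ⟨j.image, j.toImage, j.imageι ≫ q, inferInstance, ?_, isProper_of_surjects q gW h hhq j.imageι hcl, ?_⟩
  · haveI : CompactSpace j.image := Scheme.Hom.isClosedEmbedding j.imageι |>.compactSpace
    haveI : QuasiSeparatedSpace j.image := quasiSeparatedSpace_of_quasiSeparated j.imageι
    exact quasiCompact_of_compactSpace _
  · rw [Scheme.Hom.toImage_imageι_assoc, hj, Category.assoc, hzq₁, reassoc_of% hub₁, hap₁]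

end Groth.Agent.FlatMorAdm
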