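import Groth.Agent.BlowUpLib.Separate
import Groth.Agent.SDiv28.BlowUp
import Groth.Agent.FlatMor12.BlowUpDisjoint

/-!
# Making a factor of the centre invertible near the closure of a graph

Given `p : Z ⟶ X` and `f : Y ⟶ Z` avoiding the zero locus of `K₀`, such that the closure of the
image of `f` over the zero locus of `K₀` avoids `V`, the ideal `K₀` can be enlarged to a `V`-admissible
ideal `K` such that `K₀` becomes invertible near the closure of the image of `f` as soon as `K` is.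
-/

set_option autoImplicit false
set_option backward.isDefEq.respectTransparency.types false

universe u

open CategoryTheory Limits AlgebraicGeometry TopologicalSpace

namespace Groth.Agent.FlatMorAdm

open BlowUpLib

theorem exists_eps {X Z Y : Scheme.{u}} [CompactSpace X] [QuasiSeparatedSpace X] [CompactSpace Z]
    (p : Z ⟶ X) (f : Y ⟶ Z) [QuasiCompact f] (V : X.Opens) (hV : IsCompact (V : Set X))
    (K₀ : X.IdealSheafData) (hK₀ : BlowUp.IsFiniteTypeIdeal K₀)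
    (hY : ∀ y : Y, p (f y) ∉ (K₀.support : Set X))
    (hcl : ∀ z ∈ closure (Set.range fun y => f y), p z ∈ (K₀.support : Set X) → p z ∉ V) :
    ∃ K : X.IdealSheafData, BlowUp.IsFiniteTypeIdeal K ∧
      (K.support : Set X) ⊆ (K₀.support : Set X) \ (V : Set X) ∧
      ∀ (X' Z' : Scheme.{u}) (c : X' ⟶ X) (π₁ : Z' ⟶ Z) (π₂ : Z' ⟶ X'), π₁ ≫ p = π₂ ≫ c →
        BlowUp.IsEffCartierIdeal (K.comap c) →
        ∀ z ∈ closure ((fun w => π₁ w) ⁻¹' Set.range fun y => f y),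
          ∃ O : X'.Opens, π₂ z ∈ O ∧ BlowUp.IsEffCartierIdeal (K₀.comap (O.ι ≫ c)) := by
  obtain ⟨M, hM, hMs⟩ := exists_finiteType_support_eq (V : Set X)ᶜ V.isOpen.isClosed_compl
    (by rwa [compl_compl])
  obtain ⟨n, hn⟩ := exists_pow_comap_le p M hM ((K₀ * K₀).comap p ⊔ f.ker) fun z hz => by
    rw [Scheme.IdealSheafData.support_sup] at hz
    obtain ⟨h1, h2⟩ := hz
    rw [Scheme.IdealSheafData.support_comap, Scheme.IdealSheafData.support_mul, sup_idem] at h1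
    rw [Scheme.Hom.support_ker] at h2
    rw [hMs]
    exact hcl z h2 h1
  set M₁ := M ^ (n + 1) with hM₁
  have hM₁s : (M₁.support : Set X) = (V : Set X)ᶜ := by
    rw [hM₁, Scheme.IdealSheafData.support_pow_succ, hMs]
  refine ⟨K₀ ⊔ M₁, fun W => ?_, ?_, fun X' Z' c π₁ π₂ hcomm hc z hz => ?_⟩
  · rw [Scheme.IdealSheafData.ideal_sup, Pi.sup_apply]
    exact Submodule.FG.sup (hK₀ W) (isFiniteType_pow hM _ W)
  · intro x hx
    rw [Scheme.IdealSheafData.support_sup] at hx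
    exact ⟨hx.1, hM₁s.le hx.2⟩
  obtain ⟨W, hxW, -⟩ := exists_affine_mem_le (show c (π₂ z) ∈ (⊤ : X.Opens) from trivial)
  obtain ⟨a, has, haloc⟩ := exists_mem_locus c hc W (show π₂ z ∈ c ⁻¹ᵁ W.1 from hxW)
    ((K₀.ideal W : Set Γ(X, W.1)) ∪ (M₁.ideal W : Set Γ(X, W.1)))
    (by rw [Ideal.span_union, Ideal.span_eq, Ideal.span_eq, Scheme.IdealSheafData.ideal_sup]; rfl)
  obtain ⟨W', hxW', eW, hgen⟩ := mem_locus.1 haloc
  -- it suffices that some element of `K₀` generates the pulled back ideal near `π₂ z`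
  have fin : ∀ (V' : X'.affineOpens) (e : V'.1 ≤ c ⁻¹ᵁ W.1) (b : Γ(X, W.1)), b ∈ K₀.ideal W →
      ((K₀ ⊔ M₁).comap c).ideal V' = Ideal.span {(c.appLE W.1 V'.1 e).hom b} → π₂ z ∈ V'.1 →
      ∃ O : X'.Opens, π₂ z ∈ O ∧ BlowUp.IsEffCartierIdeal (K₀.comap (O.ι ≫ c)) := by
    intro V' e b hb hgenb hzV'
    have hK : (K₀.comap c).ideal V' = Ideal.span {(c.appLE W.1 V'.1 e).hom b} := by
      refine le_antisymm ?_ ((Ideal.span_singleton_le_iff_mem _).2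
        (ProjLib.map_ideal_le_comap_ideal _ c W V' e (Ideal.mem_map_of_mem _ hb)))
      rw [← hgenb, ProjLib.comap_ideal_eq _ c W V' e, ProjLib.comap_ideal_eq _ c W V' e]
      exact Ideal.map_mono ((le_sup_left : K₀ ≤ K₀ ⊔ M₁) W)
    have hnz := mem_nonZeroDivisors_of_eff hc hgenb
    refine ⟨V'.1, hzV', fun x => ?_⟩
    refine ⟨⟨⊤, (@isAffineOpen_top (V'.1 : Scheme.{u}) V'.2)⟩, trivial,
      (V'.1.ι.appLE V'.1 ⊤ (fun y _ => y.2)).hom ((c.appLE W.1 V'.1 e).hom b), ?_, ?_⟩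
    · have hbij : Function.Bijective (V'.1.ι.appLE V'.1 ⊤ (fun y _ => y.2)).hom := by
        rw [Scheme.Opens.ι_appLE]
        exact ConcreteCategory.bijective_of_isIso (X'.presheaf.map (eqToHom
          V'.1.ι_image_top).op)
      refine mem_nonZeroDivisors_iff_right.2 fun y hy => ?_
      obtain ⟨y', rfl⟩ := hbij.2 y
      rw [← map_mul, map_eq_zero_iff _ hbij.1] at hy
      rw [(mem_nonZeroDivisors_iff_right.1 hnz) y' hy, map_zero]
    · rw [Scheme.IdealSheafData.comap_comp,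
        ProjLib.comap_ideal_eq _ V'.1.ι V' ⟨⊤, (@isAffineOpen_top (V'.1 : Scheme.{u}) V'.2)⟩ (fun y _ => y.2), hK,
        Ideal.map_span, Set.image_singleton]
  rcases has with ha | ha
  · exact fin W' eW a ha hgen hxW'
  let φ := (c.appLE W.1 W'.1 eW).hom
  have hspan : ∀ s ∈ (K₀ ⊔ M₁).ideal W, ∃ d, d * φ a = φ s := fun s hs =>
    Ideal.mem_span_singleton'.1
      (hgen.le (ProjLib.map_ideal_le_comap_ideal _ c W W' eW (Ideal.mem_map_of_mem _ hs)))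
  have hle₁ : K₀.ideal W ≤ (K₀ ⊔ M₁).ideal W := (le_sup_left : K₀ ≤ K₀ ⊔ M₁) W
  choose d hd using hspan
  by_cases hu : ∃ b, ∃ hb : b ∈ K₀.ideal W, π₂ z ∈ X'.basicOpen (d b (hle₁ hb))
  · -- `b` generates near `π₂ z`
    obtain ⟨b, hb, hzb⟩ := hu
    let V' : X'.affineOpens := X'.affineBasicOpen (d b (hle₁ hb))
    have hle : V'.1 ≤ W'.1 := X'.basicOpen_le _
    have eV : V'.1 ≤ c ⁻¹ᵁ W.1 := hle.trans eW
    have hres : ∀ s, ModPairLib.res hle (φ s) = (c.appLE W.1 V'.1 eV).hom s := fun s =>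
      ConcreteCategory.congr_hom (c.appLE_map eW (homOfLE hle).op) s
    refine fin V' eV b hb ?_ hzb
    rw [ModPairLib.ideal_restrict _ hle hgen, ← hres, ← hd b (hle₁ hb), map_mul]
    exact (Ideal.span_singleton_mul_left_unit
      (RingedSpace.isUnit_res_basicOpen X'.toRingedSpace _) _).symm
  exfalso
  push Not at hu
  have hcz : ∀ b (hb : b ∈ K₀.ideal W), d b (hle₁ hb) ∈ prm (π₂ z) hxW' := fun b hb =>
    (mem_prm hxW').2 (hu b hb)
  -- affines of `Z` and `Z'`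
  have hzW : p (π₁ z) ∈ W.1 := by
    rw [← Scheme.Hom.comp_apply, hcomm, Scheme.Hom.comp_apply]
    exact hxW
  obtain ⟨P, hzP, eP⟩ := exists_affine_mem_le (show π₁ z ∈ p ⁻¹ᵁ W.1 from hzW)
  obtain ⟨P', hzP', hle⟩ :=
    exists_affine_mem_le (show z ∈ π₁ ⁻¹ᵁ P.1 ⊓ π₂ ⁻¹ᵁ W'.1 from ⟨hzP, hxW'⟩)
  have e₁ : P'.1 ≤ π₁ ⁻¹ᵁ P.1 := fun w hw => (hle hw).1
  have e₂ : P'.1 ≤ π₂ ⁻¹ᵁ W'.1 := fun w hw => (hle hw).2
  let α := (π₁.appLE P.1 P'.1 e₁).hom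
  let β := (π₂.appLE W'.1 P'.1 e₂).hom
  let ψ := (p.appLE W.1 P.1 eP).hom
  have hαβ : ∀ s, α (ψ s) = β (φ s) := by
    intro s
    show (p.appLE W.1 P.1 eP ≫ π₁.appLE P.1 P'.1 e₁).hom s =
      (c.appLE W.1 W'.1 eW ≫ π₂.appLE W'.1 P'.1 e₂).hom s
    rw [Scheme.Hom.appLE_comp_appLE, Scheme.Hom.appLE_comp_appLE]
    simp only [hcomm]
  let ε := β (φ a)
  let Q : Ideal Γ(Z', P'.1) := prm z hzP'
  have hsq : ((K₀ * K₀).comap p).ideal P ≤ (Ideal.span {ε * ε} * Q).comap α := by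
    rw [ProjLib.comap_ideal_eq _ p W P eP, Scheme.IdealSheafData.ideal_mul,
      Ideal.map_le_iff_le_comap, Ideal.comap_comap]
    show K₀.ideal W * K₀.ideal W ≤ _
    rw [Ideal.mul_le]
    intro b hb b' hb'
    show α (ψ (b * b')) ∈ Ideal.span {ε * ε} * Q
    refine Ideal.mem_span_singleton_mul.2 ⟨β (d b (hle₁ hb) * d b' (hle₁ hb')), ?_, ?_⟩
    · exact (appLE_mem_prm π₂ e₂ hzP').2 (Ideal.mul_mem_right _ _ (hcz b hb))
    · rw [hαβ, map_mul φ, ← hd b (hle₁ hb), ← hd b' (hle₁ hb')]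
      simp only [ε, map_mul]
      ring
  have hmem : ψ a ∈ ((K₀ * K₀).comap p).ideal P ⊔ f.ker.ideal P := by
    have h := hn P
    rw [ProjLib.comap_ideal_eq _ p W P eP] at h
    exact h (Ideal.mem_map_of_mem _ ha)
  obtain ⟨s, hs, k, hk, hsk⟩ := Submodule.mem_sup.1 hmem
  obtain ⟨t, ht, hts⟩ := Ideal.mem_span_singleton_mul.1 (hsq hs)
  have hk' : α k = ε * (1 - ε * t) := by
    have h := congrArg α hsk
    rw [map_add, hαβ, ← hts] at h
    linear_combination h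
  have hu' : z ∈ Z'.basicOpen (1 - ε * t) := by
    by_contra h
    exact (inferInstance : Q.IsPrime).ne_top ((Ideal.eq_top_iff_one _).2 (by
      have := Q.add_mem ((mem_prm hzP').2 h) (Q.mul_mem_left ε ht)
      rwa [sub_add_cancel] at this))
  obtain ⟨w, hwu, y, hy⟩ := mem_closure_iff.1 hz _ (Z'.basicOpen (1 - ε * t)).isOpen hu'
  replace hy : f y = π₁ w := hy
  have hwP' : w ∈ P'.1 := Z'.basicOpen_le _ hwu
  have hεw : ε ∉ prm w hwP' := by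
    intro h
    have h' : φ a ∈ prm (π₂ w) (e₂ hwP') := (appLE_mem_prm π₂ e₂ hwP').1 h
    refine hY y ?_
    rw [hy, ← Scheme.Hom.comp_apply, hcomm, Scheme.Hom.comp_apply]
    refine (mem_support_iff_le_prm _ W (eW (e₂ hwP'))).2 fun b hb => ?_
    rw [← appLE_mem_prm c eW (e₂ hwP')]
    exact hd b (hle₁ hb) ▸ Ideal.mul_mem_left _ _ h'
  have hkw : α k ∈ prm w hwP' := by
    rw [appLE_mem_prm π₁ e₁ hwP']
    refine (mem_support_iff_le_prm f.ker P (e₁ hwP')).1 ?_ hk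
    exact f.range_subset_ker_support ⟨y, hy⟩
  rw [hk'] at hkw
  rcases (inferInstance : (prm w hwP').IsPrime).mem_or_mem hkw with h | h
  · exact hεw h
  · exact (mem_prm hwP').1 h hwu

/-- The property of `exists_eps` only needs invertibility near the point. -/
theorem eps_local {X Z Y : Scheme.{u}} {p : Z ⟶ X} {f : Y ⟶ Z} {K K₀ : X.IdealSheafData}
    (h : ∀ (X' Z' : Scheme.{u}) (c : X' ⟶ X) (π₁ : Z' ⟶ Z) (π₂ : Z' ⟶ X'), π₁ ≫ p = π₂ ≫ c →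
      BlowUp.IsEffCartierIdeal (K.comap c) →
      ∀ z ∈ closure ((fun w => π₁ w) ⁻¹' Set.range fun y => f y),
        ∃ O : X'.Opens, π₂ z ∈ O ∧ BlowUp.IsEffCartierIdeal (K₀.comap (O.ι ≫ c)))
    {X' Z' : Scheme.{u}} (c : X' ⟶ X) (π₁ : Z' ⟶ Z) (π₂ : Z' ⟶ X') (hcomm : π₁ ≫ p = π₂ ≫ c)
    (z : Z') (hz : z ∈ closure ((fun w => π₁ w) ⁻¹' Set.range fun y => f y))
    (O₀ : X'.Opens) (hzO : π₂ z ∈ O₀) (hc : BlowUp.IsEffCartierIdeal (K.comap (O₀.ι ≫ c))) :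
    ∃ O : X'.Opens, π₂ z ∈ O ∧ BlowUp.IsEffCartierIdeal (K₀.comap (O.ι ≫ c)) := by
  obtain ⟨O, hO, hOc⟩ := h O₀ (π₂ ⁻¹ᵁ O₀ : Z'.Opens) (O₀.ι ≫ c) ((π₂ ⁻¹ᵁ O₀).ι ≫ π₁) (π₂ ∣_ O₀)
    (by rw [morphismRestrict_ι_assoc, Category.assoc, hcomm]) hc ⟨z, hzO⟩ (by
      refine mem_closure_iff.2 fun G hG hzG => ?_
      obtain ⟨G', hG', rfl⟩ := isOpen_induced_iff.1 hG
      obtain ⟨w, ⟨hwG, hwO⟩, y, hy⟩ := mem_closure_iff.1 hz (G' ∩ (π₂ ⁻¹ᵁ O₀ : Set Z'))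
        (hG'.inter (π₂ ⁻¹ᵁ O₀).isOpen) ⟨hzG, hzO⟩
      exact ⟨⟨w, hwO⟩, hwG, y, hy⟩)
  refine ⟨O₀.ι ''ᵁ O, ⟨_, hO, ?_⟩, ?_⟩
  · show ((π₂ ∣_ O₀) ≫ O₀.ι) ⟨z, hzO⟩ = π₂ z
    rw [morphismRestrict_ι]
    rfl
  · let e := IsOpenImmersion.isoOfRangeEq (O.ι ≫ O₀.ι) (O₀.ι ''ᵁ O).ι (by
      ext x
      simp only [Scheme.Opens.range_ι, SetLike.mem_coe]
      constructor
      · rintro ⟨y, rfl⟩
        exact ⟨O.ι y, y.2, rfl⟩
      · rintro ⟨y, hy, rfl⟩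
        exact ⟨⟨y, hy⟩, rfl⟩)
    have he : (O₀.ι ''ᵁ O).ι = e.inv ≫ O.ι ≫ O₀.ι := by simp [e]
    rw [he, Category.assoc, Category.assoc, Scheme.IdealSheafData.comap_comp]
    exact FlatMor12.BlowUpDisjoint.isEffCartierIdeal_comap _ hOc _

end Groth.Agent.FlatMorAdm
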