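import Groth.Agent.FlatMorAdm.Bir

/-!
# Extending admissible ideals from a quasi-compact open
-/

set_option autoImplicit false
set_option backward.isDefEq.respectTransparency.types false

universe u

open CategoryTheory Limits AlgebraicGeometry TopologicalSpace

namespace Groth.Agent.FlatMorAdm

open BlowUpLib

variable {W Y : Scheme.{u}}

/-- The closure of a closed subscheme of an open restricts to it. -/
theorem ker_comap_closure (j : W ⟶ Y) [IsOpenImmersion j] [QuasiCompact j] (J : W.IdealSheafData) :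
    (J.subschemeι ≫ j).ker.comap j = J := by
  refine Scheme.IdealSheafData.ext (funext fun T => ?_)
  haveI : QuasiCompact (J.subschemeι ≫ j) := inferInstance
  have H : IsPullback J.subschemeι (𝟙 J.subscheme) j (J.subschemeι ≫ j) :=
    IsOpenImmersion.isPullback J.subschemeι (𝟙 J.subscheme) j (J.subschemeι ≫ j) (Category.id_comp _)
      (by rw [Scheme.Hom.opensRange_of_isIso (𝟙 J.subscheme)]; exact top_le_iff.1 fun x _ => ⟨J.subschemeι x, rfl⟩)
  have h := Scheme.ker_ideal_of_isPullback_of_isOpenImmersion (J.subschemeι ≫ j) J.subschemeι (𝟙 _) j H T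
  rw [Scheme.IdealSheafData.ker_subschemeι] at h
  rw [Scheme.IdealSheafData.ideal_comap_of_isOpenImmersion, h]

/-- A finite type ideal on a quasi-compact open, admissible for the trace of `V`, extends to a
`V`-admissible ideal. -/
theorem exists_extend_admissible [CompactSpace Y] [QuasiSeparatedSpace Y] [CompactSpace W]
    (j : W ⟶ Y) [IsOpenImmersion j] (V : Y.Opens) (hV : IsCompact (V : Set Y))
    (J : W.IdealSheafData) (hJ : BlowUp.IsAdmissibleFor (j ⁻¹ᵁ V) J) :
    ∃ J' : Y.IdealSheafData, BlowUp.IsAdmissibleFor V J' ∧ J'.comap j = J := by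
  classical
  haveI : QuasiCompact j := quasiCompact_of_compactSpace j
  set G₀ := (J.subschemeι ≫ j).ker with hG₀
  have hres : G₀.comap j = J := ker_comap_closure j J
  have hcov : ∀ x : W, ∃ (T : W.affineOpens) (G : Y.IdealSheafData), x ∈ T.1 ∧
      BlowUp.IsFiniteTypeIdeal G ∧ G.comap j ≤ J ∧ J.ideal T ≤ (G.comap j).ideal T := by
    intro x
    obtain ⟨T, hxT, -⟩ := exists_affine_mem_le (show x ∈ (⊤ : W.Opens) from trivial)
    let T' : Y.affineOpens := ⟨j ''ᵁ T.1, T.2.image_of_isOpenImmersion j⟩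
    have hfg : (G₀.ideal T').FG := by
      have h := hres ▸ hJ.1 T
      rw [Scheme.IdealSheafData.ideal_comap_of_isOpenImmersion] at h
      have h2 := h.map (j.appIso T.1).inv.hom
      rwa [Ideal.map_comap_of_surjective _
        (ConcreteCategory.bijective_of_isIso (j.appIso T.1).inv).2] at h2
    obtain ⟨G, hGle, hG, hGT, -⟩ := FlatMorStrata.exists_fg_le G₀ T' hfg
    refine ⟨T, G, hxT, hG, (Scheme.IdealSheafData.comap_mono j hGle).trans hres.le, ?_⟩
    rw [← hres, Scheme.IdealSheafData.ideal_comap_of_isOpenImmersion,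
      Scheme.IdealSheafData.ideal_comap_of_isOpenImmersion]
    exact Ideal.comap_mono hGT.ge
  choose T G hxT hG hGle hGge using hcov
  obtain ⟨t, ht⟩ := isCompact_univ.elim_finite_subcover (fun x : W => ((T x).1 : Set W))
    (fun x => (T x).1.2) (fun x _ => Set.mem_iUnion.2 ⟨x, hxT x⟩)
  obtain ⟨M, hM, hMs⟩ := exists_finiteType_support_eq (V : Set Y)ᶜ V.isOpen.isClosed_compl
    (by rwa [compl_compl])
  obtain ⟨n, hn⟩ := exists_pow_comap_le j M hM J fun w hw => by
    rw [hMs]
    exact fun h => Set.disjoint_left.1 hJ.2 hw h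
  refine ⟨(t.sup G) ⊔ M ^ (n + 1), ⟨fun P => ?_, ?_⟩, le_antisymm ?_ ?_⟩
  · rw [Scheme.IdealSheafData.ideal_sup, Pi.sup_apply]
    refine Submodule.FG.sup ?_ (isFiniteType_pow hM _ P)
    refine Finset.sup_induction (p := fun K : Y.IdealSheafData => (K.ideal P).FG) ?_ ?_ fun x _ => hG x P
    · rw [Scheme.IdealSheafData.ideal_bot, Pi.bot_apply]
      exact Submodule.fg_bot
    · intro K₁ h₁ K₂ h₂
      rw [Scheme.IdealSheafData.ideal_sup, Pi.sup_apply]
      exact Submodule.FG.sup h₁ h₂
  · rw [Scheme.IdealSheafData.support_sup, Scheme.IdealSheafData.support_pow_succ]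
    refine Set.disjoint_left.2 fun x hx hxV => ?_
    exact hMs.le hx.2 hxV
  · refine Scheme.IdealSheafData.le_map_iff_comap_le.1 (sup_le (Finset.sup_le fun x _ => ?_) ?_)
    · exact Scheme.IdealSheafData.le_map_iff_comap_le.2 (hGle x)
    · exact Scheme.IdealSheafData.le_map_iff_comap_le.2 hn
  · refine Scheme.IdealSheafData.le_of_iSup_eq_top (fun x : t => T x.1)
      (top_le_iff.1 fun w _ => ?_) fun x => (hGge x.1).trans ?_
    · obtain ⟨x, hx, hw⟩ := Set.mem_iUnion₂.1 (ht (Set.mem_univ w))
      exact Opens.mem_iSup.2 ⟨⟨x, hx⟩, hw⟩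
    · exact Scheme.IdealSheafData.comap_mono j ((Finset.le_sup x.2).trans le_sup_left) (T x.1)

end Groth.Agent.FlatMorAdm
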