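import Groth.Agent.FlatMorAdm.Piece

/-!
# The strict transform of a birational morphism becomes an open immersion

`exists_isOpenImmersion`: for `p : Z ⟶ X` separated of finite type with a section over the
quasi-compact open `U`, some `U`-admissible ideal has the property that after pulling back along any
morphism making it invertible, the closure of the section maps to the base by an open immersion.
-/

set_option autoImplicit false
set_option backward.isDefEq.respectTransparency.types false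

universe u

open CategoryTheory Limits AlgebraicGeometry TopologicalSpace
open Groth.Agent.ModPairLib (res res_res)

namespace Groth.Agent.FlatMorAdm

open BlowUpLib

variable {X Z : Scheme.{u}}

/-- A section over `U` of a separated morphism has closed image over `U`. -/
theorem exists_of_mem_closure (p : Z ⟶ X) [IsSeparated p] (U : X.Opens)
    (σ : (U : Scheme.{u}) ⟶ Z) (hσ : σ ≫ p = U.ι) :
    ∀ z ∈ closure (Set.range fun y => σ y), p z ∈ U → ∃ u, σ u = z := by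
  intro z hz hzU
  let s : (U : Scheme.{u}) ⟶ (p ⁻¹ᵁ U : Z.Opens) := IsOpenImmersion.lift (p ⁻¹ᵁ U).ι σ (by
    rw [Scheme.Opens.range_ι]
    rintro _ ⟨y, rfl⟩
    show p (σ y) ∈ U
    rw [← Scheme.Hom.comp_apply, hσ]
    exact y.2)
  have hs : s ≫ (p ⁻¹ᵁ U).ι = σ := IsOpenImmersion.lift_fac _ _ _
  have hsec : s ≫ (p ∣_ U) = 𝟙 _ := by
    rw [← cancel_mono U.ι, Category.assoc, morphismRestrict_ι, reassoc_of% hs, hσ, Category.id_comp]
  haveI : IsSeparated (p ∣_ U) := MorphismProperty.of_isPullback (P := @IsSeparated.{u})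
    (isPullback_morphismRestrict p U).flip ‹_›
  haveI : IsClosedImmersion (s ≫ (p ∣_ U)) := by rw [hsec]; infer_instance
  haveI : IsClosedImmersion s := IsClosedImmersion.of_comp s (p ∣_ U)
  have hz' : (⟨z, hzU⟩ : (p ⁻¹ᵁ U : Z.Opens)) ∈ closure (Set.range fun y => s y) := by
    refine closure_subtype.2 (closure_mono ?_ hz)
    rintro _ ⟨y, rfl⟩
    exact ⟨s y, ⟨y, rfl⟩, by rw [← hs]; rfl⟩
  obtain ⟨u, hu⟩ := s.isClosedEmbedding.isClosed_range.closure_eq.le hz'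
  refine ⟨u, ?_⟩
  rw [← hs, Scheme.Hom.comp_apply]
  exact congrArg Subtype.val hu

/-- Morphisms to a separated scheme agreeing on a schematically dense open agree. -/
theorem eq_of_denseIn {T S : Scheme.{u}} (h : T ⟶ S) [IsSeparated h] {W D : X.Opens}
    (hD : DenseIn W D) {a b : (W : Scheme.{u}) ⟶ T} (w : a ≫ h = b ≫ h)
    (e : (W.ι ⁻¹ᵁ D).ι ≫ a = (W.ι ⁻¹ᵁ D).ι ≫ b) : a = b := by
  refine ModPairLib.IsDenseOpen.hom_ext ?_ h w e
  intro V s hs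
  refine hD (W.ι ''ᵁ V) (by rintro _ ⟨y, -, rfl⟩; exact y.2) s ?_
  have hle : W.ι ''ᵁ V ⊓ D ≤ W.ι ''ᵁ (V ⊓ W.ι ⁻¹ᵁ D) := by
    rintro _ ⟨⟨y, hy, rfl⟩, hyD⟩
    exact ⟨y, ⟨hy, hyD⟩, rfl⟩
  have h1 : res (W.ι.image_mono (inf_le_left : V ⊓ W.ι ⁻¹ᵁ D ≤ V)) s = 0 := hs
  rw [← res_res (W.ι.image_mono (inf_le_left : V ⊓ W.ι ⁻¹ᵁ D ≤ V)) hle, h1, map_zero]

theorem exists_isOpenImmersion_local [CompactSpace X] [QuasiSeparatedSpace X] (p : Z ⟶ X)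
    [IsSeparated p] [QuasiCompact p] [LocallyOfFiniteType p]
    (U : X.Opens) (hU : IsCompact (U : Set X)) (σ : (U : Scheme.{u}) ⟶ Z) (hσ : σ ≫ p = U.ι) :
    ∃ K : X.IdealSheafData, BlowUp.IsFiniteTypeIdeal K ∧ Disjoint (K.support : Set X) (U : Set X) ∧
      ∀ (X' P' : Scheme.{u}) (c : X' ⟶ X) (p₁ : P' ⟶ Z) (p₂ : P' ⟶ X'), IsPullback p₁ p₂ p c →
      ∀ (σ' : ((c ⁻¹ᵁ U : X'.Opens) : Scheme.{u}) ⟶ P') [QuasiCompact σ'],
        σ' ≫ p₁ = (c ∣_ U) ≫ σ → σ' ≫ p₂ = (c ⁻¹ᵁ U).ι →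
        (∀ γ : σ'.image, ∃ O : X'.Opens, p₂ (σ'.imageι γ) ∈ O ∧
          BlowUp.IsEffCartierIdeal (K.comap (O.ι ≫ c))) → IsOpenImmersion (σ'.imageι ≫ p₂) := by
  classical
  haveI : CompactSpace Z := QuasiCompact.compactSpace_of_compactSpace p
  haveI : CompactSpace (U : Scheme.{u}) := isCompact_iff_compactSpace.1 hU
  haveI : QuasiSeparatedSpace Z := quasiSeparatedSpace_of_quasiSeparated p
  haveI : QuasiCompact σ := quasiCompact_of_compactSpace σ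
  have hcov : ∀ z : Z, ∃ (P : X.affineOpens) (Zj : Z.affineOpens), z ∈ Zj.1 ∧ Zj.1 ≤ p ⁻¹ᵁ P.1 := by
    intro z
    obtain ⟨P, hzP, -⟩ := exists_affine_mem_le (show p z ∈ (⊤ : X.Opens) from trivial)
    obtain ⟨Zj, hz, hle⟩ := exists_affine_mem_le (show z ∈ p ⁻¹ᵁ P.1 from hzP)
    exact ⟨P, Zj, hz, hle⟩
  choose P Zj hz hle using hcov
  obtain ⟨t, ht⟩ := isCompact_univ.elim_finite_subcover (fun z : Z => ((Zj z).1 : Set Z))
    (fun z => (Zj z).1.2) (fun z _ => Set.mem_iUnion.2 ⟨z, hz z⟩)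
  choose K hKft hKd hK using fun z : Z =>
    exists_piece p U hU σ hσ (exists_of_mem_closure p U σ hσ) (P z) (Zj z) (hle z)
  obtain ⟨K₀, hK₀, hK₀s, hK₀c⟩ := exists_prod t K fun z _ => hKft z
  refine ⟨K₀, hK₀, Set.disjoint_left.2 fun x hx hxU => ?_, ?_⟩
  · obtain ⟨z, -, hxz⟩ := hK₀s x hx
    exact Set.disjoint_left.1 (hKd z) hxz hxU
  intro X' P' c p₁ p₂ H σ' _ h₁ h₂ hc
  let π := σ'.imageι ≫ p₂
  haveI : IsSeparated p₂ := MorphismProperty.of_isPullback (P := @IsSeparated.{u}) H ‹_›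
  have hloc : ∀ γ : σ'.image, ∃ (W : X'.Opens) (O : σ'.image.Opens) (e : O ≤ π ⁻¹ᵁ W), γ ∈ O ∧
      IsIso (π.resLE W O e) ∧ DenseIn W ((c ⁻¹ᵁ U).ι ''ᵁ (σ'.toImage ⁻¹ᵁ O)) := by
    intro γ
    obtain ⟨z, hzt, hγ⟩ := Set.mem_iUnion₂.1 (ht (Set.mem_univ (p₁ (σ'.imageι γ))))
    obtain ⟨O, hO, hOc⟩ := hc γ
    exact hK z X' P' c p₁ p₂ H σ' h₁ h₂ γ hγ ⟨O, hO, hK₀c _ _ hOc z hzt⟩
  choose W O e hγO hiso hD using hloc
  refine IsOpenImmersion.of_forall_source_exists π ?_ fun γ => ?_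
  swap
  · refine ⟨_, (O γ).ι, inferInstance, ?_, ?_⟩
    · rw [Scheme.Opens.opensRange_ι]
      exact hγO γ
    · haveI := hiso γ
      rw [← Scheme.Hom.resLE_comp_ι π (e γ)]
      infer_instance
  intro γ δ hγδ
  let W' : X'.Opens := W γ ⊓ W δ
  have hx : π γ ∈ W' := ⟨e γ (hγO γ), hγδ ▸ e δ (hγO δ)⟩
  let sec : ∀ ε : σ'.image, W' ≤ W ε → ((W' : Scheme.{u}) ⟶ σ'.image) := fun ε h =>
    haveI := hiso ε
    X'.homOfLE h ≫ inv (π.resLE (W ε) (O ε) (e ε)) ≫ (O ε).ι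
  have hsecπ : ∀ ε h, sec ε h ≫ π = W'.ι := by
    intro ε h
    haveI := hiso ε
    simp only [sec, Category.assoc]
    rw [← Scheme.Hom.resLE_comp_ι π (e ε), IsIso.inv_hom_id_assoc, Scheme.homOfLE_ι]
  set D := (c ⁻¹ᵁ U).ι ''ᵁ (σ'.toImage ⁻¹ᵁ O γ) ⊓ (c ⁻¹ᵁ U).ι ''ᵁ (σ'.toImage ⁻¹ᵁ O δ) with hDdef
  have hDU : D ≤ c ⁻¹ᵁ U := by
    rintro _ ⟨⟨y, -, rfl⟩, -⟩
    exact y.2
  let k : ((W'.ι ⁻¹ᵁ D : (W' : Scheme.{u}).Opens) : Scheme.{u}) ⟶ (c ⁻¹ᵁ U : X'.Opens) :=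
    IsOpenImmersion.lift (c ⁻¹ᵁ U).ι ((W'.ι ⁻¹ᵁ D).ι ≫ W'.ι) (by
      rw [Scheme.Opens.range_ι]
      rintro _ ⟨y, rfl⟩
      exact hDU y.2)
  have hk : k ≫ (c ⁻¹ᵁ U).ι = (W'.ι ⁻¹ᵁ D).ι ≫ W'.ι := IsOpenImmersion.lift_fac _ _ _
  have key : ∀ ε h, D ≤ (c ⁻¹ᵁ U).ι ''ᵁ (σ'.toImage ⁻¹ᵁ O ε) →
      (W'.ι ⁻¹ᵁ D).ι ≫ sec ε h = k ≫ σ'.toImage := by
    intro ε h hDε
    haveI := hiso ε
    let m := IsOpenImmersion.lift (O ε).ι (k ≫ σ'.toImage) (by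
      rw [Scheme.Opens.range_ι]
      rintro _ ⟨y, rfl⟩
      obtain ⟨y', hy', hyy⟩ := hDε y.2
      have : k y = y' := (c ⁻¹ᵁ U).ι.injective (by
        refine Eq.trans ?_ hyy.symm
        show (k ≫ (c ⁻¹ᵁ U).ι) y = _
        rw [hk]
        rfl)
      show σ'.toImage (k y) ∈ O ε
      rw [this]
      exact hy')
    have hm : m ≫ (O ε).ι = k ≫ σ'.toImage := IsOpenImmersion.lift_fac _ _ _
    have hm' : m ≫ π.resLE (W ε) (O ε) (e ε) = (W'.ι ⁻¹ᵁ D).ι ≫ X'.homOfLE h := by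
      rw [← cancel_mono (W ε).ι, Category.assoc, Category.assoc, Scheme.Hom.resLE_comp_ι,
        reassoc_of% hm, Scheme.homOfLE_ι]
      simp only [π, Scheme.Hom.toImage_imageι_assoc, h₂, hk]
    simp only [sec]
    rw [← reassoc_of% hm', IsIso.hom_inv_id_assoc, hm]
  have heq : sec γ inf_le_left = sec δ inf_le_right := by
    refine eq_of_denseIn π (((hD γ).anti inf_le_left).inf ((hD δ).anti inf_le_right))
      (by rw [hsecπ, hsecπ]) ?_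
    exact (key γ inf_le_left inf_le_left).trans (key δ inf_le_right inf_le_right).symm
  have happ : ∀ ε h (hε : π ε ∈ W'), sec ε h ⟨π ε, hε⟩ = ε := by
    intro ε h hε
    haveI := hiso ε
    have h1 : π.resLE (W ε) (O ε) (e ε) ⟨ε, hγO ε⟩ = X'.homOfLE h ⟨π ε, hε⟩ := by
      apply (W ε).ι.injective
      rw [← Scheme.Hom.comp_apply, ← Scheme.Hom.comp_apply, Scheme.Hom.resLE_comp_ι,
        Scheme.homOfLE_ι]
      rfl
    simp only [sec, Scheme.Hom.comp_apply]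
    rw [← h1]
    simp only [← Scheme.Hom.comp_apply]
    rw [IsIso.hom_inv_id, Category.id_comp]
    rfl
  calc γ = sec γ inf_le_left ⟨π γ, hx⟩ := (happ γ _ _).symm
    _ = sec δ inf_le_right ⟨π γ, hx⟩ := by rw [heq]
    _ = δ := by
      have := happ δ inf_le_right (hγδ ▸ hx)
      convert this using 3
      exact Subtype.ext hγδ

theorem exists_isOpenImmersion [CompactSpace X] [QuasiSeparatedSpace X] (p : Z ⟶ X)
    [IsSeparated p] [QuasiCompact p] [LocallyOfFiniteType p]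
    (U : X.Opens) (hU : IsCompact (U : Set X)) (σ : (U : Scheme.{u}) ⟶ Z) (hσ : σ ≫ p = U.ι) :
    ∃ K : X.IdealSheafData, BlowUp.IsFiniteTypeIdeal K ∧ Disjoint (K.support : Set X) (U : Set X) ∧
      ∀ (X' P' : Scheme.{u}) (c : X' ⟶ X) (p₁ : P' ⟶ Z) (p₂ : P' ⟶ X'), IsPullback p₁ p₂ p c →
      ∀ (σ' : ((c ⁻¹ᵁ U : X'.Opens) : Scheme.{u}) ⟶ P') [QuasiCompact σ'],
        σ' ≫ p₁ = (c ∣_ U) ≫ σ → σ' ≫ p₂ = (c ⁻¹ᵁ U).ι →
        BlowUp.IsEffCartierIdeal (K.comap c) → IsOpenImmersion (σ'.imageι ≫ p₂) := by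
  obtain ⟨K, hK, hKd, h⟩ := exists_isOpenImmersion_local p U hU σ hσ
  refine ⟨K, hK, hKd, fun X' P' c p₁ p₂ H σ' _ h₁ h₂ hc =>
    h X' P' c p₁ p₂ H σ' h₁ h₂ fun γ => ⟨⊤, trivial, ?_⟩⟩
  rw [Scheme.IdealSheafData.comap_comp]
  exact FlatMor12.BlowUpDisjoint.isEffCartierIdeal_comap _ hc _

end Groth.Agent.FlatMorAdm
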