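import Groth.Agent.FlatMorAdm.Compactify

/-!
# Separating a finite family of closed subsets by admissible blow-ups
-/

set_option autoImplicit false
set_option backward.isDefEq.respectTransparency.types false

universe u v

open CategoryTheory Limits AlgebraicGeometry TopologicalSpace

namespace Groth.Agent.FlatMorAdm

open BlowUpLib

/-- A finite fibre product of quasi-compact morphisms over a quasi-compact scheme is quasi-compact. -/
theorem compactSpace_widePullback {S : Scheme.{u}} [CompactSpace S] {ι : Type v} [Finite ι]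
    {X : ι → Scheme.{u}} (f : ∀ i, X i ⟶ S) [∀ i, QuasiCompact (f i)]
    [HasWidePullback S X f] : CompactSpace (widePullback S X f : Scheme.{u}) := by
  classical
  haveI := Fintype.ofFinite ι
  obtain ⟨P, b, p, hP, hp, hlift⟩ : ∃ (P : Scheme.{u}) (b : P ⟶ S)
      (p : ∀ i ∈ (Finset.univ : Finset ι), P ⟶ X i), CompactSpace P ∧ (∀ i hi, p i hi ≫ f i = b) ∧
      ∀ (T : Scheme.{u}) (t : T ⟶ S) (q : ∀ i, T ⟶ X i), (∀ i, q i ≫ f i = t) →
        ∃ k : T ⟶ P, k ≫ b = t ∧ ∀ i hi, k ≫ p i hi = q i := by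
    induction (Finset.univ : Finset ι) using Finset.induction_on with
    | empty => exact ⟨S, 𝟙 S, fun i hi => absurd hi (Finset.notMem_empty i), inferInstance,
        fun i hi => absurd hi (Finset.notMem_empty i),
        fun T t q h => ⟨t, Category.comp_id t, fun i hi => absurd hi (Finset.notMem_empty i)⟩⟩
    | insert a s ha ih =>
      obtain ⟨P, b, p, hP, hp, hlift⟩ := ih
      refine ⟨pullback b (f a), pullback.fst b (f a) ≫ b,
        fun i hi => if h : i = a then pullback.snd b (f a) ≫ eqToHom (by rw [h])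
          else pullback.fst b (f a) ≫ p i ((Finset.mem_insert.1 hi).resolve_left h),
        QuasiCompact.compactSpace_of_compactSpace (pullback.fst b (f a)), ?_, ?_⟩
      · intro i hi
        by_cases h : i = a
        · subst h
          simp [pullback.condition]
        · simp [h, hp]
      · intro T t q hq
        obtain ⟨k, hk, hk'⟩ := hlift T t q hq
        refine ⟨pullback.lift k (q a) (by rw [hk, hq a]), by rw [pullback.lift_fst_assoc, hk], ?_⟩
        intro i hi
        by_cases h : i = a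
        · subst h
          simp only [dite_true, eqToHom_refl, Category.comp_id]
          exact pullback.lift_snd _ _ _
        · simp only [dif_neg h]
          rw [pullback.lift_fst_assoc, hk']
  let g : P ⟶ widePullback S X f :=
    WidePullback.lift b (fun i => p i (Finset.mem_univ i)) (fun i => hp i _)
  obtain ⟨k, hk, hk'⟩ := hlift _ (WidePullback.base f) (fun i => WidePullback.π f i)
    (fun i => WidePullback.π_arrow f i)
  have hkg : k ≫ g = 𝟙 _ := by
    apply WidePullback.hom_ext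
    · intro i
      rw [Category.assoc, WidePullback.lift_π, hk', Category.id_comp]
    · rw [Category.assoc, WidePullback.lift_base, hk, Category.id_comp]
  have hs : Function.Surjective g := fun w => ⟨k w, by
    rw [← Scheme.Hom.comp_apply, hkg]; rfl⟩
  exact hs.compactSpace g.continuous

/-- Separating, by an admissible blow-up of `X`, the boundary from a closed subset of `P`;
no finiteness on `P` beyond quasi-compactness of the complement of `B`. -/
theorem exists_separating_blowUp' {X P : Scheme.{u}} [CompactSpace X] [QuasiSeparatedSpace X]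
    (π : P ⟶ X) (V : X.Opens) (hV : IsCompact (V : Set X)) (Z : Set X) (hZ : IsClosed Z)
    (hZc : IsCompact Zᶜ) (A : Set P) (hA : IsClosed A) (B : Set P) (hB : IsClosed B)
    (hBc : IsCompact Bᶜ) (h : ∀ z ∈ A, π z ∈ Z → π z ∈ V → z ∈ B) :
    ∃ E : X.IdealSheafData, BlowUp.IsAdmissibleFor V E ∧
      ∀ (X' : Scheme.{u}) (c : X' ⟶ X), BlowUp.IsBlowUp c E → ∀ (P' : Scheme.{u}) (μ : P' ⟶ P) (π' : P' ⟶ X'),
        μ ≫ π = π' ≫ c → ∀ z : P', z ∈ closure (μ ⁻¹' (A ∩ π ⁻¹' (V : Set X))) →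
          π' z ∈ closure (c ⁻¹' (Z ∩ (V : Set X))) → μ z ∈ B := by
  set I := Scheme.IdealSheafData.vanishingIdeal (⟨A, hA⟩ : Closeds P) with hI
  have hr : Set.range I.subschemeι = A := by
    rw [Scheme.IdealSheafData.range_subschemeι]; rfl
  set q := I.subschemeι ≫ π with hq
  have hc' : IsCompact (I.subschemeι ⁻¹' B)ᶜ := by
    rw [← Set.preimage_compl]
    exact QuasiCompact.isCompact_preimage (f := I.subschemeι) _ hB.isOpen_compl hBc
  obtain ⟨E, hE, hEs, hmain⟩ := exists_admissible_separating q V hV (q ⁻¹ᵁ V) le_rfl Z hZ hZc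
    (I.subschemeι ⁻¹' B) (hB.preimage I.subschemeι.continuous) hc'
    (fun a ha => h (I.subschemeι a) (hr.le ⟨a, rfl⟩) ha.1 ha.2)
  refine ⟨E, ⟨hE, Set.disjoint_left.2 fun x hx hxV => (hEs hx).2 hxV⟩,
    fun X' c hc P' μ π' w z hz hzY => ?_⟩
  have hsub : μ ⁻¹' (A ∩ π ⁻¹' (V : Set X)) ⊆ μ ⁻¹' A := fun _ hx => hx.1
  have hzA : μ z ∈ A := closure_minimal hsub (hA.preimage μ.continuous) hz
  obtain ⟨a, ha⟩ := hr.ge hzA
  obtain ⟨y, hy₁, hy₂⟩ := Scheme.Pullback.exists_preimage_pullback (f := I.subschemeι) (g := μ) a z ha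
  let k : pullback I.subschemeι μ ⟶ pullback q c :=
    pullback.lift (pullback.fst _ _) (pullback.snd _ _ ≫ π')
      (by rw [hq, reassoc_of% pullback.condition, w, Category.assoc])
  have hk₁ : ∀ o, pullback.fst q c (k o) = pullback.fst I.subschemeι μ o := fun o => by
    rw [← Scheme.Hom.comp_apply, pullback.lift_fst]
  have hk₂ : ∀ o, pullback.snd q c (k o) = π' (pullback.snd I.subschemeι μ o) := fun o => by
    rw [← Scheme.Hom.comp_apply, pullback.lift_snd, Scheme.Hom.comp_apply]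
  have hcl : y ∈ closure (pullback.snd I.subschemeι μ ⁻¹' (μ ⁻¹' (A ∩ π ⁻¹' (V : Set X)))) := by
    rw [(pullback.snd I.subschemeι μ).isClosedEmbedding.isInducing.closure_eq_preimage_closure_image]
    rw [Set.mem_preimage, hy₂]
    refine closure_mono ?_ hz
    intro x hx
    obtain ⟨a', ha'⟩ := hr.ge hx.1
    obtain ⟨y', -, h2⟩ := Scheme.Pullback.exists_preimage_pullback (f := I.subschemeι) (g := μ) a' x ha'
    exact ⟨y', Set.mem_preimage.2 (h2.symm ▸ hx), h2⟩
  have hkU : k y ∈ closure ((fun z => pullback.fst q c z) ⁻¹' ((q ⁻¹ᵁ V : Scheme.Opens _) : Set _)) := by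
    refine closure_mono ?_ (image_closure_subset_closure_image k.continuous ⟨y, hcl, rfl⟩)
    rintro _ ⟨o, ho, rfl⟩
    show q (pullback.fst q c (k o)) ∈ V
    rw [hk₁, hq, Scheme.Hom.comp_apply, show I.subschemeι (pullback.fst I.subschemeι μ o) =
      μ (pullback.snd I.subschemeι μ o) by rw [← Scheme.Hom.comp_apply, pullback.condition]; rfl]
    exact ho.2
  have := hmain X' c hc.1 ⟨show pullback.snd q c (k y) ∈ _ by rw [hk₂, hy₂]; exact hzY, hkU⟩
  have h' : I.subschemeι (pullback.fst q c (k y)) ∈ B := this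
  rwa [hk₁, ← Scheme.Hom.comp_apply, pullback.condition, Scheme.Hom.comp_apply, hy₂] at h'

/-- In a quasi-compact scheme, two disjoint closed subsets are separated by a closed subset with
quasi-compact complement. -/
theorem exists_closed_compact_compl {P : Scheme.{u}} [CompactSpace P] (R C : Set P) (hR : IsClosed R)
    (hC : IsClosed C) (h : Disjoint R C) :
    ∃ B : Set P, IsClosed B ∧ IsCompact Bᶜ ∧ R ⊆ B ∧ Disjoint B C := by
  have hloc : ∀ x : P, x ∈ C → ∃ U : P.affineOpens, x ∈ U.1 ∧ (U.1 : Set P) ⊆ Rᶜ := fun x hx => by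
    obtain ⟨U, hxU, hle⟩ := BlowUpLib.exists_affine_mem_le (O := (⟨Rᶜ, hR.isOpen_compl⟩ : P.Opens))
      (show x ∈ Rᶜ from fun hxR => Set.disjoint_left.1 h hxR hx)
    exact ⟨U, hxU, hle⟩
  choose U hxU hU using hloc
  obtain ⟨t, ht⟩ := hC.isCompact.elim_finite_subcover (fun x : C => ((U x.1 x.2).1 : Set P))
    (fun x => (U x.1 x.2).1.2) (fun x hx => Set.mem_iUnion.2 ⟨⟨x, hx⟩, hxU x hx⟩)
  refine ⟨(⋃ x ∈ t, ((U x.1 x.2).1 : Set P))ᶜ,
    (isOpen_biUnion fun x _ => (U x.1 x.2).1.2).isClosed_compl, ?_, ?_, ?_⟩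
  · rw [compl_compl]
    exact t.finite_toSet.isCompact_biUnion fun x _ => (U x.1 x.2).2.isCompact
  · intro r hr hru
    obtain ⟨x, -, hrx⟩ := Set.mem_iUnion₂.1 hru
    exact hU x.1 x.2 hrx hr
  · exact Set.disjoint_left.2 fun x hxB hxC => hxB (ht hxC)

theorem isAdmissibleFor_top {X : Scheme.{u}} (V : X.Opens) :
    BlowUp.IsAdmissibleFor V (⊤ : X.IdealSheafData) := by
  refine ⟨fun U => ?_, ?_⟩
  · rw [Scheme.IdealSheafData.ideal_top, Pi.top_apply]
    exact Ideal.fg_top _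
  · simp

/-- If on `W ∩ O` the points avoid at least one `Z i`, then after admissible blow-ups the closure
avoids at least one of the closures of the `Z i ∩ V i`. -/
theorem exists_separated_family {m : ℕ} {P₀ : Scheme.{u}} [CompactSpace P₀] (X : Fin m → Scheme.{u})
    [∀ i, CompactSpace (X i)] [∀ i, QuasiSeparatedSpace (X i)] (π : ∀ i, P₀ ⟶ X i)
    (V : ∀ i, (X i).Opens) (hV : ∀ i, IsCompact (V i : Set (X i)))
    (Z : ∀ i, Set (X i)) (hZ : ∀ i, IsClosed (Z i)) (hZc : ∀ i, IsCompact (Z i)ᶜ)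
    (Ub O : Set P₀) (hO : ∀ i, O ⊆ π i ⁻¹' (V i : Set (X i)))
    (hOU : ∀ i, Ub ∩ π i ⁻¹' (V i : Set (X i)) ⊆ O) (s : Finset (Fin m)) :
    ∀ W : Set P₀, IsClosed W → W ⊆ Ub → (∀ z ∈ W ∩ O, ∃ i ∈ s, π i z ∉ Z i) →
    ∃ E : ∀ i, (X i).IdealSheafData, (∀ i, BlowUp.IsAdmissibleFor (V i) (E i)) ∧
      ∀ (X' : Fin m → Scheme.{u}) (c : ∀ i, X' i ⟶ X i), (∀ i ∈ s, BlowUp.IsBlowUp (c i) (E i)) →
      ∀ (P' : Scheme.{u}) (μ : P' ⟶ P₀) (π' : ∀ i, P' ⟶ X' i), (∀ i, μ ≫ π i = π' i ≫ c i) →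
      ∀ z ∈ closure (μ ⁻¹' (W ∩ O)), ∃ i ∈ s, π' i z ∉ closure (c i ⁻¹' (Z i ∩ (V i : Set (X i)))) := by
  classical
  induction s using Finset.induction_on with
  | empty =>
    intro W _ _ h
    refine ⟨fun i => ⊤, fun i => isAdmissibleFor_top _, fun X' c _ P' μ π' _ z hz => ?_⟩
    have he : μ ⁻¹' (W ∩ O) = ∅ := Set.eq_empty_of_forall_notMem fun x hx => by
      obtain ⟨i, hi, -⟩ := h _ hx
      exact Finset.notMem_empty i hi
    rw [he, closure_empty] at hz
    exact hz.elim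
  | insert a t hat ih =>
    intro W hW hWU h
    set W₁ := closure (W ∩ O ∩ π a ⁻¹' Z a) with hW₁
    have hW₁W : W₁ ⊆ W := closure_minimal (fun _ hx => hx.1.1) hW
    have hW₁Z : W₁ ⊆ π a ⁻¹' Z a :=
      closure_minimal (fun _ hx => hx.2) ((hZ a).preimage (π a).continuous)
    obtain ⟨E, hE, hmain⟩ := ih W₁ isClosed_closure (hW₁W.trans hWU) (fun z hz => by
      obtain ⟨i, hi, hiz⟩ := h z ⟨hW₁W hz.1, hz.2⟩
      rcases Finset.mem_insert.1 hi with rfl | hi
      · exact (hiz (hW₁Z hz.1)).elim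
      · exact ⟨i, hi, hiz⟩)
    have hex : ∀ i, ∃ (X' : Scheme.{u}) (c : X' ⟶ X i), QuasiCompact c ∧
        (i ∈ t → BlowUp.IsBlowUp c (E i)) ∧ (i ∉ t → IsIso c) := fun i => by
      by_cases hi : i ∈ t
      · obtain ⟨X', c, hc⟩ := exists_isBlowUp (I := E i)
        haveI := isProper_of_isBlowUp hc (hE i).1
        exact ⟨X', c, inferInstance, fun _ => hc, fun h => absurd hi h⟩
      · exact ⟨X i, 𝟙 _, inferInstance, fun h => absurd h hi, fun _ => inferInstance⟩
    choose X₀ c₀ hc₀q hc₀ hc₀' using hex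
    haveI := hc₀q
    set P₁ := widePullback P₀ (fun i => pullback (π i) (c₀ i)) (fun i => pullback.fst (π i) (c₀ i))
    haveI : CompactSpace (P₁ : Scheme.{u}) := compactSpace_widePullback _
    let μ₁ : P₁ ⟶ P₀ := WidePullback.base _
    let π₁ : ∀ i, P₁ ⟶ X₀ i := fun i =>
      WidePullback.π (fun i => pullback.fst (π i) (c₀ i)) i ≫ pullback.snd (π i) (c₀ i)
    have hsq₁ : ∀ i, μ₁ ≫ π i = π₁ i ≫ c₀ i := fun i => by
      simp only [μ₁, π₁, Category.assoc, ← pullback.condition]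
      rw [← WidePullback.π_arrow (fun i => pullback.fst (π i) (c₀ i)) i, Category.assoc]
    set C₁ : Set P₁ := ⋂ i ∈ t, π₁ i ⁻¹' closure (c₀ i ⁻¹' (Z i ∩ (V i : Set (X i)))) with hC₁
    have hC₁c : IsClosed C₁ := isClosed_biInter fun i _ => isClosed_closure.preimage (π₁ i).continuous
    set R : Set P₁ := closure (μ₁ ⁻¹' (W₁ ∩ O)) with hR
    have hdis : Disjoint R C₁ := Set.disjoint_left.2 fun z hzR hzC => by
      obtain ⟨i, hi, hiz⟩ := hmain X₀ c₀ (fun i hi => hc₀ i hi) P₁ μ₁ π₁ hsq₁ z hzR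
      exact hiz (Set.mem_iInter₂.1 hzC i hi)
    obtain ⟨B, hB, hBc, hRB, hBC⟩ := exists_closed_compact_compl R C₁ isClosed_closure hC₁c hdis
    set A : Set P₁ := closure (μ₁ ⁻¹' (W ∩ O)) with hA
    obtain ⟨Ea, hEa, hsep⟩ := exists_separating_blowUp' (μ₁ ≫ π a) (V a) (hV a) (Z a) (hZ a) (hZc a)
      A isClosed_closure B hB hBc (fun z hz hzZ hzV => by
        have hzW : μ₁ z ∈ W :=
          closure_minimal (fun _ hx => hx.1) (hW.preimage μ₁.continuous) hz
        have hzO : μ₁ z ∈ O := hOU a ⟨hWU hzW, hzV⟩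
        exact hRB (subset_closure ⟨subset_closure ⟨⟨hzW, hzO⟩, hzZ⟩, hzO⟩))
    refine ⟨Function.update E a Ea, fun i => ?_, fun X' c hc P' μ π' hsq z hz => ?_⟩
    · by_cases hi : i = a
      · subst hi; rw [Function.update_self]; exact hEa
      · rw [Function.update_of_ne hi]; exact hE i
    by_cases hza : π' a z ∈ closure (c a ⁻¹' (Z a ∩ (V a : Set (X a))))
    swap
    · exact ⟨a, Finset.mem_insert_self a t, hza⟩
    have hca : BlowUp.IsBlowUp (c a) Ea := by
      have := hc a (Finset.mem_insert_self a t)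
      rwa [Function.update_self] at this
    -- transfer to the chosen blow-ups
    obtain ⟨ρ, hρ, hρt⟩ : ∃ ρ : ∀ i, P' ⟶ pullback (π i) (c₀ i),
        (∀ i, ρ i ≫ pullback.fst (π i) (c₀ i) = μ) ∧ ∀ i ∈ t, ∃ e : X' i ⟶ X₀ i, e ≫ c₀ i = c i ∧
          ρ i ≫ pullback.snd (π i) (c₀ i) = π' i ≫ e := by
      have hex : ∀ i, ∃ ρ : P' ⟶ pullback (π i) (c₀ i), ρ ≫ pullback.fst (π i) (c₀ i) = μ ∧
          (i ∈ t → ∃ e : X' i ⟶ X₀ i, e ≫ c₀ i = c i ∧ ρ ≫ pullback.snd (π i) (c₀ i) = π' i ≫ e) := by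
        intro i
        by_cases hi : i ∈ t
        · have hci : BlowUp.IsBlowUp (c i) (E i) := by
            have := hc i (Finset.mem_insert_of_mem hi)
            rwa [Function.update_of_ne (fun (h : i = a) => hat (by rw [← h]; exact hi))] at this
          obtain ⟨e, he⟩ := exists_iso_of_isBlowUp hci (hc₀ i hi)
          exact ⟨pullback.lift μ (π' i ≫ e.hom) (by rw [Category.assoc, he, hsq]),
            pullback.lift_fst _ _ _, fun _ => ⟨e.hom, he, pullback.lift_snd _ _ _⟩⟩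
        · haveI := hc₀' i hi
          exact ⟨pullback.lift μ (μ ≫ π i ≫ inv (c₀ i)) (by simp),
            pullback.lift_fst _ _ _, fun h => absurd h hi⟩
      choose ρ hρ hρt using hex
      exact ⟨ρ, hρ, hρt⟩
    let k : P' ⟶ P₁ := WidePullback.lift μ ρ hρ
    have hkμ : k ≫ μ₁ = μ := WidePullback.lift_base _ _ _ _
    have hkz : k z ∈ B := by
      refine hsep (X' a) (c a) hca P' k (π' a) (by rw [reassoc_of% hkμ, hsq]) z ?_ hza
      refine closure_mono (fun x hx => ?_) hz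
      have e : μ₁ (k x) = μ x := by rw [← Scheme.Hom.comp_apply, hkμ]
      refine ⟨subset_closure (show μ₁ (k x) ∈ W ∩ O by rw [e]; exact hx), ?_⟩
      show (μ₁ ≫ π a) (k x) ∈ V a
      rw [Scheme.Hom.comp_apply, e]
      exact hO a hx.2
    have hkC : k z ∉ C₁ := Set.disjoint_left.1 hBC hkz
    obtain ⟨i, hi, hiz⟩ : ∃ i ∈ t, k z ∉ π₁ i ⁻¹' closure (c₀ i ⁻¹' (Z i ∩ (V i : Set (X i)))) := by
      by_contra hne
      push_neg at hne
      exact hkC (Set.mem_iInter₂.2 hne)
    refine ⟨i, Finset.mem_insert_of_mem hi, fun hzi => hiz ?_⟩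
    obtain ⟨e, he, he'⟩ := hρt i hi
    have e₁ : π₁ i (k z) = e (π' i z) := by
      rw [← Scheme.Hom.comp_apply, ← Scheme.Hom.comp_apply]
      congr 1
      simp only [k, π₁, WidePullback.lift_π_assoc, he']
    rw [Set.mem_preimage]
    rw [e₁]
    refine closure_mono ?_ (image_closure_subset_closure_image e.continuous ⟨_, hzi, rfl⟩)
    rintro _ ⟨x, hx, rfl⟩
    rw [Set.mem_preimage]
    rw [← Scheme.Hom.comp_apply, he]
    exact hx

end Groth.Agent.FlatMorAdm
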